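import Groth.Agent.ArSurf.K480.Bir
import Groth.Agent.S2422
import Groth.Agent.S2431
import Groth.Agent.Sga1.DescHom
import Groth.Agent.Dix.GenFibre

/-!
# Descending morphisms along proper birational morphisms onto normal schemes

* `isIso_app_of_isBir`: `O_Y → f_* O_X` is an isomorphism for `f` proper birational and `Y` normal.
* `isConnected_fibre`: the fibres of such an `f` are connected.
* `exists_desc`: if `f₁ : X ⟶ Y₁` contracts `C` to a finite set of closed points, and so does `f₂ : X ⟶ Y₂`, then `f₂`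
  factors through `f₁`.
-/

set_option autoImplicit false
universe u

open CategoryTheory CategoryTheory.Limits AlgebraicGeometry TopologicalSpace

namespace K480.Rigid

open Groth.Agent Groth.Agent.Dix.ExcPts

section

variable {X Y : Scheme.{u}} [IsIntegral X] [IsIntegral Y] [IsLocallyNoetherian X] [IsLocallyNoetherian Y]

theorem isIso_app_of_isBir (hY : ∀ q : Y, IsIntegrallyClosed (Y.presheaf.stalk q)) (f : X ⟶ Y) (hf : IsBir f)
    (V : Y.Opens) : IsIso (f.app V) := by
  have := hf.proper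
  refine Groth.Agent.S2422.result (fun q => ⟨inferInstance, hY q⟩) f (specializes_of_eq hf.gen) ?_ V
  intro x _
  have h1 : IsIso (f.stalkMap (genericPoint X)) := hf.bir
  have h2 := ((ConcreteCategory.isIso_iff_bijective _).1 h1).2
  obtain ⟨a, ha⟩ := h2 x
  have key : ∀ y : Y, ∀ (h : f (genericPoint X) = y) (a : Y.presheaf.stalk (f (genericPoint X))),
      ∃ b : Y.presheaf.stalk y, (Y.presheaf.stalkSpecializes (specializes_of_eq h)).hom b = a := by
    rintro y rfl a
    refine ⟨a, ?_⟩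
    rw [TopCat.Presheaf.stalkSpecializes_refl]
    rfl
  obtain ⟨b, hb⟩ := key _ hf.gen a
  refine ⟨b, ?_⟩
  change (f.stalkMap (genericPoint X)).hom ((Y.presheaf.stalkSpecializes _).hom b) = x
  rw [hb]
  exact ha

theorem isConnected_fibre (hY : ∀ q : Y, IsIntegrallyClosed (Y.presheaf.stalk q)) (f : X ⟶ Y) (hf : IsBir f)
    (y : Y) : _root_.IsConnected (f ⁻¹' {y}) := by
  have := hf.proper
  have h1 := (Groth.Agent.S2431.result f (isIso_app_of_isBir hY f hf)).1 y
  rw [← Scheme.Hom.range_fiberι]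
  exact isConnected_range (f.fiberι y).continuous

end

theorem subsingleton_of_finite_closed {T : Type*} [TopologicalSpace T] {F S : Set T} (hF : F.Finite)
    (hcl : ∀ y ∈ F, IsClosed ({y} : Set T)) (hS : IsPreconnected S) (hSF : S ⊆ F) : S.Subsingleton := by
  intro a ha b hb
  by_contra hne
  have h1 : IsClosed ({a} : Set T) := hcl a (hSF ha)
  have h2 : IsClosed (F \ {a}) := by
    have h3 : F \ {a} = ⋃ y ∈ F \ {a}, {y} := (Set.biUnion_of_singleton _).symm
    rw [h3]
    exact (hF.subset fun y hy => hy.1).isClosed_biUnion fun y hy => hcl y hy.1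
  have h3 := isPreconnected_closed_iff.1 hS {a} (F \ {a}) h1 h2 (by
    intro y hy
    by_cases h : y = a
    · exact Or.inl h
    · exact Or.inr ⟨hSF hy, h⟩) ⟨a, ha, rfl⟩ ⟨b, hb, hSF hb, fun h => hne h.symm⟩
  obtain ⟨y, -, hy1, hy2⟩ := h3
  exact hy2.2 hy1

theorem exists_desc {X Y₁ Y₂ : Scheme.{u}} [IsIntegral X] [IsIntegral Y₁] [IsLocallyNoetherian X]
    [IsLocallyNoetherian Y₁] (hY : ∀ q : Y₁, IsIntegrallyClosed (Y₁.presheaf.stalk q))
    (f₁ : X ⟶ Y₁) (f₂ : X ⟶ Y₂) (hf₁ : IsBir f₁) (C : Set X) (hC : f₁ ⁻¹' (f₁ '' C) = C)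
    (U : Y₁.Opens) (hU : (U : Set Y₁) = (f₁ '' C)ᶜ) (hiso : IsIso (f₁ ∣_ U))
    (hfin : (f₂ '' C).Finite) (hcl : ∀ y ∈ f₂ '' C, IsClosed ({y} : Set Y₂)) :
    ∃ g : Y₁ ⟶ Y₂, f₁ ≫ g = f₂ := by
  have := hf₁.proper
  have hsurj : Function.Surjective f₁ := Dix.ExcPts.surjective f₁ hf₁
  have happ := isIso_app_of_isBir hY f₁ hf₁
  have hbij : ∀ V : Y₁.Opens, Function.Bijective (f₁.app V).hom := fun V =>
    (ConcreteCategory.isIso_iff_bijective _).1 (happ V)
  have hquot : Topology.IsQuotientMap f₁ := f₁.isClosedMap.isQuotientMap f₁.continuous hsurj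
  refine (Sga1.DescHom.existsUnique_desc f₁ f₂ hquot (fun V => (hbij V).1) ?_ ?_).exists
  · intro a b hab
    by_cases ha : f₁ a ∈ U
    · rw [Dix.BirIso.inj f₁ U hiso a b ha hab]
    · have ha' : f₁ a ∈ f₁ '' C := by
        by_contra h
        apply ha
        change f₁ a ∈ (U : Set Y₁)
        rw [hU]
        exact h
      have h1 := isConnected_fibre hY f₁ hf₁ (f₁ a)
      have h2 : f₁ ⁻¹' {f₁ a} ⊆ C := by
        intro x hx
        rw [← hC]
        change f₁ x ∈ f₁ '' C
        rw [show f₁ x = f₁ a from hx]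
        exact ha'
      have h3 : (f₂ '' (f₁ ⁻¹' {f₁ a})).Subsingleton :=
        subsingleton_of_finite_closed hfin hcl (h1.isPreconnected.image _ f₂.continuous.continuousOn)
          (Set.image_mono h2)
      exact h3 ⟨a, rfl, rfl⟩ ⟨b, hab.symm, rfl⟩
  · intro W V e f
    exact (hbij V).2 _

theorem eq_of_comp_eq {X Y Z : Scheme.{u}} [IsIntegral X] [IsIntegral Y] [IsLocallyNoetherian X]
    [IsLocallyNoetherian Y] (hY : ∀ q : Y, IsIntegrallyClosed (Y.presheaf.stalk q)) (f : X ⟶ Y) (hf : IsBir f)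
    {a b : Y ⟶ Z} (h : f ≫ a = f ≫ b) : a = b :=
  Sga1.DescHom.hom_ext_of_surjective_injective f (Dix.ExcPts.surjective f hf)
    (fun V => ((ConcreteCategory.isIso_iff_bijective _).1 (isIso_app_of_isBir hY f hf V)).1) h

end K480.Rigid
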