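import Groth.Agent.ArSurf.K480.GGDiv
import Groth.Agent.AbVar.K513.Theta1
import Groth.Agent.AbVar.K526.Reg
import Groth.Agent.ArSurf.K482.CurveVan
import Groth.Agent.S1604
import Groth.Agent.Dix.Cast2

/-!
# Invertible modules of nonnegative degree on integral curves with `H¹(O) = 0` (helper480)

* `isGloballyGenerated`: such a module is globally generated;
* `exists_divisor`: over an infinite field it is `O(D)` with `D` disjoint from a given finite set of points.
-/

set_option autoImplicit false
set_option backward.isDefEq.respectTransparency false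
universe u

open CategoryTheory CategoryTheory.Limits AlgebraicGeometry Opposite TopologicalSpace

namespace K480.GGCurve

open Groth.Agent Groth.Agent.Fdesc.LocGen Groth.Agent.Fdesc Groth.Agent.Grpsch.PicGrp
open Groth.Agent.Fga.JacFactor Groth.Agent.Fga.ZeroClass

variable (k : Type u) [Field k] {Y : Scheme.{u}} [Y.Over (Spec (CommRingCat.of k))]
  [IsProper (Y ↘ (Spec (CommRingCat.of k)))] [IsIntegral Y]

/-- A nonzero section of a module of nonnegative degree. -/
theorem exists_ne_zero (hH1 : Subsingleton (Coh.HH Y (Coh.structureModule Y) 1)) {M : Y.Modules}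
    (hdeg : 0 ≤ ArSurf.curveDeg k Y M) : ∃ s : Coh.structureModule Y ⟶ M, s ≠ 0 := by
  have hfin0 : Module.Finite k (Coh.HH Y (Coh.structureModule Y) 0) :=
    S0002.result k Y _ (S2329.isCoh_of_isInvertible isInvertible_structureModule) 0
  have hnt : Nontrivial (Coh.HH Y (Coh.structureModule Y) 0) := by
    have : Nontrivial Γ(Coh.structureModule Y, ⊤) := inferInstanceAs (Nontrivial Γ(Y, ⊤))
    exact (CurvesB.HZero.equivAdd (Coh.structureModule Y)).toEquiv.nontrivial
  have hpos : 0 < Module.finrank k (Coh.HH Y (Coh.structureModule Y) 0) := Module.finrank_pos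
  have h1 : 0 < Module.finrank k (Coh.HH Y M 0) := by
    unfold ArSurf.curveDeg at hdeg
    rw [K482.CurveVan.eulerCharLE_one k Y M, K482.CurveVan.eulerCharLE_one k Y (Coh.structureModule Y),
      Module.finrank_zero_of_subsingleton (M := Coh.HH Y (Coh.structureModule Y) 1)] at hdeg
    omega
  have h2 : Nontrivial (Coh.HH Y M 0) := Module.nontrivial_of_finrank_pos h1
  by_contra hcon
  push Not at hcon
  have h3 : Subsingleton Γ(M, ⊤) := by
    refine subsingleton_of_forall_eq 0 fun m => ?_
    have h4 := hcon (Fdesc.LocGen.homOf m)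
    have h5 := Fdesc.LocGen.sec_homOf m ⊤
    rw [h4, Fdesc.LocGen.res_refl] at h5
    exact h5.symm
  have h6 : Subsingleton (Coh.HH Y M 0) := (CurvesB.HZero.equivAdd M).toEquiv.subsingleton
  exact not_subsingleton _ h6

omit [Field k] [Y.Over (Spec (CommRingCat.of k))] [IsProper (Y ↘ (Spec (CommRingCat.of k)))] in
theorem isInverseOf_zeroScheme {M : Y.Modules} (hM : PicF.IsInvertible M) (s : Coh.structureModule Y ⟶ M)
    (hs : s ≠ 0) : BlowUp.IsEffCartierIdeal (PicF2.zeroScheme M s) ∧
      ClSub.IsInverseOf M (ClSub.idealMod (PicF2.zeroScheme M s)) := by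
  have hI := K513.Theta1.isEffCartierIdeal_zeroScheme hM s hs
  refine ⟨hI, ?_⟩
  have h1 := mk_eq_inv_dcl hM (sec s ⊤) (K513.Theta1.isZeroIdeal_zeroScheme hM s) hI
  rw [eq_inv_iff_mul_eq_one, dcl, mk_mul_mk, mk_eq_one_iff] at h1
  exact h1

omit [IsIntegral Y] in
include k in
/-- An effective Cartier divisor on a proper curve is affine. -/
theorem isAffine_subscheme (hdim : topologicalKrullDim Y ≤ 1) {M : Y.Modules} (hM : PicF.IsInvertible M)
    {J : Y.IdealSheafData} (hJ : BlowUp.IsEffCartierIdeal J) (hMJ : ClSub.IsInverseOf M (ClSub.idealMod J)) :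
    IsAffine J.subscheme := by
  have h1 := (S1604.result k Y hdim J hJ M hM hMJ 1 M (Ega2.QCohLocal.isFinLocFreeOfRank_one_iff.2 hM)).1
  exact isAffine_of_isAffineHom (J.subschemeι ≫ (Y ↘ (Spec (CommRingCat.of k))))

theorem isGloballyGenerated (hdim : topologicalKrullDim Y ≤ 1)
    (hH1 : Subsingleton (Coh.HH Y (Coh.structureModule Y) 1)) {M : Y.Modules} (hM : PicF.IsInvertible M)
    (hdeg : 0 ≤ ArSurf.curveDeg k Y M) : Curv2.IsGloballyGenerated M := by
  obtain ⟨s, hs⟩ := exists_ne_zero k hH1 hdeg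
  obtain ⟨hJ, hMJ⟩ := isInverseOf_zeroScheme hM s hs
  have := isAffine_subscheme k hdim hM hJ hMJ
  have hk : (PicF2.zeroScheme M s).subschemeι.ker = PicF2.zeroScheme M s := Scheme.IdealSheafData.ker_subschemeι _
  exact (GGDiv.of_divisor (PicF2.zeroScheme M s).subschemeι (by rw [hk]; exact hJ) M (by rw [hk]; exact hMJ) hH1).2

/-- Over an infinite field: a divisor avoiding a finite set of points. -/
theorem exists_divisor [Infinite k] (hdim : topologicalKrullDim Y ≤ 1)
    (hH1 : Subsingleton (Coh.HH Y (Coh.structureModule Y) 1)) {M : Y.Modules} (hM : PicF.IsInvertible M)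
    (hdeg : 0 ≤ ArSurf.curveDeg k Y M) (T : Set Y) (hT : T.Finite) :
    ∃ J : Y.IdealSheafData, BlowUp.IsEffCartierIdeal J ∧ ClSub.IsInverseOf M (ClSub.idealMod J) ∧
      IsAffine J.subscheme ∧ ∀ t ∈ T, t ∉ J.support := by
  have hgg := isGloballyGenerated k hdim hH1 hM hdeg
  obtain ⟨s, hs⟩ := K526.Reg.exists_section k hM hgg (insert (genericPoint Y) T) (hT.insert _)
  have hs0 : s ≠ 0 := by
    intro h0
    have h1 : genericPoint Y ∈ CohB1.genLocus M s := hs (Set.mem_insert _ _)
    rw [Dix.Cast2.genLocus_zero s h0] at h1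
    exact h1
  obtain ⟨hJ, hMJ⟩ := isInverseOf_zeroScheme hM s hs0
  refine ⟨_, hJ, hMJ, isAffine_subscheme k hdim hM hJ hMJ, fun t ht h => ?_⟩
  rw [Pi1C.ZeroScheme.mem_support_iff s hM] at h
  exact h (hs (Set.mem_insert_of_mem _ ht))

end K480.GGCurve
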