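import Groth.Agent.Dix.RegSurfLoc979

/-!
# Dimensions of the local rings of a fibered surface over a Dedekind domain (helper480)

`X` integral, flat and proper (or only of finite type with a closed point over a closed point) of dimension two over
`Spec R`.
-/

set_option autoImplicit false
universe u

open CategoryTheory CategoryTheory.Limits AlgebraicGeometry

namespace K480.SurfDim

open Groth.Agent.Dix Groth.Agent.Dix.GenFibre Groth.Agent.Dix.RegSurfLoc979

variable {R : Type u} [CommRing R] [IsDedekindDomain R] {X : Over (Spec (CommRingCat.of R))}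

theorem stalk_le {Z : Scheme.{u}} {n : WithBot ℕ∞} (hdim : topologicalKrullDim Z ≤ n) (z : Z) :
    ringKrullDim (Z.presheaf.stalk z) ≤ n := by
  rw [ContractSurf.topologicalKrullDim_eq] at hdim
  exact (le_iSup (fun z : Z => ringKrullDim (Z.presheaf.stalk z)) z).trans hdim

/-- The dimension formula. -/
theorem dim_formula [IsIntegral X.left] [Flat X.hom] [LocallyOfFiniteType X.hom] (z : X.left) :
    ∃ m n : ℕ∞, (m : WithBot ℕ∞) = ringKrullDim (X.left.presheaf.stalk z) ∧
      (n : WithBot ℕ∞) = ringKrullDim ((Spec (CommRingCat.of R)).presheaf.stalk (X.hom z)) ∧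
      (m : Cardinal.{u}) + Groth.Agent.CycB.DimIneq.td (X.hom.residueFieldMap z).hom =
        n + Groth.Agent.CycB.DimIneq.td (X.hom.residueFieldMap (genericPoint X.left)).hom := by
  have hgen : X.hom (genericPoint X.left) = genericPoint (Spec (CommRingCat.of R)) := by
    apply PrimeSpectrum.ext
    rw [asIdeal_hom_genericPoint, RegSurfConn979.asIdeal_genericPoint]
  have h := Center.genericPoint_specializes X.left z
  obtain ⟨m, n, h1, h2, h3⟩ := Groth.Agent.CycB.SetupLft.dimension_formula_specializes X.hom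
    isUniversallyCatenary_stalk h
  rw [BirDim.ringKrullDim_locQuot z _ h rfl] at h1
  rw [BirDim.ringKrullDim_locQuot (X.hom z) _ _ hgen] at h2
  exact ⟨m, n, h1, h2, h3⟩

theorem one_le_td [IsIntegral X.left] [Flat X.hom] [LocallyOfFiniteType X.hom]
    (hdim : topologicalKrullDim X.left = 2) :
    (1 : Cardinal.{u}) ≤ Groth.Agent.CycB.DimIneq.td (X.hom.residueFieldMap (genericPoint X.left)).hom := by
  have hex : ∃ z : X.left, ringKrullDim (X.left.presheaf.stalk z) = 2 := by
    by_contra hcon
    push Not at hcon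
    have h1 := hdim
    rw [ContractSurf.topologicalKrullDim_eq] at h1
    have h2 : (⨆ z : X.left, ringKrullDim (X.left.presheaf.stalk z)) ≤ 1 := by
      refine iSup_le fun z => ?_
      exact le_one_of_lt_two _ (lt_of_le_of_ne (stalk_le hdim.le z) (hcon z))
    rw [h1] at h2
    exact absurd h2 (by decide)
  obtain ⟨z, hz⟩ := hex
  obtain ⟨m, n, h1, h2, h3⟩ := dim_formula z
  rw [hz] at h1
  have hm : m = 2 := WithBot.coe_injective h1
  have hn : n ≤ 1 := by
    have := ringKrullDim_stalk_le_one (X.hom z)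
    rw [← h2] at this
    exact_mod_cast this
  subst hm
  rw [Cardinal.one_le_iff_ne_zero]
  intro h0
  rw [h0, add_zero] at h3
  have h6 : ((2 : ℕ∞) : Cardinal.{u}) ≤ (n : Cardinal.{u}) := by
    rw [← h3]; exact le_self_add
  rw [Cardinal.ofENat_le_ofENat] at h6
  exact absurd (h6.trans hn) (by decide)

/-- Every closed point over a closed point of the base has codimension two. -/
theorem ringKrullDim_stalk_eq_two [IsIntegral X.left] [Flat X.hom] [LocallyOfFiniteType X.hom]
    (hdim : topologicalKrullDim X.left = 2) (x : X.left)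
    (hx : IsClosed ({x} : Set X.left)) (hy : (X.hom x).asIdeal ≠ ⊥) :
    ringKrullDim (X.left.presheaf.stalk x) = 2 := by
  obtain ⟨m', n', h1', h2', h3'⟩ := dim_formula x
  rw [trdeg_eq_zero_of_isClosed X.hom x hx, add_zero] at h3'
  rw [ringKrullDim_stalk_eq_one _ hy] at h2'
  have hn' : n' = 1 := WithBot.coe_injective h2'
  subst hn'
  have h4 := one_le_td hdim
  have h5 : (2 : ℕ∞) ≤ m' := by
    rw [← Cardinal.ofENat_le_ofENat.{u}, h3']
    calc ((2 : ℕ∞) : Cardinal.{u}) = 1 + 1 := by norm_num [one_add_one_eq_two]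
      _ ≤ ((1 : ℕ∞) : Cardinal.{u}) + _ := by
        rw [Cardinal.ofENat_one]
        gcongr
  refine le_antisymm (stalk_le hdim.le x) ?_
  rw [← h1']
  exact WithBot.coe_le_coe.2 h5

/-- The points of the generic fibre have codimension at most one, as soon as there is a closed point over a closed
point of the base. -/
theorem ringKrullDim_stalk_le_one_of_generic [IsIntegral X.left] [Flat X.hom] [LocallyOfFiniteType X.hom]
    (hdim : topologicalKrullDim X.left = 2) (x : X.left)
    (hx : IsClosed ({x} : Set X.left)) (hy : (X.hom x).asIdeal ≠ ⊥) (z : X.left) (hz : (X.hom z).asIdeal = ⊥) :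
    ringKrullDim (X.left.presheaf.stalk z) ≤ 1 := by
  obtain ⟨m', n', h1', h2', h3'⟩ := dim_formula x
  rw [trdeg_eq_zero_of_isClosed X.hom x hx, add_zero] at h3'
  rw [ringKrullDim_stalk_eq_one _ hy] at h2'
  rw [ringKrullDim_stalk_eq_two hdim x hx hy] at h1'
  have hn' : n' = 1 := WithBot.coe_injective h2'
  have hm' : m' = 2 := WithBot.coe_injective h1'
  subst hn' hm'
  obtain ⟨m, n, h1, h2, h3⟩ := dim_formula z
  have h4 : ringKrullDim ((Spec (CommRingCat.of R)).presheaf.stalk (X.hom z)) = 0 := by
    have hz' : X.hom z = genericPoint (Spec (CommRingCat.of R)) := by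
      apply PrimeSpectrum.ext
      rw [hz, RegSurfConn979.asIdeal_genericPoint]
    rw [hz']
    exact ringKrullDim_eq_zero_of_field ((Spec (CommRingCat.of R)).functionField)
  rw [h4] at h2
  have hn : n = 0 := WithBot.coe_injective h2
  subst hn
  generalize hT : Groth.Agent.CycB.DimIneq.td (X.hom.residueFieldMap (genericPoint X.left)).hom = T at *
  have h5 : (m : Cardinal.{u}) ≤ T := by
    rw [Cardinal.ofENat_zero, zero_add] at h3
    rw [← h3]
    exact le_self_add
  have h6 : (1 : Cardinal.{u}) + (m : Cardinal.{u}) ≤ ((2 : ℕ∞) : Cardinal.{u}) := by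
    rw [h3', Cardinal.ofENat_one]
    gcongr
  have h7 : ((1 + m : ℕ∞) : Cardinal.{u}) ≤ ((2 : ℕ∞) : Cardinal.{u}) := by
    rw [Cardinal.ofENat_add, Cardinal.ofENat_one]
    exact h6
  rw [Cardinal.ofENat_le_ofENat] at h7
  rw [← h1]
  have h8 : m ≤ 1 := by
    have h9 : (1 : ℕ∞) + m ≤ 1 + 1 := h7.trans (by norm_num)
    exact (ENat.add_le_add_iff_left (by decide)).1 h9
  exact_mod_cast h8

end K480.SurfDim
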