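import Groth.Agent.ArSurf.K480.HenselHor
import Groth.Agent.Divis.CartierBasic

/-!
# Horizontal Cartier divisors over a Henselian discrete valuation ring, construction (helper480)
-/

set_option autoImplicit false
universe u

open CategoryTheory CategoryTheory.Limits AlgebraicGeometry IsLocalRing TopologicalSpace

namespace K480.HorDiv

open Groth.Agent.CycB.LocQuot Groth.Agent.Models.H54 K480.FinHor Groth.Agent.Divis.StalkPrime

theorem exists_elt {A : Type u} [CommRing A] [IsDomain A] [IsNoetherianRing A] [IsLocalRing A]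
    (hd : 2 ≤ ringKrullDim A) (t : A) :
    ∃ f ∈ maximalIdeal A, f ≠ 0 ∧ ∀ P ∈ (Ideal.span {t}).minimalPrimes, f ∉ P := by
  classical
  have hm : (2 : ℕ∞) ≤ (maximalIdeal A).height := by
    have h1 := IsLocalRing.maximalIdeal_height_eq_ringKrullDim (R := A)
    rw [← h1] at hd
    exact WithBot.coe_le_coe.1 hd
  have hfin : (Ideal.span {t}).minimalPrimes.Finite := Ideal.finite_minimalPrimes_of_isNoetherianRing A _
  let S : Finset (Ideal A) := insert ⊥ hfin.toFinset
  have hS : ∀ P ∈ S, P.IsPrime ∧ P.height ≤ 1 := by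
    intro P hP
    rcases Finset.mem_insert.1 hP with rfl | hP
    · refine ⟨Ideal.isPrime_bot, ?_⟩
      rw [Ideal.height_bot]
      exact zero_le_one
    · have hP' := hfin.mem_toFinset.1 hP
      exact ⟨hP'.1.1, Ideal.height_le_one_of_isPrincipal_of_mem_minimalPrimes _ P hP'⟩
  have havoid : ¬ ((maximalIdeal A : Set A) ⊆ ⋃ P ∈ (S : Set (Ideal A)), (P : Set A)) := by
    intro h
    have h1 := (Ideal.subset_union_prime (f := fun P : Ideal A => P) (s := S) ⊥ ⊥
      (fun P hP _ _ => (hS P hP).1)).1 h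
    obtain ⟨P, hP, hle⟩ := h1
    have h2 := Ideal.height_mono hle
    have h3 := (hm.trans h2).trans (hS P hP).2
    norm_num at h3
  obtain ⟨f, hfm, hf⟩ := Set.not_subset.1 havoid
  refine ⟨f, hfm, ?_, ?_⟩
  · rintro rfl
    apply hf
    simp only [Set.mem_iUnion]
    exact ⟨⊥, by simp [S], by simp⟩
  · intro P hP hfP
    apply hf
    simp only [Set.mem_iUnion]
    exact ⟨P, by simp [S, hP], hfP⟩

/-- A prime of height at most one containing `t ≠ 0` is minimal over `t`. -/
theorem mem_minimalPrimes {A : Type u} [CommRing A] [IsDomain A] {P : Ideal A} [hP : P.IsPrime]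
    (h1 : P.height ≤ 1) {t : A} (ht : t ≠ 0) (htP : t ∈ P) : P ∈ (Ideal.span {t}).minimalPrimes := by
  have hle : Ideal.span {t} ≤ P := by
    rw [Ideal.span_singleton_le_iff_mem]; exact htP
  obtain ⟨Q, hQ, hQP⟩ := Ideal.exists_minimalPrimes_le hle
  have hQp : Q.IsPrime := hQ.1.1
  have htQ : t ∈ Q := hQ.1.2 (Ideal.mem_span_singleton_self t)
  rcases eq_or_lt_of_le hQP with h | hlt
  · rwa [← h]
  · exfalso
    have h2 := Ideal.height_add_one_le_of_lt_of_isPrime hlt
    have h3 : Q.height ≠ 0 := fun h => by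
      have h3 := Ideal.height_eq_zero_iff_eq_bot.1 h
      rw [h3] at htQ
      exact ht (by simpa using htQ)
    have h4 : Q.height + 1 ≤ 0 + 1 := by simpa using h2.trans h1
    have h5 : Q.height ≤ 0 := (ENat.add_le_add_iff_right (by simp)).1 h4
    exact h3 (le_antisymm h5 (by simp))

section main

variable (R : Type u) [CommRing R] [IsDomain R] [IsDiscreteValuationRing R] [HenselianLocalRing R]
  (X : Over (Spec (CommRingCat.of R))) [IsIntegral X.left] [Flat X.hom] [IsProper X.hom]

theorem exists_divisor (hdim : topologicalKrullDim X.left = 2) {x : X.left} (hx : IsClosed ({x} : Set X.left))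
    (hxs : X.hom x = (closedPoint R : PrimeSpectrum R)) :
    ∃ 𝓘 : X.left.IdealSheafData, BlowUp.IsEffCartierIdeal 𝓘 ∧ x ∈ 𝓘.support ∧
      (∀ y ∈ 𝓘.support, y ⤳ x ∧ (y = x ∨ X.hom y ≠ (closedPoint R : PrimeSpectrum R))) ∧
      ∃ ζ ∈ 𝓘.support, X.hom ζ ≠ (closedPoint R : PrimeSpectrum R) := by
  classical
  have hN : IsLocallyNoetherian X.left := LocallyOfFiniteType.isLocallyNoetherian X.hom
  obtain ⟨ϖ, hϖ⟩ := IsDiscreteValuationRing.exists_irreducible R
  have hx0 : (X.hom x).asIdeal ≠ ⊥ := by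
    rw [hxs]
    exact IsDiscreteValuationRing.not_a_field R
  have hdx := SurfDim.ringKrullDim_stalk_eq_two hdim x hx hx0
  have hϖ0 : Models.stalkHom R X x ϖ ≠ 0 := HorCartier.stalkHom_ne_zero X x hϖ.ne_zero
  obtain ⟨f, hfm, hf0, hf⟩ := exists_elt hdx.ge (Models.stalkHom R X x ϖ)
  let Z : Set X.left := {y | ∃ h : y ⤳ x, ¬ IsUnit ((X.left.presheaf.stalkSpecializes h).hom f)}
  have hmem : ∀ {y : X.left} (h : y ⤳ x), y ∈ Z ↔ f ∈ (primeOf h).asIdeal := by
    intro y h
    rw [primeOf_asIdeal, mem_ker_specMap_iff]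
    exact ⟨fun ⟨_, h'⟩ => h', fun h' => ⟨h, h'⟩⟩
  have hxZ : x ∈ Z := by
    rw [hmem (specializes_refl x), primeOf_refl]
    exact hfm
  -- the points of `Z` different from `x`
  have hpt : ∀ y ∈ Z, y ≠ x → ∃ h : y ⤳ x, (primeOf h).asIdeal ∈ (Ideal.span {f}).minimalPrimes ∧
      ringKrullDim (X.left.presheaf.stalk y) = 1 ∧ X.hom y ≠ (closedPoint R : PrimeSpectrum R) := by
    intro y hy hyx
    obtain ⟨h, -⟩ := id hy
    have hfP := (hmem h).1 hy
    have hP : (primeOf h).asIdeal.IsPrime := (primeOf h).isPrime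
    have hht : ringKrullDim (X.left.presheaf.stalk y) = (primeOf h).asIdeal.height := by
      have := height_eq (X := X.left) (primeOf h)
      rw [ptOf_primeOf] at this
      exact this
    have h1 := dim_add_one_le h hyx
    rw [hdx, hht] at h1
    have h2 : (primeOf h).asIdeal.height ≤ 1 := by
      have h3 : (primeOf h).asIdeal.height + 1 ≤ 1 + 1 := by
        rw [one_add_one_eq_two]
        exact WithBot.coe_le_coe.1 h1
      exact (ENat.add_le_add_iff_right (by simp)).1 h3
    have h3 : (primeOf h).asIdeal.height ≠ 0 := fun h' => by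
      have h4 := Ideal.height_eq_zero_iff_eq_bot.1 h'
      rw [h4] at hfP
      exact hf0 (by simpa using hfP)
    have h4 : (primeOf h).asIdeal.height = 1 := le_antisymm h2 (Order.one_le_iff_ne_zero.2 h3)
    refine ⟨h, mem_minimalPrimes h2 hf0 hfP, by rw [hht, h4]; rfl, fun hc => ?_⟩
    rw [HorCartier.hom_eq_closedPoint_iff X y hϖ, ← HorCartier.stalkHom_specializes X h,
      ← mem_ker_specMap_iff, ← primeOf_asIdeal] at hc
    exact hf _ (mem_minimalPrimes h2 hϖ0 hc) hfP
  have hfin : Z.Finite := by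
    have h1 : (Ideal.span {f}).minimalPrimes.Finite := Ideal.finite_minimalPrimes_of_isNoetherianRing _ _
    have h2 : {P : PrimeSpectrum (X.left.presheaf.stalk x) | P.asIdeal ∈ (Ideal.span {f}).minimalPrimes}.Finite :=
      h1.preimage (fun P _ Q _ h => PrimeSpectrum.ext h)
    refine ((h2.image ptOf).union (Set.finite_singleton x)).subset ?_
    intro y hy
    by_cases hyx : y = x
    · exact Or.inr hyx
    · obtain ⟨h, h3, -⟩ := hpt y hy hyx
      exact Or.inl ⟨primeOf h, h3, ptOf_primeOf h⟩
  have hclo : ∀ y ∈ Z, closure {y} ⊆ Z := by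
    intro y hy
    by_cases hyx : y = x
    · rw [hyx, hx.closure_eq]
      rintro _ rfl
      exact hxZ
    · obtain ⟨h, -, h3, h4⟩ := hpt y hy hyx
      rw [HenselHor.closure_eq R X hdim hx hxs h h3 h4]
      rintro z (rfl | rfl)
      · exact hy
      · exact hxZ
  have hZ : IsClosed Z := by
    have h1 : Z = ⋃ y ∈ Z, closure {y} := by
      apply subset_antisymm
      · intro y hy
        simp only [Set.mem_iUnion]
        exact ⟨y, hy, subset_closure rfl⟩
      · exact Set.iUnion₂_subset hclo
    rw [h1]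
    exact hfin.isClosed_biUnion fun y _ => isClosed_closure
  have hinj : ∀ {y : X.left} (h : y ⤳ x), (X.left.presheaf.stalkSpecializes h).hom f ≠ 0 := by
    intro y h h0
    have h1 : (X.left.presheaf.stalkSpecializes (genericPoint_specializes y)).hom
        ((X.left.presheaf.stalkSpecializes h).hom f) = 0 := by rw [h0, map_zero]
    have h2 : (X.left.presheaf.stalkSpecializes (genericPoint_specializes x)).hom f = 0 := by
      rw [← h1, ← CommRingCat.comp_apply, TopCat.Presheaf.stalkSpecializes_comp]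
    have h3 : ¬ IsUnit ((X.left.presheaf.stalkSpecializes (genericPoint_specializes x)).hom f) := by
      rw [h2]; exact not_isUnit_zero
    have h4 : genericPoint X.left ∈ Z := ⟨genericPoint_specializes x, h3⟩
    have h7 : ∀ y, y = genericPoint X.left → ringKrullDim (X.left.presheaf.stalk y) = 0 := by
      rintro _ rfl
      exact ringKrullDim_eq_zero_of_field X.left.functionField
    by_cases h5 : genericPoint X.left = x
    · have h6 := h7 x h5.symm
      rw [hdx] at h6
      exact absurd h6 (by decide)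
    · obtain ⟨_, -, h6, -⟩ := hpt _ h4 h5
      rw [h7 _ rfl] at h6
      exact absurd h6 (by decide)
  let t : ∀ y : X.left, X.left.presheaf.stalk y := fun y =>
    if h : y ∈ Z then (X.left.presheaf.stalkSpecializes h.1).hom f else 1
  have ht1 : ∀ {y : X.left} (h : y ∈ Z), t y = (X.left.presheaf.stalkSpecializes h.1).hom f := fun {y} h => by
    simp only [t, dif_pos h]
  have ht2 : ∀ {y : X.left} (h : y ∉ Z), t y = 1 := fun {y} h => by
    simp only [t, dif_neg h]
  have hunit : ∀ y, ¬ IsUnit (t y) ↔ y ∈ Z := by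
    intro y
    by_cases h : y ∈ Z
    · rw [ht1 h]
      obtain ⟨h1, h2⟩ := h
      exact ⟨fun _ => ⟨h1, h2⟩, fun _ => h2⟩
    · rw [ht2 h]
      exact ⟨fun h' => absurd isUnit_one h', fun h' => absurd h' h⟩
  obtain ⟨𝓘, h𝓘, hst⟩ := Groth.Agent.Ega4late.H532.Spread.exists_effCartier (Y := X.left) t (by
      intro y
      refine mem_nonZeroDivisors_of_ne_zero ?_
      by_cases h : y ∈ Z
      · rw [ht1 h]
        exact hinj h.1
      · rw [ht2 h]
        exact one_ne_zero) (by
      intro y' y h
      by_cases hy : y ∈ Z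
      · rw [ht1 hy, ← CommRingCat.comp_apply, TopCat.Presheaf.stalkSpecializes_comp]
        by_cases hy' : y' ∈ Z
        · rw [ht1 hy']
        · rw [ht2 hy', Ideal.span_singleton_one]
          refine Ideal.span_singleton_eq_top.2 ?_
          by_contra hu
          exact hy' ⟨_, hu⟩
      · rw [ht2 hy, map_one, Ideal.span_singleton_one]
        have hy' : y' ∉ Z := fun hy' => hy (h.mem_closed hZ hy')
        rw [ht2 hy', Ideal.span_singleton_one]) (by
      have : {y : X.left | ¬ IsUnit (t y)} = Z := by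
        ext y; exact hunit y
      rw [this]
      exact hZ)
  have hsupp : ∀ y, y ∈ 𝓘.support ↔ y ∈ Z := by
    intro y
    rw [Groth.Agent.Divis.CartierBasic.mem_support_iff_stalkIdeal_le, hst y, Ideal.span_singleton_le_iff_mem,
      IsLocalRing.mem_maximalIdeal, mem_nonunits_iff]
    exact hunit y
  refine ⟨𝓘, h𝓘, (hsupp x).2 hxZ, ?_, ?_⟩
  · intro y hy
    rw [hsupp] at hy
    refine ⟨hy.1, ?_⟩
    by_cases hyx : y = x
    · exact Or.inl hyx
    · obtain ⟨_, -, -, h⟩ := hpt y hy hyx
      exact Or.inr h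
  · have hle : Ideal.span {f} ≤ maximalIdeal (X.left.presheaf.stalk x) := by
      rw [Ideal.span_singleton_le_iff_mem]; exact hfm
    obtain ⟨q, hq, -⟩ := Ideal.exists_minimalPrimes_le hle
    have hqp : q.IsPrime := hq.1.1
    have hfq : f ∈ q := hq.1.2 (Ideal.mem_span_singleton_self f)
    have h1 := Ideal.height_le_one_of_isPrincipal_of_mem_minimalPrimes _ q hq
    let ζ : X.left := ptOf ⟨q, hqp⟩
    have hζ : ζ ⤳ x := ptOf_specializes _
    have hζZ : ζ ∈ Z := by
      rw [hmem hζ]
      have h2 : primeOf hζ = ⟨q, hqp⟩ := primeOf_ptOf _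
      rw [h2]
      exact hfq
    have hζx : ζ ≠ x := by
      intro h
      have h2 : ringKrullDim (X.left.presheaf.stalk ζ) = q.height := height_eq _
      rw [h, hdx] at h2
      have h3 : (2 : ℕ∞) = q.height := WithBot.coe_injective h2
      rw [← h3] at h1
      exact absurd h1 (by decide)
    obtain ⟨_, -, -, h⟩ := hpt ζ hζZ hζx
    exact ⟨ζ, (hsupp ζ).2 hζZ, h⟩

end main

end K480.HorDiv
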