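import Mathlib.RingTheory.Noetherian.Basic
import Mathlib.RingTheory.Finiteness.Basic
import Mathlib.Algebra.Module.LinearMap.Basic

/-!
# A sequence of surjections of finite modules over a Noetherian ring is eventually injective (helper480)
-/

set_option autoImplicit false
universe u v

namespace K480.Stab

theorem exists_stab {R : Type u} [CommRing R] [IsNoetherianRing R] (H : ℕ → Type v) [∀ n, AddCommGroup (H n)]
    [∀ n, Module R (H n)] [Module.Finite R (H 0)] (f : ∀ n, H n →ₗ[R] H (n + 1))
    (hf : ∀ n, Function.Surjective (f n)) : ∃ n₀ : ℕ, ∀ n, n₀ ≤ n → Function.Injective (f n) := by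
  let F : ∀ n, H 0 →ₗ[R] H n := fun n => Nat.rec LinearMap.id (fun n g => (f n).comp g) n
  have hF : ∀ n, F (n + 1) = (f n).comp (F n) := fun n => rfl
  have hFs : ∀ n, Function.Surjective (F n) := by
    intro n
    induction n with
    | zero => exact fun x => ⟨x, rfl⟩
    | succ n ih =>
      rw [hF]
      exact (hf n).comp ih
  let K : ℕ →o Submodule R (H 0) := ⟨fun n => LinearMap.ker (F n), monotone_nat_of_le_succ fun n => by
    rw [hF]
    exact LinearMap.ker_le_ker_comp _ _⟩
  have hN : IsNoetherian R (H 0) := isNoetherian_of_isNoetherianRing_of_finite R (H 0)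
  obtain ⟨n₀, hn₀⟩ := monotone_stabilizes_iff_noetherian.2 hN K
  refine ⟨n₀, fun n hn => ?_⟩
  rw [injective_iff_map_eq_zero]
  intro a ha
  obtain ⟨b, rfl⟩ := hFs n a
  have h1 : b ∈ K (n + 1) := by
    change (F (n + 1)) b = 0
    rw [hF]
    exact ha
  rw [← hn₀ (n + 1) (by omega), hn₀ n hn] at h1
  exact h1

end K480.Stab
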