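import Groth.Agent.ArSurf.K480.Rigid
import Groth.Prelude.Def_ArSurf
import Groth.Prelude.Def_Neron

/-!
# Contractions of vertical curves: first properties and uniqueness
-/

set_option autoImplicit false
universe u

open CategoryTheory CategoryTheory.Limits AlgebraicGeometry TopologicalSpace

namespace K480.Contr

open Groth.Agent Groth.Agent.Dix.ExcPts

theorem genericPoint_ne {X : Scheme.{u}} [IsIntegral X] (hdim : topologicalKrullDim X = 2) (x : X)
    (hx : IsClosed ({x} : Set X)) : genericPoint X ≠ x := by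
  intro h
  have h1 : ∀ z : X, z = x := by
    intro z
    have := Groth.Agent.Dix.Center.genericPoint_specializes X z
    rw [h] at this
    exact this.mem_closed hx rfl
  have h2 : Subsingleton X := ⟨fun a b => by rw [h1 a, h1 b]⟩
  have h3 := hdim
  rw [CurvesB.DimPts.krullDim_eq] at h3
  have h4 : Order.krullDim X ≤ 0 := Order.krullDim_nonpos_of_subsingleton
  rw [h3] at h4
  exact absurd h4 (by decide)

/-- A contraction of finitely many closed subsets is birational. -/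
structure Data {X Y : Scheme.{u}} {r : ℕ} (f : X ⟶ Y) (Z : Fin r → Set X) : Prop where
  fin : (f '' ⋃ i, Z i).Finite
  closed : ∀ y ∈ f '' ⋃ i, Z i, IsClosed ({y} : Set Y)
  iso : ∀ U : Y.Opens, (U : Set Y) = (f '' ⋃ i, Z i)ᶜ → IsIso (f ∣_ U)
  pre : f ⁻¹' (f '' ⋃ i, Z i) = ⋃ i, Z i

theorem Data.mk' {X Y : Scheme.{u}} {r : ℕ} (f : X ⟶ Y) [IsProper f] (Z : Fin r → Set X) (hZ : ∀ i, IsClosed (Z i))
    (hpt : ∀ i, ∃ y : Y, f '' (Z i) = {y}) (hpre : f ⁻¹' (f '' ⋃ i, Z i) = ⋃ i, Z i)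
    (hiso : ∀ V : Y.Opens, (V : Set Y) ∩ f '' (⋃ i, Z i) = ∅ → IsIso (f ∣_ V)) : Data f Z := by
  refine ⟨?_, ?_, ?_, hpre⟩
  · rw [Set.image_iUnion]
    refine Set.finite_iUnion fun i => ?_
    obtain ⟨y, hy⟩ := hpt i
    rw [hy]
    exact Set.finite_singleton y
  · intro y hy
    rw [Set.image_iUnion, Set.mem_iUnion] at hy
    obtain ⟨i, hi⟩ := hy
    obtain ⟨z, hz⟩ := hpt i
    rw [hz] at hi
    obtain rfl : y = z := hi
    rw [← hz]
    exact f.isClosedMap _ (hZ i)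
  · intro U hU
    apply hiso
    rw [hU]
    exact Set.compl_inter_self _

theorem Data.isClosed {X Y : Scheme.{u}} {r : ℕ} {f : X ⟶ Y} {Z : Fin r → Set X} (h : Data f Z) :
    IsClosed (f '' ⋃ i, Z i) := by
  rw [← Set.biUnion_of_singleton (f '' ⋃ i, Z i)]
  exact h.fin.isClosed_biUnion fun y hy => h.closed y hy

theorem Data.isBir {X Y : Scheme.{u}} [IsIntegral X] [IsIntegral Y] {r : ℕ} {f : X ⟶ Y} [IsProper f]
    {Z : Fin r → Set X} (h : Data f Z) (hdim : topologicalKrullDim Y = 2) : IsBir f := by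
  let U : Y.Opens := ⟨(f '' ⋃ i, Z i)ᶜ, h.isClosed.isOpen_compl⟩
  refine Bir.isBir_of_restrict f ⟨U, ⟨genericPoint Y, ?_⟩, h.iso U rfl⟩
  intro hη
  exact genericPoint_ne hdim _ (h.closed _ hη) rfl

theorem exists_desc {X Y₁ Y₂ : Scheme.{u}} [IsIntegral X] [IsIntegral Y₁] [IsLocallyNoetherian X]
    [IsLocallyNoetherian Y₁] (hY : ∀ q : Y₁, IsIntegrallyClosed (Y₁.presheaf.stalk q)) {r : ℕ}
    {f₁ : X ⟶ Y₁} {f₂ : X ⟶ Y₂} {Z : Fin r → Set X} (h₁ : Data f₁ Z) (h₂ : Data f₂ Z) (hb : IsBir f₁) :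
    ∃ g : Y₁ ⟶ Y₂, f₁ ≫ g = f₂ := by
  let U : Y₁.Opens := ⟨(f₁ '' ⋃ i, Z i)ᶜ, h₁.isClosed.isOpen_compl⟩
  exact Rigid.exists_desc hY f₁ f₂ hb _ h₁.pre U rfl (h₁.iso U rfl) h₂.fin h₂.closed

theorem range_comp {X Y E : Scheme.{u}} (i : E ⟶ X) (f : X ⟶ Y) : Set.range (i ≫ f) = f '' Set.range i := by
  rw [← Set.range_comp]
  rfl

end K480.Contr
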