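import Groth.Agent.ArSurf.K480.AdjNum
import Groth.Agent.ArSurf.K479.GenDim

/-!
# Adjunction for the closed fibre and for divisors contained in it (helper480, S13316, S13327)
-/

set_option autoImplicit false
universe u

open CategoryTheory CategoryTheory.Limits AlgebraicGeometry Opposite TopologicalSpace

namespace K480.AdjFib

open Groth.Agent Groth.Agent.Models.H47 K480.MinusTwo K480.AdjNum

variable {R : Type u} [CommRing R] [IsDomain R] [IsDiscreteValuationRing R]
variable {X : Over (Spec (CommRingCat.of R))}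

/-- Invariance of the Euler characteristic: `χ(O_{X_s}) = χ_K(O_{X_K})`. -/
theorem chi_specialFibre (hX : ArSurf.IsArithSurface R X) :
    EulerLen.chi R (ClSub.quotMod (Models.specialFibreIdeal R X)) =
      FGA.eulerCharLE (FractionRing R) ((Neron.genericFibre R).obj X).left
        (Coh.structureModule ((Neron.genericFibre R).obj X).left) 1 := by
  have hXi := hX.2.1
  have hXf := hX.2.2.2.1
  have hpX : IsProper X.hom := Groth.Agent.Dix.InterSurf.isProper_hom hX
  obtain ⟨ϖ, hϖ⟩ := IsDiscreteValuationRing.exists_irreducible R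
  have hpb : IsPullback (pullback.fst X.hom (Neron.genPt R)) (pullback.snd X.hom (Neron.genPt R)) X.hom
      (Spec.map (CommRingCat.ofHom (algebraMap R (FractionRing R)))) := IsPullback.of_hasPullback _ _
  obtain ⟨w, hS⟩ := Models3.H44.EulerInv.exists_shortExact (Models3.H44.EulerInv.genOn_specialFibreIdeal X.hom hϖ)
  have hdim : topologicalKrullDim ((Neron.genericFibre R).obj X).left = 1 :=
    K479.GenDim.topologicalKrullDim_genericFibre X hX.2.2.1
  have h1 := Models3.H44.EulerInv.euler_mul R (pullback.snd X.hom (Neron.genPt R)) X.hom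
    (pullback.fst X.hom (Neron.genPt R)) hpb hdim.le hϖ
    (CurvesB.UnitCoh.isCoh_structureModule X.left) _ _ w hS (Models3.H44.EulerInv.toAbMap_mulHom _)
  rw [Models3.H44.EulerInv.hRank_congr (FractionRing R) _ (CurvesA.HHMap.pullbackUnit _),
    Models3.H44.EulerInv.hRank_congr (FractionRing R) _ (CurvesA.HHMap.pullbackUnit _)] at h1
  rw [K482.CurveVan.eulerCharLE_one]
  exact h1

/-- S13316. -/
theorem fibre_formula (hX : ArSurf.IsArithSurface R X) {n : ℕ} (Γ : Fin n → ArSurf.VertComp R X)
    (hΓ : Models.IsComponentList R X Γ) (ω : X.left.Modules) (hadj : Adj R X ω) :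
    ∑ i, (Models.mult R X (Γ i) : ℤ) * ArSurf.inter R X ω (Γ i) =
      -2 * FGA.eulerCharLE (FractionRing R) ((Neron.genericFibre R).obj X).left
        (Coh.structureModule ((Neron.genericFibre R).obj X).left) 1 := by
  have hXi := hX.2.1
  have hXf := hX.2.2.2.1
  have hpX : IsProper X.hom := Groth.Agent.Dix.InterSurf.isProper_hom hX
  have hNX : IsLocallyNoetherian X.left := LocallyOfFiniteType.isLocallyNoetherian X.hom
  have hE : ∀ i, BlowUp.IsEffCartierIdeal (Γ i).ι.ker := fun i =>
    Models.H36.FibreFact.isEffCartier_ker (X := X) hX.1 (Γ i) (Models.H36.FibreFact.range_mem_fibreComponents hΓ i)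
  have hL' : ∀ i, ∃ L : X.left.Modules, ClSub.IsInverseOf L (ClSub.idealMod (Γ i).ι.ker) := by
    intro k
    have hIi := Dix.IdealModCartier.isInvertible_idealMod (hE k)
    obtain ⟨M, hM, ⟨e⟩⟩ := Groth.Agent.Grpsch.PicGrp.exists_inverse hIi
    refine ⟨M, ?_⟩
    have h1 : Groth.Agent.Grpsch.PicGrp.mk _ hIi * Groth.Agent.Grpsch.PicGrp.mk M hM = 1 := by
      rw [Groth.Agent.Grpsch.PicGrp.mk_mul_mk, Groth.Agent.Grpsch.PicGrp.mk_eq_one_iff]
      exact ⟨e⟩
    rw [mul_comm, Groth.Agent.Grpsch.PicGrp.mk_mul_mk, Groth.Agent.Grpsch.PicGrp.mk_eq_one_iff] at h1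
    exact h1
  choose L hL using hL'
  have h1 := (chi_gen hX Γ L hL ω hadj (fun i => Models.mult R X (Γ i))).2
  rw [← Models.H36.FibreFact.specialFibreIdeal_eq_prod (X := X) hX.1 hΓ, chi_specialFibre hX] at h1
  have horth : ∀ i, ∑ j, (Models.mult R X (Γ j) : ℤ) * ArSurf.inter R X (L j) (Γ i) = 0 := by
    intro i
    have h2 := GenusD.qd_specialFibre (Γ i)
    rw [Models.H36.FibreFact.specialFibreIdeal_eq_prod (X := X) hX.1 hΓ, GenusD.qd_prod (Γ i) _ hE] at h2
    have hq : ∀ j, GenusD.qd (Γ i) (Γ j).ι.ker = - ArSurf.inter R X (L j) (Γ i) := by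
      intro j
      have := Models.H65.InterProper.inter_inverse (hL j) (Γ i)
      unfold GenusD.qd
      linarith
    simp only [hq] at h2
    rw [show ∑ j, (Models.mult R X (Γ j) : ℤ) * -ArSurf.inter R X (L j) (Γ i) =
      -∑ j, (Models.mult R X (Γ j) : ℤ) * ArSurf.inter R X (L j) (Γ i) by
        rw [← Finset.sum_neg_distrib]
        exact Finset.sum_congr rfl fun j _ => by ring] at h2
    linarith
  simp only [horth, zero_add] at h1
  linarith

/-- `χ_R(O_Z)` for `Z` over the residue field. -/
theorem chi_eq_hRank (hX : ArSurf.IsArithSurface R X) (D : X.left.IdealSheafData)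
    (g : D.subscheme ⟶ Spec (CommRingCat.of (IsLocalRing.ResidueField R)))
    (hg : g ≫ Spec.map (CommRingCat.ofHom (IsLocalRing.residue R)) = D.subschemeι ≫ X.hom) :
    EulerLen.chi R (ClSub.quotMod D) =
      (Models.hRank (IsLocalRing.ResidueField R) D.subscheme g (Coh.structureModule D.subscheme) 0 : ℤ) -
        (Models.hRank (IsLocalRing.ResidueField R) D.subscheme g (Coh.structureModule D.subscheme) 1 : ℤ) := by
  have hpX : IsProper X.hom := Groth.Agent.Dix.InterSurf.isProper_hom hX
  have hq : Coh.IsCoh (Coh.structureModule D.subscheme) := by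
    have hN : IsLocallyNoetherian D.subscheme := by
      have : IsLocallyNoetherian X.left := LocallyOfFiniteType.isLocallyNoetherian X.hom
      exact LocallyOfFiniteType.isLocallyNoetherian D.subschemeι
    exact CurvesB.UnitCoh.isCoh_structureModule _
  have hpg : IsProper g := by
    have h1 : IsProper (g ≫ Spec.map (CommRingCat.ofHom (IsLocalRing.residue R))) := by
      rw [hg]
      infer_instance
    exact IsProper.of_comp g (Spec.map (CommRingCat.ofHom (IsLocalRing.residue R)))
  letI iR : D.subscheme.Over (Spec (CommRingCat.of R)) :=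
    ⟨g ≫ Spec.map (CommRingCat.ofHom (IsLocalRing.residue R))⟩
  letI ik : D.subscheme.Over (Spec (CommRingCat.of (IsLocalRing.ResidueField R))) := ⟨g⟩
  have hpk : IsProper (D.subscheme ↘ Spec (CommRingCat.of (IsLocalRing.ResidueField R))) := hpg
  rw [EulerVert.chi_push R D.subschemeι hg.symm _ hq.1]
  have h1 : ∀ i, (Module.length R (Coh.HH D.subscheme (Coh.structureModule D.subscheme) i)).toNat =
      Models.hRank (IsLocalRing.ResidueField R) D.subscheme g (Coh.structureModule D.subscheme) i := by
    intro i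
    have hfin : Module.Finite (IsLocalRing.ResidueField R)
        (Coh.HH D.subscheme (Coh.structureModule D.subscheme) i) :=
      Groth.Agent.S0002.result (IsLocalRing.ResidueField R) D.subscheme _ hq i
    rw [EulerVert.length_over (IsLocalRing.residue R) IsLocalRing.residue_surjective rfl,
      Module.length_eq_finrank]
    rfl
  unfold EulerLen.chi
  rw [h1, h1]

end K480.AdjFib
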