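import Groth.Agent.ArSurf.K480.MinusTwo
import Groth.Agent.Models.H45.WDeg
import Groth.Agent.Models3.H44.EulerInv
import Groth.Agent.S7888
import Groth.Prelude.Def_Canon

/-!
# Numerical consequences of the adjunction formula on arithmetic surfaces (helper480)

`Adj R X ω`: the adjunction formula for the vertical prime divisors (statement S13317).

* `chi_gen`: `2 χ(O_Z) = - Σ a_i (Z·Γ_i + K·Γ_i)`;
* `htwo_of_adj`: curves with `K·Γ = 0`, `Γ·Γ < 0` are (-2)-curves;
-/

set_option autoImplicit false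
universe u

open CategoryTheory CategoryTheory.Limits AlgebraicGeometry Opposite TopologicalSpace

namespace K480.AdjNum

open Groth.Agent Groth.Agent.Models.H47 K480.MinusTwo

section

variable (R : Type u) [CommRing R] [IsDomain R] [IsDiscreteValuationRing R]
variable (X : Over (Spec (CommRingCat.of R)))

/-- The adjunction formula for the vertical prime divisors. -/
def Adj (ω : X.left.Modules) : Prop :=
  ∀ (E : ArSurf.VertComp R X) (L : X.left.Modules), ClSub.IsInverseOf L (ClSub.idealMod E.ι.ker) →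
    ArSurf.inter R X L E + ArSurf.inter R X ω E =
      -2 * FGA.eulerCharLE (IsLocalRing.ResidueField R) E.curve.left (Coh.structureModule E.curve.left) 1

end

variable {R : Type u} [CommRing R] [IsDomain R] [IsDiscreteValuationRing R]
variable {X : Over (Spec (CommRingCat.of R))}

theorem euler_eq (E : ArSurf.VertComp R X) :
    FGA.eulerCharLE (IsLocalRing.ResidueField R) E.curve.left (Coh.structureModule E.curve.left) 1 =
      (Models.wdeg R X E : ℤ) - (Models.h1 R X E : ℤ) := by
  rw [K482.CurveVan.eulerCharLE_one]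
  rfl

/-- `2 χ(O_Z) = - Σ a_i (Z·Γ_i + K·Γ_i)`. -/
theorem chi_gen (hX : ArSurf.IsArithSurface R X) {r : ℕ} (Γ : Fin r → ArSurf.VertComp R X)
    (L : Fin r → X.left.Modules) (hL : ∀ j, ClSub.IsInverseOf (L j) (ClSub.idealMod (Γ j).ι.ker))
    (ω : X.left.Modules) (hadj : Adj R X ω) (a : Fin r → ℕ) :
    EulerLen.Good R (ClSub.quotMod (∏ j, (Γ j).ι.ker ^ a j)) ∧
    2 * EulerLen.chi R (ClSub.quotMod (∏ j, (Γ j).ι.ker ^ a j)) =
      - ∑ i, (a i : ℤ) * (∑ j, (a j : ℤ) * ArSurf.inter R X (L j) (Γ i) + ArSurf.inter R X ω (Γ i)) := by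
  have hXi := hX.2.1
  have hXf := hX.2.2.2.1
  have hpX : IsProper X.hom := Groth.Agent.Dix.InterSurf.isProper_hom hX
  have hE : ∀ i, BlowUp.IsEffCartierIdeal (Γ i).ι.ker := fun i =>
    Dix.IdealModCartier.isEffCartierIdeal_of_isInverseOf (hL i)
  have hstep : ∀ i, GenusD.Step (Γ i) := fun i => EulerStep.step (Γ i)
  refine ⟨GenusD.good_chi_prod hE hstep a, ?_⟩
  induction a using Numeric.vec_induction with
  | h0 =>
    have : ∏ i, (Γ i).ι.ker ^ (0 : Fin r → ℕ) i = 1 := Finset.prod_eq_one fun i _ => pow_zero _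
    rw [this, GenusD.quotMod_one.2]
    simp
  | hs a i ih =>
    have hprod : ∏ j, (Γ j).ι.ker ^ (a + Pi.single i 1 : Fin r → ℕ) j = (∏ j, (Γ j).ι.ker ^ a j) * (Γ i).ι.ker := by
      simp only [Pi.add_apply, pow_add, Finset.prod_mul_distrib]
      congr 1
      rw [Finset.prod_eq_single i]
      · rw [Pi.single_eq_same, pow_one]
      · intro j _ hj
        rw [Pi.single_eq_of_ne hj, pow_zero]
      · intro h
        exact absurd (Finset.mem_univ i) h
    rw [hprod, (hstep i _ (Dix.IdealQuot.isEff_prod _ hE _ _) (GenusD.good_chi_prod hE hstep a)).2,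
      GenusD.qd_prod _ _ hE, mul_add, mul_add, ih]
    have hq : ∀ j, GenusD.qd (Γ i) (Γ j).ι.ker = - ArSurf.inter R X (L j) (Γ i) := by
      intro j
      have := Models.H65.InterProper.inter_inverse (hL j) (Γ i)
      unfold GenusD.qd
      linarith
    have h1 : ∀ (A : Fin r → Fin r → ℤ) (K : Fin r → ℤ), (∀ k l, A k l = A l k) →
        ∑ k, (((a + Pi.single i 1 : Fin r → ℕ) k : ℕ) : ℤ) *
            (∑ l, (((a + Pi.single i 1 : Fin r → ℕ) l : ℕ) : ℤ) * A k l + K k) =
          ∑ k, (a k : ℤ) * (∑ l, (a l : ℤ) * A k l + K k) + 2 * ∑ l, (a l : ℤ) * A i l + A i i + K i := by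
      intro A K hA
      have h2 : ∀ F : Fin r → ℤ, ∑ l, (((a + Pi.single i 1 : Fin r → ℕ) l : ℕ) : ℤ) * F l =
          ∑ l, (a l : ℤ) * F l + F i := by
        intro F
        simp only [Pi.add_apply, Nat.cast_add, add_mul, Finset.sum_add_distrib]
        congr 1
        rw [Finset.sum_eq_single i]
        · rw [Pi.single_eq_same, Nat.cast_one, one_mul]
        · intro j _ hj
          rw [Pi.single_eq_of_ne hj, Nat.cast_zero, zero_mul]
        · intro h
          exact absurd (Finset.mem_univ i) h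
      rw [h2]
      simp only [h2]
      have h3 : ∑ k, (a k : ℤ) * (∑ l, (a l : ℤ) * A k l + A k i + K k) =
          ∑ k, (a k : ℤ) * (∑ l, (a l : ℤ) * A k l + K k) + ∑ l, (a l : ℤ) * A i l := by
        rw [← Finset.sum_add_distrib]
        refine Finset.sum_congr rfl fun k _ => ?_
        rw [hA k i]
        ring
      rw [h3]
      ring
    rw [h1 (fun k l => ArSurf.inter R X (L l) (Γ k)) (fun k => ArSurf.inter R X ω (Γ k))
      (fun k l => inter_symm hX Γ L hL k l)]
    have h4 := hadj (Γ i) (L i) (hL i)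
    rw [euler_eq] at h4
    simp only [hq]
    rw [show ∑ j, (a j : ℤ) * -ArSurf.inter R X (L j) (Γ i) = -∑ j, (a j : ℤ) * ArSurf.inter R X (L j) (Γ i) by
      rw [← Finset.sum_neg_distrib]
      exact Finset.sum_congr rfl fun j _ => by ring]
    linarith

theorem wdeg_pos (hX : ArSurf.IsArithSurface R X) (E : ArSurf.VertComp R X) : 0 < Models.wdeg R X E := by
  have hpX : IsProper X.hom := Groth.Agent.Dix.InterSurf.isProper_hom hX
  exact Models.H45.WDeg.wdeg_pos E

/-- A curve with `K·Γ = 0` and `Γ·Γ < 0` is a (-2)-curve. -/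
theorem htwo_of_adj (hX : ArSurf.IsArithSurface R X) (E : ArSurf.VertComp R X) (L : X.left.Modules)
    (hL : ClSub.IsInverseOf L (ClSub.idealMod E.ι.ker)) (ω : X.left.Modules) (hadj : Adj R X ω)
    (hK : ArSurf.inter R X ω E = 0) (hneg : ArSurf.inter R X L E < 0) :
    Models.h1 R X E = 0 ∧ ArSurf.inter R X L E = -2 * (Models.wdeg R X E : ℤ) := by
  have hpX : IsProper X.hom := Groth.Agent.Dix.InterSurf.isProper_hom hX
  have h1 := hadj E L hL
  rw [euler_eq, hK, add_zero] at h1
  obtain ⟨c, hc⟩ := Models.H45.WDeg.wdeg_dvd_h1 E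
  have hw := wdeg_pos hX E
  have h2 : (Models.h1 R X E : ℤ) < Models.wdeg R X E := by linarith
  have h3 : Models.h1 R X E < Models.wdeg R X E := by exact_mod_cast h2
  have h4 : Models.h1 R X E = 0 := by
    rcases Nat.eq_zero_or_pos c with h | h
    · rw [hc, h, mul_zero]
    · have := Nat.le_mul_of_pos_right (Models.wdeg R X E) h
      omega
  refine ⟨h4, ?_⟩
  rw [h1, h4]
  push_cast
  ring

end K480.AdjNum
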