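import Groth.Agent.Dix.ExcFactor
import Groth.Agent.Dix.SurfBasic

/-!
# Birational morphisms of arithmetic surfaces

* `isSurf`: an arithmetic surface over a Noetherian domain is a surface in the sense of `Dix.ExcPts`.
* `isBir_of_restrict`: a proper morphism which is an isomorphism over a nonempty open subset is birational.
-/

set_option autoImplicit false
universe u

open CategoryTheory CategoryTheory.Limits AlgebraicGeometry TopologicalSpace

namespace K480.Bir

open Groth.Agent Groth.Agent.Dix.ExcPts

theorem isSurf {R : Type u} [CommRing R] [IsDomain R] [IsNoetherianRing R] {X : Over (Spec (CommRingCat.of R))}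
    (hX : ArSurf.IsArithSurface R X) : IsSurf X.left :=
  ⟨hX.2.1, Dix.SurfBasic.isNoetherian hX, hX.1, Dix.SurfBasic.coheight_le hX⟩

theorem isBir_of_restrict {X Y : Scheme.{u}} [IsIntegral X] [IsIntegral Y] (f : X ⟶ Y) [IsProper f]
    (hbir : ∃ U : Y.Opens, (U : Set Y).Nonempty ∧ IsIso (f ∣_ U)) : IsBir f := by
  obtain ⟨U, ⟨y, hy⟩, hiso⟩ := hbir
  have hη : genericPoint Y ∈ U :=
    ((genericPoint_spec Y).mem_open_set_iff U.isOpen).2 ⟨y, trivial, hy⟩
  have h1 := Dix.BirIso.map_genericPoint f U hiso hη
  exact ⟨inferInstance, h1, Dix.BirIso.isIso_stalkMap f U hiso _ (by rw [h1]; exact hη)⟩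

end K480.Bir
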