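import Groth.Agent.ArSurf.K480.CompSign

/-!
# Vertical curves of self-intersection zero (helper480, S13325, S13320)
-/

set_option autoImplicit false
universe u

open CategoryTheory CategoryTheory.Limits AlgebraicGeometry Opposite TopologicalSpace

namespace K480.CompMain

open Groth.Agent Groth.Agent.Models.H47 K480.MinusTwo K480.AdjNum K480.CompSign
open Groth.Agent.Dix.IdealModCartier Groth.Agent.Fdesc.LocGen

section

variable {X : Scheme.{u}} [IsIntegral X]

theorem genOn_of_ne_zero (π : Γ(X, ⊤)) (hπ : π ≠ 0) :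
    GenOn (U := ⊤) (Scheme.IdealSheafData.ofIdealTop (Ideal.span {π})) π := by
  intro W hW
  constructor
  · by_cases hne : Nonempty W.1
    · refine mem_nonZeroDivisors_of_ne_zero fun h => hπ ?_
      exact map_injective_of_isIntegral X (homOfLE hW) (h.trans (map_zero _).symm)
    · have : Subsingleton Γ(X, W.1) := by
        have h1 : W.1 = ⊥ := by
          ext x
          exact ⟨fun hx => (hne ⟨⟨x, hx⟩⟩).elim, fun hx => hx.elim⟩
        rw [h1]
        infer_instance
      rw [mem_nonZeroDivisors_iff]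
      exact ⟨fun z _ => Subsingleton.elim _ _, fun z _ => Subsingleton.elim _ _⟩
  · rw [Scheme.IdealSheafData.ofIdealTop_ideal, Ideal.map_span, Set.image_singleton]
    rfl

theorem isEff_of_genOn {D : X.IdealSheafData} {π : Γ(X, ⊤)} (h : GenOn (U := ⊤) D π) :
    BlowUp.IsEffCartierIdeal D := by
  intro x
  obtain ⟨V, hV, hV'⟩ := exists_affine_mem_le (⊤ : X.Opens) x trivial
  exact ⟨V, hV, _, (h V hV').1, (h V hV').2⟩

theorem support_of_genOn {D : X.IdealSheafData} {π : Γ(X, ⊤)} (h : GenOn (U := ⊤) D π) :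
    (D.support : Set X) = X.zeroLocus ({π} : Set Γ(X, ⊤)) := by
  ext x
  obtain ⟨V, hV, hV'⟩ := exists_affine_mem_le (⊤ : X.Opens) x trivial
  rw [SetLike.mem_coe, Scheme.IdealSheafData.mem_support_iff_of_mem hV, (h V hV').2, Scheme.zeroLocus_span,
    Scheme.mem_zeroLocus_iff, Scheme.mem_zeroLocus_iff]
  simp only [Set.mem_singleton_iff, forall_eq]
  have h1 : X.basicOpen (ores hV' π) = V.1 ⊓ X.basicOpen π := Scheme.basicOpen_res X π (homOfLE hV').op
  rw [h1]
  constructor
  · intro h2 h3
    exact h2 ⟨hV, h3⟩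
  · intro h2 h3
    exact h2 h3.2

end

variable {R : Type u} [CommRing R] [IsDomain R] [IsDiscreteValuationRing R]
variable {X : Over (Spec (CommRingCat.of R))}

/-- The curve `Γ` is a connected component of the closed fibre: `K·Γ` and `χ_K(X_K)` have opposite signs. -/
theorem exists_mul_eq (hX : ArSurf.IsArithSurface R X) (Γ : ArSurf.VertComp R X) (L : X.left.Modules)
    (hL : ClSub.IsInverseOf L (ClSub.idealMod Γ.ι.ker)) (ω : X.left.Modules) (hadj : Adj R X ω)
    (h0 : ArSurf.inter R X L Γ = 0) (U : X.left.Opens)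
    (hU : (U : Set X.left) ∩ Models.specialFibreSet R X = Set.range (Γ.ι.base : Γ.curve.left → X.left)) :
    ∃ m n : ℤ, 0 < m ∧ 0 < n ∧ m * ArSurf.inter R X ω Γ =
      -(n * FGA.eulerCharLE (FractionRing R) ((Neron.genericFibre R).obj X).left
        (Coh.structureModule ((Neron.genericFibre R).obj X).left) 1) := by
  have hXi := hX.2.1
  have hXf := hX.2.2.2.1
  have hpX : IsProper X.hom := Groth.Agent.Dix.InterSurf.isProper_hom hX
  have hNX := Dix.SurfBasic.isNoetherian hX
  have hΓi := Γ.isIntegral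
  have hconn : _root_.IsConnected (Set.range (Γ.ι.base : Γ.curve.left → X.left)) :=
    isConnected_range Γ.ι.continuous
  obtain ⟨π, hπ0, hπ⟩ := SteinComp.exists_function (Set.range (Γ.ι.base : Γ.curve.left → X.left))
    Γ.ι.isClosedEmbedding.isClosed_range hconn U hU
  have hgen := genOn_of_ne_zero π hπ0
  set D := Scheme.IdealSheafData.ofIdealTop (X := X.left) (Ideal.span {π}) with hD
  have hDeff := isEff_of_genOn hgen
  have hsupp : (D.support : Set X.left) = Set.range (Γ.ι.base : Γ.curve.left → X.left) := by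
    rw [← hπ, support_of_genOn hgen]
  have hE : BlowUp.IsEffCartierIdeal Γ.ι.ker := isEffCartierIdeal_of_isInverseOf hL
  obtain ⟨a, ha⟩ := Groth.Agent.S1659.result X.left D hDeff 1 (fun _ => Γ.ι.ker) (fun _ => hE)
    (fun _ => Models.H36.FibreFact.isIntegral_ker_subscheme Γ.ι) (by
      rw [hsupp]
      intro x hx
      refine Set.mem_iUnion.2 ⟨0, ?_⟩
      rw [Scheme.Hom.support_ker, Γ.ι.isClosedEmbedding.isClosed_range.closure_eq]
      exact hx)
  obtain ⟨x, hx⟩ := hconn.nonempty
  have ha0 : 0 < a 0 := by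
    rcases Nat.eq_zero_or_pos (a 0) with h | h
    · exfalso
      rw [Fin.prod_univ_one, h, pow_zero, Scheme.IdealSheafData.one_eq_top] at ha
      have h1 : x ∈ (D.support : Set X.left) := by rw [hsupp]; exact hx
      rw [ha, Scheme.IdealSheafData.support_top] at h1
      exact h1
    · exact h
  have h1 := (chi_gen hX (fun _ : Fin 1 => Γ) (fun _ => L) (fun _ => hL) ω hadj a).2
  rw [← ha] at h1
  simp only [Fin.sum_univ_one, h0, mul_zero, zero_add] at h1
  have h2 := chi_quot hX π hπ0 hgen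
  letI := algS X
  have hfin : Module.Finite R Γ(X.left, ⊤) := (Ega3B.ClopenLift.stein R X.hom).1
  have hinj : Function.Injective (algebraMap R Γ(X.left, ⊤)) := Dix.EtMinStein818.injective_toΓ X.left X.hom
  have hpos : 0 < Module.finrank R Γ(X.left, ⊤) := by
    have : FaithfulSMul R Γ(X.left, ⊤) := (faithfulSMul_iff_algebraMap_injective _ _).2 hinj
    have : Module.IsTorsionFree R Γ(X.left, ⊤) := inferInstance
    exact Module.finrank_pos
  have hφ : 0 < K480.Herbrand.φ R π Γ(X.left, ⊤) := by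
    have k1 : LinearMap.ker (K480.Herbrand.mulR R π Γ(X.left, ⊤)) = ⊥ := by
      rw [LinearMap.ker_eq_bot']
      intro s hs
      have : π * s = 0 := hs
      exact (mul_eq_zero.1 this).resolve_left hπ0
    have c1 := K480.Herbrand.finite_coker R π hinj hπ0 Γ(X.left, ⊤)
    have c2 : Module.length R (Γ(X.left, ⊤) ⧸ LinearMap.range (K480.Herbrand.mulR R π Γ(X.left, ⊤))) ≠ 0 := by
      rw [Ne, Module.length_eq_zero_iff, Submodule.Quotient.subsingleton_iff]
      intro htop
      have h3 : (1 : Γ(X.left, ⊤)) ∈ LinearMap.range (K480.Herbrand.mulR R π Γ(X.left, ⊤)) := by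
        rw [htop]; trivial
      obtain ⟨s, hs⟩ := h3
      have hs' : π * s = 1 := hs
      have h4 : IsUnit π := IsUnit.of_mul_eq_one s hs'
      have h5 : x ∈ X.left.zeroLocus ({π} : Set Γ(X.left, ⊤)) := by rw [hπ]; exact hx
      have h6 : x ∉ X.left.basicOpen π := by
        intro h7
        have := (Scheme.mem_zeroLocus_iff _ _ _).1 h5 π rfl
        exact this h7
      apply h6
      rw [Scheme.basicOpen_of_isUnit _ h4]
      trivial
    unfold K480.Herbrand.φ
    rw [k1]
    have h3 : Module.length R (⊥ : Submodule R Γ(X.left, ⊤)) = 0 := by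
      rw [Module.length_eq_zero_iff]
      infer_instance
    rw [h3]
    have h4 : 0 < (Module.length R (Γ(X.left, ⊤) ⧸ LinearMap.range
        (K480.Herbrand.mulR R π Γ(X.left, ⊤)))).toNat := by
      rw [Nat.pos_iff_ne_zero, Ne, ENat.toNat_eq_zero]
      push Not
      exact ⟨c2, c1⟩
    simpa using h4
  refine ⟨Module.finrank R Γ(X.left, ⊤) * a 0, 2 * K480.Herbrand.φ R π Γ(X.left, ⊤), by positivity,
    by positivity, ?_⟩
  linear_combination (Module.finrank R Γ(X.left, ⊤) : ℤ) * h1 - 2 * h2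

/-- A vertical curve has self-intersection `≤ 0`, with equality iff it is a connected component of the closed
fibre. -/
theorem self_inter (hX : ArSurf.IsArithSurface R X) (Γ : ArSurf.VertComp R X) (L : X.left.Modules)
    (hL : ClSub.IsInverseOf L (ClSub.idealMod Γ.ι.ker)) :
    ArSurf.inter R X L Γ ≤ 0 ∧ (ArSurf.inter R X L Γ = 0 ↔ ∃ U : X.left.Opens,
      (U : Set X.left) ∩ Models.specialFibreSet R X = Set.range (Γ.ι.base : Γ.curve.left → X.left)) := by
  have hXi := hX.2.1
  have hXf := hX.2.2.2.1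
  have hpX : IsProper X.hom := Groth.Agent.Dix.InterSurf.isProper_hom hX
  have hNX := Dix.SurfBasic.isNoetherian hX
  obtain ⟨n, Δ, hΔ⟩ := NegDef.exists_componentList hXi hX.2.2.1 hXf hpX
  obtain ⟨k, hk⟩ := NegDef.exists_ker_eq hΔ Γ
  have hrg : Set.range (Γ.ι.base : Γ.curve.left → X.left) = Set.range ((Δ k).ι.base : (Δ k).curve.left → X.left) :=
    NegDef.range_eq_of_ker_eq hk
  have hE : ∀ i, BlowUp.IsEffCartierIdeal (Δ i).ι.ker := fun i =>
    Models.H36.FibreFact.isEffCartier_ker (X := X) hX.1 (Δ i) (Models.H36.FibreFact.range_mem_fibreComponents hΔ i)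
  have hL' : ∀ i, ∃ L : X.left.Modules, ClSub.IsInverseOf L (ClSub.idealMod (Δ i).ι.ker) := by
    intro k
    have hIi := Dix.IdealModCartier.isInvertible_idealMod (hE k)
    obtain ⟨M, hM, ⟨e⟩⟩ := Groth.Agent.Grpsch.PicGrp.exists_inverse hIi
    refine ⟨M, ?_⟩
    have h1 : Groth.Agent.Grpsch.PicGrp.mk _ hIi * Groth.Agent.Grpsch.PicGrp.mk M hM = 1 := by
      rw [Groth.Agent.Grpsch.PicGrp.mk_mul_mk, Groth.Agent.Grpsch.PicGrp.mk_eq_one_iff]
      exact ⟨e⟩
    rw [mul_comm, Groth.Agent.Grpsch.PicGrp.mk_mul_mk, Groth.Agent.Grpsch.PicGrp.mk_eq_one_iff] at h1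
    exact h1
  choose M hM using hL'
  -- the relation on `Γ`
  have horth : ∑ j, (Models.mult R X (Δ j) : ℤ) * ArSurf.inter R X (M j) Γ = 0 := by
    have h2 := GenusD.qd_specialFibre Γ
    rw [Models.H36.FibreFact.specialFibreIdeal_eq_prod (X := X) hX.1 hΔ, GenusD.qd_prod Γ _ hE] at h2
    have hq : ∀ j, GenusD.qd Γ (Δ j).ι.ker = - ArSurf.inter R X (M j) Γ := by
      intro j
      have := Models.H65.InterProper.inter_inverse (hM j) Γ
      unfold GenusD.qd
      linarith
    simp only [hq] at h2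
    rw [show ∑ j, (Models.mult R X (Δ j) : ℤ) * -ArSurf.inter R X (M j) Γ =
      -∑ j, (Models.mult R X (Δ j) : ℤ) * ArSurf.inter R X (M j) Γ by
        rw [← Finset.sum_neg_distrib]
        exact Finset.sum_congr rfl fun j _ => by ring] at h2
    linarith
  have hself : ArSurf.inter R X (M k) Γ = ArSurf.inter R X L Γ := by
    have hMk : ClSub.IsInverseOf (M k) (ClSub.idealMod Γ.ι.ker) := by rw [hk]; exact hM k
    have h1 := Models.H65.InterProper.inter_inverse hMk Γ
    have h2 := Models.H65.InterProper.inter_inverse hL Γ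
    linarith
  have hne : ∀ j, j ≠ k → Set.range (Γ.ι.base : Γ.curve.left → X.left) ≠
      Set.range ((Δ j).ι.base : (Δ j).curve.left → X.left) := by
    intro j hj h
    apply hj
    apply hΔ.1
    exact h.symm.trans hrg
  have hcase : ∀ j, j ≠ k → 0 ≤ ArSurf.inter R X (M j) Γ ∧ (ArSurf.inter R X (M j) Γ = 0 ↔
      Disjoint (Set.range (Γ.ι.base : Γ.curve.left → X.left))
        (Set.range ((Δ j).ι.base : (Δ j).curve.left → X.left))) := fun j hj =>
    Models.H50.InterNonneg.inter_nonneg_and_eq_zero_iff Γ (Δ j) (hE j)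
      (K479.Artin.notMem_support Γ (Δ j) (hne j hj)) (hM j)
  have hmul : ∀ j, 0 < (Models.mult R X (Δ j) : ℤ) := fun j => by
    exact_mod_cast Models.H36.FibreFact.mult_pos (X := X) hX.1 hΔ j
  have hsum : (Models.mult R X (Δ k) : ℤ) * ArSurf.inter R X L Γ =
      -∑ j ∈ Finset.univ.erase k, (Models.mult R X (Δ j) : ℤ) * ArSurf.inter R X (M j) Γ := by
    rw [← Finset.add_sum_erase _ _ (Finset.mem_univ k), hself] at horth
    linarith
  have hnn : ∀ j ∈ Finset.univ.erase k, 0 ≤ (Models.mult R X (Δ j) : ℤ) * ArSurf.inter R X (M j) Γ := fun j hj =>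
    mul_nonneg (hmul j).le (hcase j (Finset.ne_of_mem_erase hj)).1
  have hle : ArSurf.inter R X L Γ ≤ 0 := by
    by_contra hcon
    push Not at hcon
    have h1 := mul_pos (hmul k) hcon
    have h2 := Finset.sum_nonneg hnn
    linarith
  refine ⟨hle, ?_⟩
  have hiff : ArSurf.inter R X L Γ = 0 ↔ ∀ j, j ≠ k →
      Disjoint (Set.range (Γ.ι.base : Γ.curve.left → X.left))
        (Set.range ((Δ j).ι.base : (Δ j).curve.left → X.left)) := by
    constructor
    · intro h j hj
      rw [h, mul_zero] at hsum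
      have h1 := (Finset.sum_eq_zero_iff_of_nonneg hnn).1 (by linarith) j (Finset.mem_erase.2 ⟨hj, Finset.mem_univ _⟩)
      exact (hcase j hj).2.1 ((mul_eq_zero.1 h1).resolve_left (hmul j).ne')
    · intro h
      rw [Finset.sum_eq_zero (fun j hj => by
        rw [(hcase j (Finset.ne_of_mem_erase hj)).2.2 (h j (Finset.ne_of_mem_erase hj)), mul_zero]), neg_zero] at hsum
      exact (mul_eq_zero.1 hsum).resolve_left (hmul k).ne'
  rw [hiff]
  constructor
  · intro h
    let U : X.left.Opens := ⟨(⋃ j ∈ Finset.univ.erase k, Set.range ((Δ j).ι.base : (Δ j).curve.left → X.left))ᶜ,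
      (isClosed_biUnion_finset fun j _ => (Δ j).ι.isClosedEmbedding.isClosed_range).isOpen_compl⟩
    refine ⟨U, ?_⟩
    ext x
    constructor
    · rintro ⟨hx, hxs⟩
      obtain ⟨j, hj⟩ := (Groth.Agent.Models.H71.Comps.mem_specialFibreSet_iff hΔ x).1 hxs
      by_cases hjk : j = k
      · rw [hrg, ← hjk]
        exact hj
      · exfalso
        apply hx
        rw [Set.mem_iUnion₂]
        exact ⟨j, Finset.mem_erase.2 ⟨hjk, Finset.mem_univ _⟩, hj⟩
    · intro hx
      refine ⟨?_, Groth.Agent.Models.H71.Comps.rg_subset Γ hx⟩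
      intro h1
      rw [Set.mem_iUnion₂] at h1
      obtain ⟨j, hj, hxj⟩ := h1
      exact Set.disjoint_left.1 (h j (Finset.ne_of_mem_erase hj)) hx hxj
  · rintro ⟨U, hU⟩ j hj
    rw [Set.disjoint_left]
    intro x hx hxj
    have hxU : x ∈ (U : Set X.left) := by
      rw [← hU] at hx
      exact hx.1
    have hi := (Δ j).isIntegral
    have hgen : Models.genPtOf R X (Δ j) ∈ (U : Set X.left) := by
      obtain ⟨w, rfl⟩ := hxj
      have h1 : genericPoint (Δ j).curve.left ⤳ w := genericPoint_specializes w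
      exact (h1.map (Δ j).ι.continuous).mem_open U.isOpen hxU
    have h2 : Models.genPtOf R X (Δ j) ∈ Set.range (Γ.ι.base : Γ.curve.left → X.left) := by
      rw [← hU]
      exact ⟨hgen, Groth.Agent.Models.H71.Comps.rg_subset (Δ j) ⟨_, rfl⟩⟩
    rw [hrg] at h2
    exact Models.H36.FibreFact.genPt_notMem_range hΔ hj h2

end K480.CompMain
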