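import Groth.Agent.MiscA.LenSnake
import Groth.Agent.CycB.OrdLattice
import Mathlib.LinearAlgebra.Dimension.Localization
import Mathlib.RingTheory.Ideal.AssociatedPrime.Finiteness
import Mathlib.RingTheory.Ideal.GoingUp

/-!
# Herbrand quotients of multiplication by an element of a finite extension (helper480)

`R` a Noetherian domain of dimension `≤ 1`, `S` a domain finite over `R`, `π ∈ S` nonzero, `N` a finite `S`-module:
`rank_R S * (ℓ_R(N/πN) - ℓ_R(N[π])) = rank_R N * ℓ_R(S/πS)`.
-/

set_option autoImplicit false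

namespace K480.Herbrand

open Groth.Agent Module

universe u

section

variable (R : Type u) [CommRing R] {S : Type u} [CommRing S] [Algebra R S]

/-- Multiplication by `π`. -/
def mulR (π : S) (N : Type u) [AddCommGroup N] [Module S N] [Module R N] [IsScalarTower R S N] : N →ₗ[R] N :=
  (LinearMap.lsmul S N π).restrictScalars R

theorem mulR_apply (π : S) (N : Type u) [AddCommGroup N] [Module S N] [Module R N] [IsScalarTower R S N] (x : N) :
    mulR R π N x = π • x := rfl

end

variable {R : Type u} [CommRing R] [IsDomain R] [IsNoetherianRing R] [Ring.KrullDimLE 1 R]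
variable {S : Type u} [CommRing S] [IsDomain S] [Algebra R S] [Module.Finite R S]

omit [IsNoetherianRing R] [Ring.KrullDimLE 1 R] in
theorem exists_ne_zero_mem (hinj : Function.Injective (algebraMap R S)) {I : Ideal S} (hI : I ≠ ⊥) :
    ∃ a : R, a ≠ 0 ∧ algebraMap R S a ∈ I := by
  obtain ⟨x, hx, hx0⟩ := Submodule.exists_mem_ne_zero_of_ne_bot hI
  have h1 : I.comap (algebraMap R S) ≠ ⊥ :=
    Ideal.comap_ne_bot_of_integral_mem hx0 hx (Algebra.IsIntegral.isIntegral x)
  obtain ⟨a, ha, ha0⟩ := Submodule.exists_mem_ne_zero_of_ne_bot h1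
  exact ⟨a, ha0, ha⟩

/-- A finite `S`-module killed by a nonzero ideal has finite length over `R`. -/
theorem length_ne_top (hinj : Function.Injective (algebraMap R S)) {I : Ideal S} (hI : I ≠ ⊥) (N : Type u)
    [AddCommGroup N] [Module S N] [Module R N] [IsScalarTower R S N] [Module.Finite R N]
    (h : ∀ s ∈ I, ∀ x : N, s • x = 0) : Module.length R N ≠ ⊤ := by
  obtain ⟨a, ha, haI⟩ := exists_ne_zero_mem hinj hI
  refine Groth.Agent.CycB.OrdLattice.length_ne_top_of_smul_eq_zero ha fun x => ?_
  rw [← algebraMap_smul S a x]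
  exact h _ haI x

variable (π : S)

section

variable (R)

theorem finite_ker (hinj : Function.Injective (algebraMap R S)) (hπ : π ≠ 0) (N : Type u)
    [AddCommGroup N] [Module S N] [Module R N] [IsScalarTower R S N] [Module.Finite R N] :
    Module.length R (LinearMap.ker (mulR R π N)) ≠ ⊤ := by
  obtain ⟨a, ha, haI⟩ := exists_ne_zero_mem hinj (I := Ideal.span {π}) (by simpa using hπ)
  refine Groth.Agent.CycB.OrdLattice.length_ne_top_of_smul_eq_zero ha ?_
  rintro ⟨x, hx⟩
  apply Subtype.ext
  obtain ⟨b, hb⟩ := Ideal.mem_span_singleton'.1 haI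
  change a • x = 0
  rw [← algebraMap_smul S a x, ← hb, mul_smul]
  have : π • x = 0 := hx
  rw [this, smul_zero]

theorem finite_coker (hinj : Function.Injective (algebraMap R S)) (hπ : π ≠ 0) (N : Type u)
    [AddCommGroup N] [Module S N] [Module R N] [IsScalarTower R S N] [Module.Finite R N] :
    Module.length R (N ⧸ LinearMap.range (mulR R π N)) ≠ ⊤ := by
  obtain ⟨a, ha, haI⟩ := exists_ne_zero_mem hinj (I := Ideal.span {π}) (by simpa using hπ)
  refine Groth.Agent.CycB.OrdLattice.length_ne_top_of_smul_eq_zero ha fun x => ?_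
  obtain ⟨x, rfl⟩ := Submodule.Quotient.mk_surjective _ x
  obtain ⟨b, hb⟩ := Ideal.mem_span_singleton'.1 haI
  rw [← Submodule.Quotient.mk_smul, Submodule.Quotient.mk_eq_zero]
  refine ⟨b • x, ?_⟩
  rw [mulR_apply, smul_smul, mul_comm π b, hb, algebraMap_smul]

/-- `ℓ(N/πN) - ℓ(N[π])`. -/
noncomputable def φ (N : Type u) [AddCommGroup N] [Module S N] [Module R N] [IsScalarTower R S N] : ℤ :=
  ((Module.length R (N ⧸ LinearMap.range (mulR R π N))).toNat : ℤ) -
    ((Module.length R (LinearMap.ker (mulR R π N))).toNat : ℤ)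

end

/-- `φ` of a module of finite length vanishes. -/
theorem φ_eq_zero (N : Type u) [AddCommGroup N] [Module S N] [Module R N] [IsScalarTower R S N]
    (h : Module.length R N ≠ ⊤) : φ R π N = 0 := by
  have h1 := Module.length_eq_add_of_exact (LinearMap.ker (mulR R π N)).subtype (mulR R π N).rangeRestrict
    (Submodule.injective_subtype _) (mulR R π N).surjective_rangeRestrict (by
      intro x
      rw [Subtype.ext_iff]
      change mulR R π N x = 0 ↔ _
      constructor
      · intro hx
        exact ⟨⟨x, hx⟩, rfl⟩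
      · rintro ⟨y, rfl⟩
        exact y.2)
  have h2 := Module.length_eq_add_of_exact (LinearMap.range (mulR R π N)).subtype
    (LinearMap.range (mulR R π N)).mkQ (Submodule.injective_subtype _) (Submodule.mkQ_surjective _)
    (LinearMap.exact_subtype_mkQ _)
  have h3 : Module.length R (LinearMap.ker (mulR R π N)) ≠ ⊤ :=
    ne_top_of_le_ne_top h (h1 ▸ le_self_add)
  have h4 : Module.length R (LinearMap.range (mulR R π N)) ≠ ⊤ :=
    ne_top_of_le_ne_top h (h2 ▸ le_self_add)
  have h5 : Module.length R (N ⧸ LinearMap.range (mulR R π N)) ≠ ⊤ :=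
    ne_top_of_le_ne_top h (h2 ▸ le_add_self)
  unfold φ
  rw [h1] at h2
  lift Module.length R (LinearMap.ker (mulR R π N)) to ℕ using h3 with a ha
  lift Module.length R (LinearMap.range (mulR R π N)) to ℕ using h4 with b hb
  lift Module.length R (N ⧸ LinearMap.range (mulR R π N)) to ℕ using h5 with c hc
  simp only [ENat.toNat_natCast]
  have h6 : a + b = b + c := by exact_mod_cast h2
  omega

theorem φ_add (hinj : Function.Injective (algebraMap R S)) (hπ : π ≠ 0) (N₁ N₂ N₃ : Type u)
    [AddCommGroup N₁] [Module S N₁] [Module R N₁] [IsScalarTower R S N₁] [Module.Finite R N₁]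
    [AddCommGroup N₂] [Module S N₂] [Module R N₂] [IsScalarTower R S N₂] [Module.Finite R N₂]
    [AddCommGroup N₃] [Module S N₃] [Module R N₃] [IsScalarTower R S N₃] [Module.Finite R N₃]
    (f : N₁ →ₗ[S] N₂) (g : N₂ →ₗ[S] N₃) (hf : Function.Injective f) (hg : Function.Surjective g)
    (hfg : Function.Exact f g) : φ R π N₂ = φ R π N₁ + φ R π N₃ := by
  have h := MiscA.LenSnake.length_snake (mulR R π N₁) (mulR R π N₂) (mulR R π N₃) (f.restrictScalars R)
    (g.restrictScalars R) hfg hf hg (f.restrictScalars R) (g.restrictScalars R) hfg hf hg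
    (by ext x; exact f.map_smul π x) (by ext x; exact g.map_smul π x)
  have k1 := finite_ker R π hinj hπ N₁
  have k2 := finite_ker R π hinj hπ N₂
  have k3 := finite_ker R π hinj hπ N₃
  have c1 := finite_coker R π hinj hπ N₁
  have c2 := finite_coker R π hinj hπ N₂
  have c3 := finite_coker R π hinj hπ N₃
  unfold φ
  lift Module.length R (LinearMap.ker (mulR R π N₁)) to ℕ using k1 with a1 ha1
  lift Module.length R (LinearMap.ker (mulR R π N₂)) to ℕ using k2 with a2 ha2
  lift Module.length R (LinearMap.ker (mulR R π N₃)) to ℕ using k3 with a3 ha3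
  lift Module.length R (N₁ ⧸ LinearMap.range (mulR R π N₁)) to ℕ using c1 with b1 hb1
  lift Module.length R (N₂ ⧸ LinearMap.range (mulR R π N₂)) to ℕ using c2 with b2 hb2
  lift Module.length R (N₃ ⧸ LinearMap.range (mulR R π N₃)) to ℕ using c3 with b3 hb3
  simp only [ENat.toNat_natCast]
  have h6 : a1 + a3 + b2 = a2 + b1 + b3 := by exact_mod_cast h
  omega

omit [IsNoetherianRing R] [Ring.KrullDimLE 1 R] in
theorem finrank_add (N₁ N₂ N₃ : Type u)
    [AddCommGroup N₁] [Module R N₁] [Module.Finite R N₁]
    [AddCommGroup N₂] [Module R N₂] [Module.Finite R N₂]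
    [AddCommGroup N₃] [Module R N₃] [Module.Finite R N₃]
    (f : N₁ →ₗ[R] N₂) (g : N₂ →ₗ[R] N₃) (hf : Function.Injective f) (hg : Function.Surjective g)
    (hfg : Function.Exact f g) : finrank R N₂ = finrank R N₁ + finrank R N₃ := by
  have h1 := (LinearMap.range f).finrank_quotient_add_finrank
  have h2 : finrank R (LinearMap.range f) = finrank R N₁ := (LinearEquiv.ofInjective f hf).finrank_eq.symm
  have h3 : LinearMap.range f = LinearMap.ker g := (LinearMap.exact_iff.1 hfg).symm
  have h4 : finrank R (N₂ ⧸ LinearMap.range f) = finrank R N₃ :=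
    ((Submodule.quotEquivOfEq _ _ h3).trans (g.quotKerEquivOfSurjective hg)).finrank_eq
  omega

omit [IsDomain R] [IsNoetherianRing R] [Ring.KrullDimLE 1 R] [IsDomain S] [Module.Finite R S] in
theorem φ_congr (N N' : Type u) [AddCommGroup N] [Module S N] [Module R N] [IsScalarTower R S N]
    [AddCommGroup N'] [Module S N'] [Module R N'] [IsScalarTower R S N'] (e : N ≃ₗ[S] N') :
    φ R π N = φ R π N' := by
  let e' : N ≃ₗ[R] N' := e.restrictScalars R
  have h1 : (mulR R π N').comp e'.toLinearMap = e'.toLinearMap.comp (mulR R π N) := by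
    ext x
    exact (e.map_smul π x).symm
  have h2 : Submodule.map e'.toLinearMap (LinearMap.range (mulR R π N)) = LinearMap.range (mulR R π N') := by
    rw [← LinearMap.range_comp, ← h1, LinearMap.range_comp, LinearEquiv.range, Submodule.map_top]
  have h3 : Submodule.map e'.toLinearMap (LinearMap.ker (mulR R π N)) = LinearMap.ker (mulR R π N') := by
    ext y
    constructor
    · rintro ⟨x, hx, rfl⟩
      change mulR R π N' (e' x) = 0
      have := congr($h1 x)
      change mulR R π N' (e' x) = e' (mulR R π N x) at this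
      rw [this, hx, map_zero]
    · intro hy
      refine ⟨e'.symm y, ?_, e'.apply_symm_apply y⟩
      have := congr($h1 (e'.symm y))
      change mulR R π N' (e' (e'.symm y)) = e' (mulR R π N (e'.symm y)) at this
      rw [e'.apply_symm_apply, hy] at this
      exact e'.injective (this.symm.trans (map_zero _).symm)
  unfold φ
  rw [(Submodule.Quotient.equiv _ _ e' h2).length_eq, ((e'.submoduleMap _).trans (LinearEquiv.ofEq _ _ h3)).length_eq]

theorem main (hinj : Function.Injective (algebraMap R S)) (hπ : π ≠ 0) (N : Type u) [AddCommGroup N] [Module S N]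
    [Module R N] [IsScalarTower R S N] [hfin : Module.Finite S N] :
    (finrank R S : ℤ) * φ R π N = finrank R N * φ R π S := by
  have hNS : IsNoetherianRing S := IsNoetherianRing.of_finite R S
  have key := IsNoetherianRing.induction_on_isQuotientEquivQuotientPrime S (M := N) hfin
    (motive := fun N [AddCommGroup N] [Module S N] [Module.Finite S N] =>
      ∀ [Module R N] [IsScalarTower R S N], (finrank R S : ℤ) * φ R π N = finrank R N * φ R π S)
    ?_ ?_ ?_
  · exact key
  · intro N _ _ _ _ _ _
    have h1 : finrank R N = 0 := finrank_zero_of_subsingleton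
    rw [h1, φ_eq_zero π N (by rw [Module.length_eq_zero_iff.2 inferInstance]; exact ENat.zero_ne_top)]
    simp
  · intro N _ _ _ p e _ _
    by_cases hp : p.asIdeal = ⊥
    · have e1 : N ≃ₗ[S] S := e.trans (Submodule.quotEquivOfEqBot p.asIdeal hp)
      rw [φ_congr π N S e1, (e1.restrictScalars R).finrank_eq]
    · have : Module.Finite R N := Module.Finite.trans S N
      have hkill : ∀ s ∈ p.asIdeal, ∀ x : N, s • x = 0 := by
        intro s hs x
        apply e.injective
        rw [map_smul, map_zero]
        obtain ⟨y, hy⟩ := Submodule.Quotient.mk_surjective _ (e x)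
        rw [← hy, ← Submodule.Quotient.mk_smul, Submodule.Quotient.mk_eq_zero]
        exact Ideal.mul_mem_right y p.asIdeal hs
      obtain ⟨a, ha, haI⟩ := exists_ne_zero_mem hinj hp
      have h1 : finrank R N = 0 := by
        rw [Module.finrank_eq_zero_iff]
        intro x
        exact ⟨a, ha, by rw [← algebraMap_smul S a x]; exact hkill _ haI x⟩
      rw [h1, φ_eq_zero π N (length_ne_top hinj hp N hkill)]
      simp
  · intro N₁ _ _ _ N₂ _ _ _ N₃ _ _ _ f g hf hg hfg ih1 ih3 _ _
    letI : Module R N₁ := Module.compHom N₁ (algebraMap R S)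
    letI : Module R N₃ := Module.compHom N₃ (algebraMap R S)
    have : IsScalarTower R S N₁ := ⟨fun r s x => by
      rw [Algebra.smul_def, mul_smul]
      rfl⟩
    have : IsScalarTower R S N₃ := ⟨fun r s x => by
      rw [Algebra.smul_def, mul_smul]
      rfl⟩
    have : Module.Finite R N₁ := Module.Finite.trans S N₁
    have : Module.Finite R N₂ := Module.Finite.trans S N₂
    have : Module.Finite R N₃ := Module.Finite.trans S N₃
    rw [φ_add π hinj hπ N₁ N₂ N₃ f g hf hg hfg, finrank_add N₁ N₂ N₃ (f.restrictScalars R) (g.restrictScalars R)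
      hf hg hfg, mul_add, ih1, ih3]
    push_cast
    ring

end K480.Herbrand
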