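import Groth.Agent.Ega3B.ClopenLift
import Groth.Agent.Dix.EtMinStein818
import Groth.Agent.Dix.IdealModCartier
import Groth.Agent.Dix.SurfBasic
import Groth.Agent.ArSurf.K480.Rigid
import Groth.Prelude.Def_ModelsG

/-!
# Connected components of the closed fibre and global functions (helper480, S13325, S13320)

* `exists_function`: a vertical curve which is a connected component of the closed fibre is the zero locus of a nonzero
  global function.
-/

set_option autoImplicit false
universe u

open CategoryTheory CategoryTheory.Limits AlgebraicGeometry Opposite TopologicalSpace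

namespace K480.SteinComp

open Groth.Agent

variable {R : Type u} [CommRing R] [IsDomain R] [IsDiscreteValuationRing R]
variable {X : Over (Spec (CommRingCat.of R))}

theorem exists_function [IsIntegral X.left] [IsProper X.hom] [Flat X.hom] (Z : Set X.left) (hZc : IsClosed Z)
    (hZ : _root_.IsConnected Z) (U : X.left.Opens) (hU : (U : Set X.left) ∩ Models.specialFibreSet R X = Z) :
    ∃ π : Γ(X.left, ⊤), π ≠ 0 ∧ X.left.zeroLocus ({π} : Set Γ(X.left, ⊤)) = Z := by
  obtain ⟨hfin, hp, hconn, hfac⟩ := Ega3B.ClopenLift.stein R X.hom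
  have hinj := Dix.EtMinStein818.injective_toΓ X.left X.hom
  set φ := (Scheme.ΓSpecIso (CommRingCat.of R)).inv ≫ X.hom.appTop with hφ
  algebraize [φ.hom]
  have hfin' : Module.Finite R Γ(X.left, ⊤) := hfin
  let g := X.left.toSpecΓ
  let q := Spec.map φ
  have hq : IsFinite q := (IsFinite.SpecMap_iff φ).2 hfin
  obtain ⟨ξ, hξ⟩ := hZ.nonempty
  have hfibre : ∀ y, _root_.IsConnected (g ⁻¹' {y}) := by
    intro y
    have := hconn y
    rw [← Scheme.Hom.range_fiberι]
    exact isConnected_range (g.fiberι y).continuous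
  -- the points over the closed point
  let F : Set (PrimeSpectrum Γ(X.left, ⊤)) :=
    {P | P.asIdeal.comap (algebraMap R Γ(X.left, ⊤)) = IsLocalRing.maximalIdeal R}
  have hFq : ∀ P : PrimeSpectrum Γ(X.left, ⊤), P ∈ F ↔ q P = IsLocalRing.closedPoint R := by
    intro P
    constructor
    · intro h
      exact PrimeSpectrum.ext h
    · intro h
      exact congrArg PrimeSpectrum.asIdeal h
  have hmem : ∀ x : X.left, x ∈ Models.specialFibreSet R X ↔ g x ∈ F := by
    intro x
    refine Iff.trans ?_ (hFq (g x)).symm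
    have h1 : q (g x) = X.hom x := congr($hfac x)
    change X.hom x = _ ↔ q (g x) = _
    rw [h1]
  have hFfin : F.Finite := by
    have h1 := q.finite_preimage_singleton (IsLocalRing.closedPoint R)
    exact h1.subset fun P hP => (hFq P).1 hP
  have hmax : ∀ P ∈ F, P.asIdeal.IsMaximal := by
    intro P hP
    have h1 : P.asIdeal.comap (algebraMap R Γ(X.left, ⊤)) = IsLocalRing.maximalIdeal R := hP
    have h2 : (P.asIdeal.comap (algebraMap R Γ(X.left, ⊤))).IsMaximal := by
      rw [h1]; infer_instance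
    exact Ideal.isMaximal_of_isIntegral_of_isMaximal_comap _ h2
  have hclosed : ∀ P ∈ F, IsClosed ({P} : Set (Spec Γ(X.left, ⊤))) := by
    intro P hP
    exact (PrimeSpectrum.isClosed_singleton_iff_isMaximal _).2 (hmax P hP)
  have hZs : Z ⊆ Models.specialFibreSet R X := by
    rw [← hU]
    exact Set.inter_subset_right
  -- the image of `Z`
  have himg : ∀ z ∈ Z, g z = g ξ := by
    intro z hz
    have h1 := K480.Rigid.subsingleton_of_finite_closed hFfin hclosed
      (hZ.isPreconnected.image g g.continuous.continuousOn) (by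
        rintro _ ⟨w, hw, rfl⟩
        exact (hmem w).1 (hZs hw))
    exact h1 ⟨z, hz, rfl⟩ ⟨ξ, hξ, rfl⟩
  have hpre : g ⁻¹' {g ξ} = Z := by
    apply subset_antisymm
    · intro x hx
      by_contra hxZ
      have hsp : g ⁻¹' {g ξ} ⊆ Models.specialFibreSet R X := by
        intro w hw
        rw [hmem, show g w = g ξ from hw, ← hmem]
        exact hZs hξ
      obtain ⟨w, hw, hwU, hwZ⟩ := (hfibre (g ξ)).isPreconnected (U : Set X.left) Zᶜ U.isOpen hZc.isOpen_compl
        (by
          intro w hw
          by_cases h : w ∈ Z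
          · left
            rw [← hU] at h
            exact h.1
          · exact Or.inr h)
        ⟨ξ, rfl, by
          rw [← hU] at hξ
          exact hξ.1⟩ ⟨x, hx, hxZ⟩
      apply hwZ
      rw [← hU]
      exact ⟨hwU, hsp hw⟩
    · intro z hz
      exact himg z hz
  -- the function
  obtain ⟨t, ht⟩ := IsDiscreteValuationRing.exists_irreducible R
  let P₀ : PrimeSpectrum Γ(X.left, ⊤) := g ξ
  have hP₀ : P₀ ∈ F := (hmem ξ).1 (hZs hξ)
  have hP₀max := hmax P₀ hP₀
  have htP : algebraMap R Γ(X.left, ⊤) t ∈ P₀.asIdeal := by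
    have h1 : P₀.asIdeal.comap (algebraMap R Γ(X.left, ⊤)) = IsLocalRing.maximalIdeal R := hP₀
    have h2 : t ∈ P₀.asIdeal.comap (algebraMap R Γ(X.left, ⊤)) := by
      rw [h1]
      exact (IsLocalRing.mem_maximalIdeal _).2 ht.not_isUnit
    exact h2
  have hex : ∃ π ∈ P₀.asIdeal, π ≠ 0 ∧ ∀ P ∈ F, P ≠ P₀ → π ∉ P.asIdeal := by
    classical
    by_contra hcon
    push Not at hcon
    let s : Finset (Ideal Γ(X.left, ⊤)) :=
      insert ⊥ ((hFfin.toFinset.erase P₀).image (fun P : PrimeSpectrum Γ(X.left, ⊤) => P.asIdeal))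
    have h1 : (P₀.asIdeal : Set Γ(X.left, ⊤)) ⊆ ⋃ i ∈ (↑s : Set (Ideal Γ(X.left, ⊤))), (id i : Ideal Γ(X.left, ⊤)) := by
      intro π hπ
      rw [Set.mem_iUnion₂]
      by_cases h0 : π = 0
      · exact ⟨⊥, by simp [s], by rw [h0]; exact Submodule.zero_mem _⟩
      · obtain ⟨P, hP, hPP, hπP⟩ := hcon π hπ h0
        refine ⟨P.asIdeal, ?_, hπP⟩
        simp only [s, Finset.coe_insert, Finset.coe_image, Set.mem_insert_iff, Set.mem_image]
        exact Or.inr ⟨P, by simpa using ⟨hP, hPP⟩, rfl⟩
    rw [Ideal.subset_union_prime (⊥ : Ideal Γ(X.left, ⊤)) ⊥ (f := id) (s := s)] at h1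
    · obtain ⟨I, hI, hle⟩ := h1
      rw [Finset.mem_insert] at hI
      rcases hI with rfl | hI
      · have h2 : algebraMap R Γ(X.left, ⊤) t = 0 := by simpa using hle htP
        exact ht.ne_zero (hinj (h2.trans (map_zero _).symm))
      · rw [Finset.mem_image] at hI
        obtain ⟨P, hP, rfl⟩ := hI
        rw [Finset.mem_erase, Set.Finite.mem_toFinset] at hP
        apply hP.1
        have h3 := hP₀max.eq_of_le (hmax P hP.2).ne_top hle
        exact PrimeSpectrum.ext h3.symm
    · intro I hI h0 _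
      rw [Finset.mem_insert] at hI
      rcases hI with rfl | hI
      · exact absurd rfl h0
      · rw [Finset.mem_image] at hI
        obtain ⟨P, hP, rfl⟩ := hI
        exact P.isPrime
  obtain ⟨π, hπP, hπ0, hπ⟩ := hex
  refine ⟨π, hπ0, ?_⟩
  rw [← Scheme.toSpecΓ_preimage_zeroLocus, ← hpre]
  ext x
  change {π} ⊆ ((g x : PrimeSpectrum Γ(X.left, ⊤)).asIdeal : Set Γ(X.left, ⊤)) ↔ g x = g ξ
  rw [Set.singleton_subset_iff]
  constructor
  · intro hx
    let P : PrimeSpectrum Γ(X.left, ⊤) := g x
    have hP : P ∈ F := by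
      have h1 : P.asIdeal.comap (algebraMap R Γ(X.left, ⊤)) ≠ ⊥ :=
        Ideal.comap_ne_bot_of_integral_mem hπ0 hx (Algebra.IsIntegral.isIntegral π)
      have h2 : P.asIdeal.comap (algebraMap R Γ(X.left, ⊤)) = IsLocalRing.maximalIdeal R :=
        IsLocalRing.eq_maximalIdeal (Ideal.IsPrime.isMaximal (Ideal.IsPrime.comap _) h1)
      exact h2
    by_contra hne
    exact hπ P hP hne hx
  · intro hx
    have h1 : (g x : PrimeSpectrum Γ(X.left, ⊤)) = P₀ := hx
    rw [h1]
    exact hπP

end K480.SteinComp
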