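import Groth.Agent.ArSurf.K480.AdjFib
import Groth.Agent.ArSurf.K480.SteinComp
import Groth.Agent.ArSurf.K480.Herbrand

/-!
# The Euler characteristic of a connected component of the closed fibre (helper480, S13325, S13320)

* `chi_quot`: `[H⁰(X,O) : R] χ_R(O_X/π) = ℓ_R(H⁰/π) χ_K(X_K)`;
* `exists_mul_eq`: for a component `Γ` with `Γ·Γ = 0`, `m (K·Γ) = - n χ_K(X_K)` with `m, n > 0`.
-/

set_option autoImplicit false
universe u

open CategoryTheory CategoryTheory.Limits AlgebraicGeometry Opposite TopologicalSpace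

namespace K480.CompSign

open Groth.Agent Groth.Agent.Models.H47 K480.MinusTwo K480.AdjNum Groth.Agent.VarietyA
open Groth.Agent.Dix.IdealModCartier

variable {R : Type u} [CommRing R] [IsDomain R] [IsDiscreteValuationRing R]
variable {X : Over (Spec (CommRingCat.of R))}

theorem rk_eq_finrank (N : Type u) [AddCommGroup N] [Module R N] :
    Models3.H44.MulSeq.rk R N = Module.finrank R N := by
  unfold Models3.H44.MulSeq.rk
  rw [IsLocalization.finrank_eq (FractionRing R) (nonZeroDivisors R) le_rfl]
  exact IsLocalizedModule.finrank_eq (nonZeroDivisors R) (TensorProduct.mk R (FractionRing R) N 1) le_rfl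

variable (X) in
/-- `H⁰(X, O)` as an `R`-algebra. -/
noncomputable abbrev algS : Algebra R Γ(X.left, ⊤) :=
  ((Scheme.ΓSpecIso (CommRingCat.of R)).inv ≫ X.hom.appTop).hom.toAlgebra

/-- Cohomology as a module over `H⁰(X, O)`. -/
noncomputable abbrev modS (M : X.left.Modules) (i : ℕ) : Module Γ(X.left, ⊤) (Coh.HH X.left M i) :=
  Coh.moduleΓtop M i

theorem chi_quot (hX : ArSurf.IsArithSurface R X) (π : Γ(X.left, ⊤)) (hπ : π ≠ 0) {D : X.left.IdealSheafData}
    (hD : GenOn (U := ⊤) D π) :
    letI := algS X
    letI : Module Γ(X.left, ⊤) Γ(X.left, ⊤) := Semiring.toModule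
    (Module.finrank R Γ(X.left, ⊤) : ℤ) * EulerLen.chi R (ClSub.quotMod D) =
      K480.Herbrand.φ R π Γ(X.left, ⊤) * FGA.eulerCharLE (FractionRing R) ((Neron.genericFibre R).obj X).left
        (Coh.structureModule ((Neron.genericFibre R).obj X).left) 1 := by
  have hXi := hX.2.1
  have hXf := hX.2.2.2.1
  have hpX : IsProper X.hom := Groth.Agent.Dix.InterSurf.isProper_hom hX
  have hpX' : IsProper (X.left ↘ Spec (CommRingCat.of R)) := hpX
  letI := algS X
  have hfin : Module.Finite R Γ(X.left, ⊤) := (Ega3B.ClopenLift.stein R X.hom).1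
  have hinj : Function.Injective (algebraMap R Γ(X.left, ⊤)) := Dix.EtMinStein818.injective_toΓ X.left X.hom
  letI m0 := modS (Coh.structureModule X.left) 0
  letI m1 := modS (Coh.structureModule X.left) 1
  have t0 : IsScalarTower R Γ(X.left, ⊤) (Coh.HH X.left (Coh.structureModule X.left) 0) := ⟨fun r s x => by
    rw [Algebra.smul_def, mul_smul]
    rfl⟩
  have t1 : IsScalarTower R Γ(X.left, ⊤) (Coh.HH X.left (Coh.structureModule X.left) 1) := ⟨fun r s x => by
    rw [Algebra.smul_def, mul_smul]
    rfl⟩
  obtain ⟨w, hS⟩ := Models3.H44.EulerInv.exists_shortExact hD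
  have hpb : IsPullback (pullback.fst X.hom (Neron.genPt R)) (pullback.snd X.hom (Neron.genPt R)) X.hom
      (Spec.map (CommRingCat.ofHom (algebraMap R (FractionRing R)))) := IsPullback.of_hasPullback _ _
  have hdim : topologicalKrullDim ((Neron.genericFibre R).obj X).left = 1 :=
    K479.GenDim.topologicalKrullDim_genericFibre X hX.2.2.1
  have hO : Coh.IsCoh (Coh.structureModule X.left) := CurvesB.UnitCoh.isCoh_structureModule X.left
  have hfinH : ∀ i, Module.Finite R (Coh.HH X.left (Coh.structureModule X.left) i) := fun i =>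
    Groth.Agent.S0002.result R X.left _ hO i
  have f0 : Module.Finite Γ(X.left, ⊤) (Coh.HH X.left (Coh.structureModule X.left) 0) :=
    Module.Finite.of_restrictScalars_finite R _ _
  have f1 : Module.Finite Γ(X.left, ⊤) (Coh.HH X.left (Coh.structureModule X.left) 1) :=
    Module.Finite.of_restrictScalars_finite R _ _
  have h2 : Subsingleton (Coh.HH X.left (Coh.structureModule X.left) 2) :=
    Models3.H44.FibDim.subsingleton_HH R (pullback.snd X.hom (Neron.genPt R)) X.hom
      (pullback.fst X.hom (Neron.genPt R)) hpb 1 (by exact_mod_cast hdim.le) _ hO 2 (by norm_num)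
  have hm0 : EulerLES.mapA R (Models3.H44.EulerInv.mulHom (X := X.left) π) 0 =
      K480.Herbrand.mulR R π (Coh.HH X.left (Coh.structureModule X.left) 0) := by
    ext x
    change Sheaf.H.map _ 0 x = Sheaf.H.map _ 0 x
    congr 1
    exact congrArg (fun f => Sheaf.H.map f 0) (Models3.H44.EulerInv.toAbMap_mulHom π)
  have hm1 : EulerLES.mapA R (Models3.H44.EulerInv.mulHom (X := X.left) π) 1 =
      K480.Herbrand.mulR R π (Coh.HH X.left (Coh.structureModule X.left) 1) := by
    ext x
    change Sheaf.H.map _ 1 x = Sheaf.H.map _ 1 x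
    congr 1
    exact congrArg (fun f => Sheaf.H.map f 1) (Models3.H44.EulerInv.toAbMap_mulHom π)
  have e0 := Models3.H44.DvrLen.length_eq_of_exact _ _ _ _ (EulerLES.exactA₂ R _ hS 0)
    (EulerLES.exactA₃ R _ hS 0 1 rfl) (EulerLES.exactA₁ R _ hS 0 1 rfl)
  have e1 := Models3.H44.DvrLen.length_eq_of_exact _ _ _ _ (EulerLES.exactA₂ R _ hS 1)
    (EulerLES.exactA₃ R _ hS 1 2 rfl) (EulerLES.exactA₁ R _ hS 1 2 rfl)
  have hinj0 := EulerLES.injectiveA₀ R _ hS
  change Module.length R (Coh.HH X.left (ClSub.quotMod D) 0) =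
    Module.length R (_ ⧸ LinearMap.range (EulerLES.mapA R (Models3.H44.EulerInv.mulHom (X := X.left) π) 0)) +
      Module.length R (LinearMap.ker (EulerLES.mapA R (Models3.H44.EulerInv.mulHom (X := X.left) π) 1)) at e0
  change Module.length R (Coh.HH X.left (ClSub.quotMod D) 1) =
    Module.length R (_ ⧸ LinearMap.range (EulerLES.mapA R (Models3.H44.EulerInv.mulHom (X := X.left) π) 1)) +
      Module.length R (LinearMap.ker (EulerLES.mapA R (Models3.H44.EulerInv.mulHom (X := X.left) π) 2)) at e1
  change Function.Injective (EulerLES.mapA R (Models3.H44.EulerInv.mulHom (X := X.left) π) 0) at hinj0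
  rw [hm0, hm1] at e0
  rw [hm1] at e1
  rw [hm0] at hinj0
  have hz2 : Module.length R (LinearMap.ker (EulerLES.mapA R (Models3.H44.EulerInv.mulHom (X := X.left) π) 2)) = 0 := by
    rw [Module.length_eq_zero_iff]
    infer_instance
  rw [hz2, add_zero] at e1
  have hz0 : Module.length R
      (LinearMap.ker (K480.Herbrand.mulR R π (Coh.HH X.left (Coh.structureModule X.left) 0))) = 0 := by
    rw [Module.length_eq_zero_iff, LinearMap.ker_eq_bot.2 hinj0]
    infer_instance
  have hchi : EulerLen.chi R (ClSub.quotMod D) =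
      K480.Herbrand.φ R π (Coh.HH X.left (Coh.structureModule X.left) 0) -
        K480.Herbrand.φ R π (Coh.HH X.left (Coh.structureModule X.left) 1) := by
    unfold EulerLen.chi K480.Herbrand.φ
    rw [e0, e1, hz0]
    have k1 := K480.Herbrand.finite_ker R π hinj hπ (Coh.HH X.left (Coh.structureModule X.left) 1)
    have c0 := K480.Herbrand.finite_coker R π hinj hπ (Coh.HH X.left (Coh.structureModule X.left) 0)
    rw [ENat.toNat_add c0 k1]
    simp only [ENat.toNat_zero]
    push_cast
    ring
  have r0 := K480.Herbrand.main (R := R) (S := Γ(X.left, ⊤)) π hinj hπ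
    (Coh.HH X.left (Coh.structureModule X.left) 0)
  have r1 := K480.Herbrand.main (R := R) (S := Γ(X.left, ⊤)) π hinj hπ
    (Coh.HH X.left (Coh.structureModule X.left) 1)
  have hrk : ∀ i, Module.finrank R (Coh.HH X.left (Coh.structureModule X.left) i) =
      Models.hRank (FractionRing R) _ (pullback.snd X.hom (Neron.genPt R))
        (Coh.structureModule ((Neron.genericFibre R).obj X).left) i := by
    intro i
    rw [← rk_eq_finrank]
    exact Models3.H44.EulerInv.rk_structure R (pullback.snd X.hom (Neron.genPt R)) X.hom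
      (pullback.fst X.hom (Neron.genPt R)) hpb i
  rw [hchi, mul_sub, r0, r1, K482.CurveVan.eulerCharLE_one, hrk 0, hrk 1]
  have h5 : ∀ i, (Models.hRank (FractionRing R) _ (pullback.snd X.hom (Neron.genPt R))
        (Coh.structureModule ((Neron.genericFibre R).obj X).left) i) =
      Module.finrank (FractionRing R) (Coh.HH ((Neron.genericFibre R).obj X).left
        (Coh.structureModule ((Neron.genericFibre R).obj X).left) i) := fun i => rfl
  rw [h5, h5]
  ring

end K480.CompSign
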