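import Groth.Agent.Models.H67.MultOne

/-!
# A point at which the closed fibre is integral lies on exactly one component
-/

set_option autoImplicit false
universe u

open CategoryTheory CategoryTheory.Limits AlgebraicGeometry TopologicalSpace

namespace K480.CompUniq

open Groth.Agent Groth.Agent.Models.H67

theorem fromSpecStalk_primeOf {X : Scheme.{u}} {x ξ : X} (h : ξ ⤳ x) :
    X.fromSpecStalk x (CycB.LocQuot.primeOf h) = ξ := by
  have h1 := Scheme.SpecMap_stalkSpecializes_fromSpecStalk h
  have h2 := Scheme.fromSpecStalk_closedPoint (X := X) (x := ξ)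
  rw [← h1, Scheme.Hom.comp_apply] at h2
  exact h2

variable {R : Type u} [CommRing R] [IsDomain R] [IsDiscreteValuationRing R]
  {X : Over (Spec (CommRingCat.of R))}

theorem range_eq (Γ Γ' : ArSurf.VertComp R X)
    (hΓ : Set.range (Γ.ι.base : Γ.curve.left → X.left) ∈ Models.fibreComponents R X)
    (hΓ' : Set.range (Γ'.ι.base : Γ'.curve.left → X.left) ∈ Models.fibreComponents R X) {x : X.left}
    (hx : x ∈ Set.range (Γ.ι.base : Γ.curve.left → X.left))
    (hx' : x ∈ Set.range (Γ'.ι.base : Γ'.curve.left → X.left))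
    (hd : IsDomain (X.left.presheaf.stalk x ⧸
      Ideal.map (Models.stalkHom R X x) (IsLocalRing.maximalIdeal R))) :
    Set.range (Γ.ι.base : Γ.curve.left → X.left) = Set.range (Γ'.ι.base : Γ'.curve.left → X.left) := by
  rw [MultOne.range_eq_closure, MultOne.range_eq_closure]
  have h1 := MultOne.primeOf_eq Γ hΓ hx hd
  have h2 := MultOne.primeOf_eq Γ' hΓ' hx' hd
  have h3 : CycB.LocQuot.primeOf (MultOne.genPtOf_specializes Γ hx) =
      CycB.LocQuot.primeOf (MultOne.genPtOf_specializes Γ' hx') := by
    apply PrimeSpectrum.ext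
    rw [CycB.LocQuot.primeOf_asIdeal, CycB.LocQuot.primeOf_asIdeal, h1, h2]
  rw [← fromSpecStalk_primeOf (MultOne.genPtOf_specializes Γ hx),
    ← fromSpecStalk_primeOf (MultOne.genPtOf_specializes Γ' hx'), h3]

end K480.CompUniq
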