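import Mathlib.RingTheory.Ideal.Cotangent
import Mathlib.RingTheory.Length
import Mathlib.RingTheory.RegularLocalRing.Defs
import Mathlib.LinearAlgebra.FiniteDimensional.Basic

/-!
# The dimension of the cotangent space from lengths over a base ring (helper480)
-/

set_option autoImplicit false

namespace K480.CotLen

open IsLocalRing

theorem finrank_congr {A B : Type*} [CommRing A] [CommRing B] [IsLocalRing A] [IsNoetherianRing A] [IsLocalRing B]
    [IsNoetherianRing B] (e : A ≃+* B) :
    Module.finrank (ResidueField A) (CotangentSpace A) = Module.finrank (ResidueField B) (CotangentSpace B) := by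
  rw [← spanFinrank_maximalIdeal_eq_finrank_cotangentSpace, ← spanFinrank_maximalIdeal_eq_finrank_cotangentSpace,
    ← map_ringEquiv_maximalIdeal e, Ideal.spanFinrank_map_eq_of_ringEquiv]

variable {R A : Type*} [CommRing R] [CommRing A] [IsLocalRing A] [IsNoetherianRing A] [Algebra R A]

theorem length_cotangentSpace : Module.length R (CotangentSpace A) =
    (Module.finrank (ResidueField A) (CotangentSpace A) : ℕ∞) * Module.length R (ResidueField A) := by
  let b := Module.finBasis (ResidueField A) (CotangentSpace A)
  let e : CotangentSpace A ≃ₗ[R] (Fin (Module.finrank (ResidueField A) (CotangentSpace A)) → ResidueField A) :=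
    { b.equivFun with
      map_smul' := by
        intro c x
        have h1 : c • x = (algebraMap A (ResidueField A) (algebraMap R A c)) • x := by
          rw [algebraMap_smul, algebraMap_smul]
        change b.equivFun (c • x) = c • b.equivFun x
        rw [h1, map_smul]
        ext i
        simp only [Pi.smul_apply, Algebra.smul_def]
        rfl }
  rw [e.length_eq, Module.length_pi]
  simp

omit [IsNoetherianRing A] in
theorem length_sq : Module.length R (A ⧸ maximalIdeal A ^ 2) =
    Module.length R (CotangentSpace A) + Module.length R (A ⧸ maximalIdeal A ^ 1) := by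
  let f : CotangentSpace A →ₗ[R] A ⧸ maximalIdeal A ^ 2 :=
    ((maximalIdeal A).cotangentToQuotientSquare).restrictScalars R
  let g : (A ⧸ maximalIdeal A ^ 2) →ₗ[R] A ⧸ maximalIdeal A ^ 1 :=
    (Ideal.Quotient.factorₐ R (Ideal.pow_le_pow_right (by norm_num : 1 ≤ 2))).toLinearMap
  refine Module.length_eq_add_of_exact f g (maximalIdeal A).cotangentToQuotientSquare_injective
    (Ideal.Quotient.factor_surjective (Ideal.pow_le_pow_right (by norm_num : 1 ≤ 2))) ?_
  intro x
  obtain ⟨x, rfl⟩ := Ideal.Quotient.mk_surjective x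
  have hg : g (Ideal.Quotient.mk _ x) = Ideal.Quotient.mk _ x := rfl
  rw [hg, Ideal.Quotient.eq_zero_iff_mem, pow_one]
  constructor
  · intro hx
    exact ⟨(maximalIdeal A).toCotangent ⟨x, hx⟩, rfl⟩
  · rintro ⟨y, hy⟩
    obtain ⟨y, rfl⟩ := (maximalIdeal A).toCotangent_surjective y
    have h1 : (Ideal.Quotient.mk (maximalIdeal A ^ 2)) y.1 = Ideal.Quotient.mk (maximalIdeal A ^ 2) x := hy
    rw [Ideal.Quotient.eq] at h1
    have h2 := Ideal.pow_le_self (two_ne_zero) h1
    have h3 := (maximalIdeal A).sub_mem y.2 h2
    rwa [sub_sub_cancel] at h3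

theorem finrank_eq (N ℓ : ℕ) (hκ : Module.length R (ResidueField A) = (ℓ : ℕ∞))
    (hm : Module.length R (A ⧸ maximalIdeal A ^ 1) = (ℓ : ℕ∞))
    (h : Module.length R (A ⧸ maximalIdeal A ^ 2) = Module.length R (A ⧸ maximalIdeal A ^ 1) + (N : ℕ∞) +
      Module.length R (ResidueField A)) :
    Module.finrank (ResidueField A) (CotangentSpace A) * ℓ = N + ℓ := by
  rw [length_sq, length_cotangentSpace, hκ, hm] at h
  have h1 : (Module.finrank (ResidueField A) (CotangentSpace A) * ℓ + ℓ : ℕ) = (ℓ + N + ℓ : ℕ) := by
    exact_mod_cast h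
  omega

end K480.CotLen
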