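import Groth.Agent.Dix.MinimalUnique
import Groth.Agent.Dix.CastMain
import Groth.Agent.Dix.EtMinStein818
import Groth.Agent.Dix.EtMinDisj625
import Groth.Agent.Dix.EtMin25F

/-!
# Disjointness of (-1)-curves and extension of isomorphisms of generic fibres (helper480)

The generic fibre is not assumed geometrically integral; only `H¹(O) ≠ 0`.
-/

set_option autoImplicit false
universe u

open CategoryTheory CategoryTheory.Limits AlgebraicGeometry TopologicalSpace

namespace K480.DisjMinus

open Groth.Agent Groth.Agent.Dix Groth.Agent.Dix.MinusCurve Groth.Agent.Dix.GenFibre Groth.Agent.Dix.MinimalUnique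
open Groth.Agent.Dix.RegSurfConn979 Groth.Agent.Dix.RegSurfLoc979

variable {R : Type u} [CommRing R] [IsDedekindDomain R]

/-- On a regular proper surface over a Dedekind domain whose generic fibre has `H¹(O) ≠ 0`, two different
(-1)-curves are disjoint. -/
theorem disjMinus (hR : ¬ IsField R) {W : Over (Spec (CommRingCat.of R))} (hW : IsRegSurf R W)
    (hg : Nontrivial (Coh.HH ((Neron.genericFibre R).obj W).left (Coh.structureModule _) 1)) :
    DisjMinus W.left := by
  obtain ⟨A, _, _, _, _, f, hf, hA, hfp, hff, hfi, hfg⟩ := EtMinStein818.stein hR W hW hg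
  let W' : Over (Spec (CommRingCat.of A)) := Over.mk f
  have hW' : IsRegSurf A W' := ⟨hW.regular, hW.isIntegral, hW.dim, hff, hfp⟩
  intro E₁ E₂ hne
  have := hW'.proper
  refine DisjLoc105.disjMinus W' MinusLift515.exists_minusCurve_lift ?_ E₁ E₂ hne
  intro p hp F₁ F₂ hF
  have hmax : p.asIdeal.IsMaximal := (PrimeSpectrum.isClosed_singleton_iff_isMaximal _).1 hp
  have hbot : p.asIdeal ≠ ⊥ := Ring.ne_bot_of_isMaximal_of_not_isField hmax hA
  have hDVR : IsDiscreteValuationRing (Localization.AtPrime p.asIdeal) :=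
    IsLocalization.AtPrime.isDiscreteValuationRing_of_dedekind_domain A hbot _
  have hWp := isRegSurf_loc p.asIdeal hbot hW'
  have h1 := hWp.isIntegral
  have h2 := hWp.proper
  have h3 := hWp.flat
  have hlnS : IsLocallyNoetherian (Spec (CommRingCat.of A)) := inferInstance
  have hlnX : IsLocallyNoetherian W.left := LocallyOfFiniteType.isLocallyNoetherian f
  have hgc : GeometricallyConnected f := FlatA.Stein.geometricallyConnected_of_isIso_appTop f
  have hgc₁ : GeometricallyConnected (loc p.asIdeal W').hom :=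
    inferInstanceAs (GeometricallyConnected (pullback.snd f _))
  exact MinusDisjoint490.disjoint (Localization.AtPrime p.asIdeal) (loc p.asIdeal W')
    (Scheme.Hom.isConnected_preimage_singleton (loc p.asIdeal W').hom _).isPreconnected
    (nontrivial_HH_loc p.asIdeal W' 1 hfg) F₁ F₂ hF

/-- The same, for a surface whose generic fibre is isomorphic to a given one. -/
theorem disjMinus_of_iso (hR : ¬ IsField R) {X W : Over (Spec (CommRingCat.of R))} (hW : IsRegSurf R W)
    (hg : Nontrivial (Coh.HH ((Neron.genericFibre R).obj X).left (Coh.structureModule _) 1))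
    (e : (Neron.genericFibre R).obj W ≅ (Neron.genericFibre R).obj X) :
    DisjMinus W.left := by
  have he : IsIso e.hom.left := inferInstance
  exact disjMinus hR hW (EtMinStein818.nontrivial_of_iso e.hom.left hg)

/-- A relatively minimal arithmetic surface contains no (-1)-curve. -/
theorem isEmpty_minusCurve (hR : ¬ IsField R) (X : Over (Spec (CommRingCat.of R))) (hX : ArSurf.IsArithSurface R X)
    (hmin : Neron.IsRelMinimalRegularModel R X) : IsEmpty (MinusCurve X.left) := by
  refine MinimalUnique.isEmpty_minusCurve hR hmin ?_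
  intro k _ ι _ heff hdeg
  obtain ⟨Y, f, y, hy, h1, h2, -, h4⟩ := CastMain.wp5 R X hX k ι heff hdeg
  exact ⟨Y, f, y, hy, h1, h2, h4⟩

/-- An isomorphism of the generic fibres of a regular proper surface `X₁` and of a relatively minimal arithmetic
surface `X₂` extends to a morphism `X₁ ⟶ X₂` if `H¹(O) ≠ 0` on the generic fibre. -/
theorem exists_hom (hR : ¬ IsField R) (X₁ X₂ : Over (Spec (CommRingCat.of R))) (h₁ : IsRegSurf R X₁)
    (h₂ : ArSurf.IsArithSurface R X₂) (m₂ : Neron.IsRelMinimalRegularModel R X₂)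
    (hg : Nontrivial (Coh.HH ((Neron.genericFibre R).obj X₁).left (Coh.structureModule _) 1))
    (φ : (Neron.genericFibre R).obj X₁ ≅ (Neron.genericFibre R).obj X₂) :
    ∃ f : X₁ ⟶ X₂, (Neron.genericFibre R).map f = φ.hom := by
  refine MinimalUnique.exists_hom hR X₁ X₂ h₁ h₂ (isEmpty_minusCurve hR X₂ h₂ m₂) ?_ φ
  intro W s m hs
  have hs' := isIso_genericFibre_of_rchain hR hs
  exact disjMinus_of_iso hR (hs.source (isRegSurf_of_isArithSurface h₂)) hg
    (asIso ((Neron.genericFibre R).map s) ≪≫ φ.symm)

/-- Uniqueness of relatively minimal models with `H¹(O) ≠ 0` on the generic fibre. -/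
theorem existsUnique (X₁ X₂ : Over (Spec (CommRingCat.of R)))
    (h₁ : ArSurf.IsArithSurface R X₁) (h₂ : ArSurf.IsArithSurface R X₂)
    (m₁ : Neron.IsRelMinimalRegularModel R X₁) (m₂ : Neron.IsRelMinimalRegularModel R X₂)
    (hg : Nontrivial (Coh.HH ((Neron.genericFibre R).obj X₁).left (Coh.structureModule _) 1))
    (φ : (Neron.genericFibre R).obj X₁ ≅ (Neron.genericFibre R).obj X₂) :
    ∃! f : X₁ ⟶ X₂, IsIso f ∧ (Neron.genericFibre R).map f = φ.hom := by
  by_cases hR : IsField R
  · exact MinUniqField.exists_unique_of_isField hR X₁ X₂ φ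
  · obtain ⟨f, hf⟩ := exists_hom hR X₁ X₂ (isRegSurf_of_isArithSurface h₁) h₂ m₂ hg φ
    have h3 : IsIso ((Neron.genericFibre R).map f) := by
      rw [hf]
      infer_instance
    have h4 := h₁.2.2.2.1
    have h5 := isProper_of_isProjectiveOver h₂.2.2.2.2
    refine ⟨f, ⟨m₁.2.2.2 X₂ h₂.1 h₂.2.2.2.2 h₂.2.2.2.1 f h3, hf⟩, ?_⟩
    rintro g ⟨-, hg'⟩
    exact GenExtUniq.ext_of_genericFibre (hg'.trans hf.symm)

/-- `χ(O) ≤ 0` on the generic fibre of a regular surface implies `H¹(O) ≠ 0`. -/
theorem nontrivial_HH_one {X : Over (Spec (CommRingCat.of R))} (hXs : IsRegSurf R X)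
    (hg : FGA.eulerCharLE (FractionRing R) ((Neron.genericFibre R).obj X).left
      (Coh.structureModule _) 1 ≤ 0) :
    Nontrivial (Coh.HH ((Neron.genericFibre R).obj X).left (Coh.structureModule _) 1) := by
  have := hXs.isIntegral
  have := hXs.proper
  have := hXs.flat
  have hne : Nonempty ((Neron.genericFibre R).obj X).left := by
    obtain ⟨z, -⟩ := exists_genι_eq X _ (asIdeal_hom_genericPoint X)
    exact ⟨z⟩
  have hp : IsProper (((Neron.genericFibre R).obj X).left ↘ Spec (CommRingCat.of (FractionRing R))) :=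
    inferInstanceAs (IsProper (pullback.snd X.hom (Neron.genPt R)))
  exact EtMin25F.nontrivial_HH_one (FractionRing R) ((Neron.genericFibre R).obj X).left hg

end K480.DisjMinus
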