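import Groth.Agent.ArSurf.K480.CompMain
import Groth.Agent.Models.H49.P1Recog
import Groth.Agent.Dix.Cast0
import Groth.Agent.S0023
import Groth.Agent.S0024

/-!
# Exceptional curves and the canonical sheaf (helper480, S13319, S13320)
-/

set_option autoImplicit false
universe u

open CategoryTheory CategoryTheory.Limits AlgebraicGeometry Opposite TopologicalSpace

namespace K480.ExcAdj

open Groth.Agent K480.AdjNum

/-- Cohomology of a curve over `k` which is the projective line over a finite extension `k'`. -/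
theorem finrank_P1 (k k' : Type u) [Field k] [Field k'] [Algebra k k'] (Y : Scheme.{u})
    [Y.Over (Spec (CommRingCat.of k))] (e : Y ≅ CohB1.ProjSpace 1 k')
    (he : e.hom ≫ (CohB1.ProjSpace 1 k' ↘ Spec (CommRingCat.of k')) ≫
      Spec.map (CommRingCat.ofHom (algebraMap k k')) = Y ↘ Spec (CommRingCat.of k)) :
    Module.finrank k (Coh.HH Y (Coh.structureModule Y) 1) = 0 ∧
    Module.finrank k (Coh.HH Y (Coh.structureModule Y) 0) = Module.finrank k k' := by
  let i : (CohB1.ProjSpace 1 k').Over (Spec (CommRingCat.of k)) :=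
    ⟨(CohB1.ProjSpace 1 k' ↘ Spec (CommRingCat.of k')) ≫ Spec.map (CommRingCat.ofHom (algebraMap k k'))⟩
  have hconst : ((CohB1.ProjSpace 1 k') ↘ Spec (CommRingCat.of k)) =
      ((CohB1.ProjSpace 1 k') ↘ Spec (CommRingCat.of k')) ≫
        Spec.map (CommRingCat.ofHom (algebraMap k k')) := rfl
  have hover : e.inv ≫ (Y ↘ Spec (CommRingCat.of k)) =
      (CohB1.ProjSpace 1 k') ↘ Spec (CommRingCat.of k) := by
    rw [Iso.inv_comp_eq]
    exact he.symm
  have hO : ∀ n, Module.finrank k (Coh.HH Y (Coh.structureModule Y) n) =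
      Module.finrank k k' * Module.finrank k' (Coh.HH (CohB1.ProjSpace 1 k')
        (Coh.structureModule (CohB1.ProjSpace 1 k')) n) := by
    intro n
    rw [← Dix.Cast0.finrank_HH_const k k' (CohB1.ProjSpace 1 k') hconst,
      ← Dix.Cast0.finrank_HH_iso k e.inv hover _ (Groth.Agent.S2329.isCoh_of_isInvertible
      Fdesc.LocGen.isInvertible_structureModule).1 n]
    exact (CurvesA.HHMap.equivOver k (CurvesA.HHMap.pullbackUnit e.inv) n).finrank_eq
  constructor
  · have := Groth.Agent.S0023.result 1 k' 1 one_pos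
    rw [hO, Module.finrank_zero_of_subsingleton (R := k'), mul_zero]
  · have h1 : Module.finrank k' (Coh.HH (CohB1.ProjSpace 1 k')
        (Coh.structureModule (CohB1.ProjSpace 1 k')) 0) = 1 :=
      Models3.H44.EulerInv.finrank_H0 k' (CohB1.ProjSpace.toSpec 1 k') (Groth.Agent.S0024.result 1 k')
    rw [hO, h1, mul_one]

variable {R : Type u} [CommRing R] [IsDomain R] [IsDiscreteValuationRing R]
variable {X : Over (Spec (CommRingCat.of R))}

/-- The form of an exceptional divisor in Castelnuovo's criterion. -/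
def Exc (E : ArSurf.VertComp R X) (L : X.left.Modules) : Prop :=
  ∃ (k' : Type u) (_ : Field k') (_ : Algebra (IsLocalRing.ResidueField R) k'),
        FiniteDimensional (IsLocalRing.ResidueField R) k' ∧
        ∃ e : E.curve.left ≅ CohB1.ProjSpace 1 k',
          e.hom ≫ (CohB1.ProjSpace 1 k' ↘ Spec (CommRingCat.of k')) ≫
              Spec.map (CommRingCat.ofHom (algebraMap (IsLocalRing.ResidueField R) k')) = E.curve.hom ∧
            ArSurf.inter R X L E = -(Module.finrank (IsLocalRing.ResidueField R) k' : ℤ)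

theorem exc_of_neg (hX : ArSurf.IsArithSurface R X) (E : ArSurf.VertComp R X) (L : X.left.Modules)
    (hL : ClSub.IsInverseOf L (ClSub.idealMod E.ι.ker)) (ω : X.left.Modules) (hadj : Adj R X ω)
    (h1 : ArSurf.inter R X ω E < 0) (h2 : ArSurf.inter R X L E < 0) :
    Exc E L ∧ ArSurf.inter R X ω E = ArSurf.inter R X L E := by
  have hpX : IsProper X.hom := Groth.Agent.Dix.InterSurf.isProper_hom hX
  have hpE := Models.H45.WDeg.isProper_curve E
  have hEi := E.isIntegral
  have hw := wdeg_pos hX E
  have hle : ∀ M : X.left.Modules, ArSurf.inter R X M E < 0 →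
      ArSurf.inter R X M E ≤ -(Models.wdeg R X E : ℤ) := by
    intro M hM
    obtain ⟨c, hc⟩ := Models.H45.WDeg.wdeg_dvd_inter E M
    have hc0 : c < 0 := by
      by_contra hcon
      push Not at hcon
      have := mul_nonneg (Int.natCast_nonneg (Models.wdeg R X E)) hcon
      linarith
    have hw' : (0 : ℤ) < Models.wdeg R X E := by exact_mod_cast hw
    rw [hc]
    nlinarith
  have h3 := hadj E L hL
  rw [euler_eq] at h3
  have hL1 := hle L h2
  have hω1 := hle ω h1
  have hh : (0 : ℤ) ≤ Models.h1 R X E := Int.natCast_nonneg _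
  have hh1 : (Models.h1 R X E : ℤ) = 0 := by linarith
  have hLw : ArSurf.inter R X L E = -(Models.wdeg R X E : ℤ) := by linarith
  have hωw : ArSurf.inter R X ω E = -(Models.wdeg R X E : ℤ) := by linarith
  refine ⟨?_, hωw.trans hLw.symm⟩
  obtain ⟨-, hI⟩ := Dix.IdealModCartier.isInvertible_of_isInverseOf hL
  have hdeg : ArSurf.curveDeg (IsLocalRing.ResidueField R) E.curve.left
      ((Scheme.Modules.pullback E.ι).obj (ClSub.idealMod E.ι.ker)) =
      Module.finrank (IsLocalRing.ResidueField R) (Coh.HH E.curve.left (Coh.structureModule E.curve.left) 0) := by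
    have h4 := Models.H65.InterProper.inter_inverse hL E
    have h5 : ArSurf.inter R X (ClSub.idealMod E.ι.ker) E = (Models.wdeg R X E : ℤ) := by linarith
    exact h5
  obtain ⟨K, iK, iA, hfin, e, he, hK, -⟩ := Models.H49.P1Recog.exists_iso_const (IsLocalRing.ResidueField R)
    E.curve.left E.dim_eq (by exact_mod_cast hh1) _ (Fdesc.LocGen.isInvertible_pullback E.ι hI) hdeg
  refine ⟨K, iK, iA, hfin, e.symm, ?_, ?_⟩
  · rw [Iso.symm_hom, Iso.inv_comp_eq]
    exact he.symm
  · rw [hLw, hK]
    rfl

theorem neg_of_exc (hX : ArSurf.IsArithSurface R X) (E : ArSurf.VertComp R X) (L : X.left.Modules)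
    (hL : ClSub.IsInverseOf L (ClSub.idealMod E.ι.ker)) (ω : X.left.Modules) (hadj : Adj R X ω)
    (h : Exc E L) : ArSurf.inter R X ω E < 0 ∧ ArSurf.inter R X L E < 0 := by
  obtain ⟨k', _, _, hfin, e, he, hself⟩ := h
  obtain ⟨h1, h0⟩ := finrank_P1 (IsLocalRing.ResidueField R) k' E.curve.left e he
  have hpos : (0 : ℤ) < Module.finrank (IsLocalRing.ResidueField R) k' := by
    exact_mod_cast Module.finrank_pos
  have h3 := hadj E L hL
  rw [K482.CurveVan.eulerCharLE_one, h1, h0, hself] at h3
  push_cast at h3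
  constructor
  · linarith
  · linarith

theorem exc_of_genus_pos (hX : ArSurf.IsArithSurface R X)
    (hg : FGA.eulerCharLE (FractionRing R) ((Neron.genericFibre R).obj X).left
      (Coh.structureModule ((Neron.genericFibre R).obj X).left) 1 ≤ 0)
    (E : ArSurf.VertComp R X) (L : X.left.Modules)
    (hL : ClSub.IsInverseOf L (ClSub.idealMod E.ι.ker)) (ω : X.left.Modules) (hadj : Adj R X ω)
    (h1 : ArSurf.inter R X ω E < 0) : Exc E L := by
  have hself := K480.CompMain.self_inter hX E L hL
  rcases hself.1.lt_or_eq with h | h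
  · exact (exc_of_neg hX E L hL ω hadj h1 h).1
  · exfalso
    obtain ⟨U, hU⟩ := hself.2.1 h
    obtain ⟨m, n, hm, hn, hmn⟩ := K480.CompMain.exists_mul_eq hX E L hL ω hadj h U hU
    have h2 := mul_neg_of_pos_of_neg hm h1
    have h3 := mul_nonpos_of_nonneg_of_nonpos hn.le hg
    linarith

end K480.ExcAdj
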