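import Groth.Agent.Dix.ExcCurve

/-!
# The exceptional curve of the blow-up of a closed point, over the point

A variant of `Groth.Agent.Dix.ExcCurve.exists_curve` which keeps track of the structure morphism: the exceptional
curve is `i : P^1_κ ⟶ W` with `i ≫ π = P^1_κ ⟶ Spec κ ⟶ V`.
-/

set_option autoImplicit false
universe u

open CategoryTheory CategoryTheory.Limits AlgebraicGeometry Opposite TopologicalSpace

namespace K480.ExcCurve2

open Groth.Agent Groth.Agent.CurvesC.BlowUpCharts Groth.Agent.Dix.ExcP1 Groth.Agent.Dix.PointIdeal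
open Groth.Agent.Dix Groth.Agent.Dix.ExcCurve

theorem exists_iso_local' (A : Type u) [CommRing A] [IsRegularLocalRing A] (hA : ringKrullDim A = 2) {X E : Scheme.{u}}
    {b : X ⟶ Spec (CommRingCat.of A)} (hb : BlowUp.IsBlowUp b (Curv2.idealSheaf A (IsLocalRing.maximalIdeal A)))
    (i : E ⟶ X) [IsClosedImmersion i] (hi : i.ker = excI b (IsLocalRing.maximalIdeal A)) :
    ∃ e : E ≅ CohB1.ProjSpace 1 (A ⧸ IsLocalRing.maximalIdeal A),
      e.hom ≫ CohB1.ProjSpace.toSpec 1 (A ⧸ IsLocalRing.maximalIdeal A) ≫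
        Spec.map (CommRingCat.ofHom (Ideal.Quotient.mk (IsLocalRing.maximalIdeal A))) = i ≫ b ∧
      Nonempty ((Scheme.Modules.pullback e.hom).obj (Twist.twistProjSpace 1 (A ⧸ IsLocalRing.maximalIdeal A) 1) ≅
        (Scheme.Modules.pullback i).obj (ClSub.idealMod (excI b (IsLocalRing.maximalIdeal A)))) := by
  obtain ⟨v, hv⟩ := exists_regPair A hA
  have := CalgA.RegBasic.isDomain A
  have hle : (Spec.map (CommRingCat.ofHom (Ideal.Quotient.mk (IsLocalRing.maximalIdeal A)))).ker ≤ (i ≫ b).ker := by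
    rw [ker_SpecMap_mk]
    exact le_ker_comp_of_comap_le _ _ _ hi.ge
  obtain ⟨e, he, φ⟩ := exists_iso hv hb i hi (IsClosedImmersion.lift _ (i ≫ b) hle)
    (IsClosedImmersion.lift_fac _ _ hle).symm
  refine ⟨e, ?_, φ⟩
  rw [← Category.assoc, he, IsClosedImmersion.lift_fac]

/-- The exceptional curve of the blow-up of a closed point with regular two-dimensional local ring. -/
theorem exists_curve_aux {V W : Scheme.{u}} (π : W ⟶ V) (x : V) (hx : IsClosed ({x} : Set V))
    [IsRegularLocalRing (V.presheaf.stalk x)] (hdim : ringKrullDim (V.presheaf.stalk x) = 2)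
    (hπ : BlowUp.IsBlowUp π (pt x hx)) :
    ∃ (i : CohB1.ProjSpace 1 (V.presheaf.stalk x ⧸ IsLocalRing.maximalIdeal (V.presheaf.stalk x)) ⟶ W),
      IsClosedImmersion i ∧ i.ker = (pt x hx).comap π ∧
      Nonempty ((Scheme.Modules.pullback i).obj (ClSub.idealMod i.ker) ≅
        Twist.twistProjSpace 1 (V.presheaf.stalk x ⧸ IsLocalRing.maximalIdeal (V.presheaf.stalk x)) 1) ∧
      i ≫ π = CohB1.ProjSpace.toSpec 1 (V.presheaf.stalk x ⧸ IsLocalRing.maximalIdeal (V.presheaf.stalk x)) ≫
        Spec.map (CommRingCat.ofHom (Ideal.Quotient.mk (IsLocalRing.maximalIdeal (V.presheaf.stalk x)))) ≫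
        V.fromSpecStalk x := by
  let j : Spec (CommRingCat.of (V.presheaf.stalk x)) ⟶ V := V.fromSpecStalk x
  have hflat : Flat j := Groth.Agent.VarietyA.FlatStalk.flat_fromSpecStalk V x
  have hb := Groth.Agent.S1680.result j (pt x hx) π hπ
  rw [comap_fromSpecStalk_pt] at hb
  let b : pullback j π ⟶ Spec (CommRingCat.of (V.presheaf.stalk x)) := pullback.fst j π
  let p := pullback.snd j π
  let D := (pt x hx).comap π
  have hcomap : (Curv2.idealSheaf (V.presheaf.stalk x) (IsLocalRing.maximalIdeal (V.presheaf.stalk x))).comap b =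
      D.comap p := by
    rw [← comap_fromSpecStalk_pt x hx, ← Scheme.IdealSheafData.comap_comp, ← Scheme.IdealSheafData.comap_comp]
    congr 1
    exact pullback.condition
  let i₀ := pullback.fst p D.subschemeι
  have hi₀ : i₀.ker = excI b (IsLocalRing.maximalIdeal (V.presheaf.stalk x)) := by
    rw [Scheme.IdealSheafData.ker_fst_of_isClosedImmersion, Scheme.IdealSheafData.ker_subschemeι]
    exact hcomap.symm
  obtain ⟨e, he, ⟨φ⟩⟩ := exists_iso_local' (V.presheaf.stalk x) hdim hb i₀ hi₀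
  have hiso : IsIso (pullback.snd p D.subschemeι) := by
    have h1 : IsPullback (i₀ ≫ b) (pullback.snd p D.subschemeι) j (D.subschemeι ≫ π) :=
      (IsPullback.of_hasPullback p D.subschemeι).paste_horiz (IsPullback.of_hasPullback j π)
    obtain ⟨t, ht⟩ := exists_pt_lift x hx
    refine isIso_snd_of_mono h1 ((((pt x hx).comapIso π).hom ≫ pullback.snd _ _) ≫ t) ?_
    rw [Category.assoc, ht, Category.assoc, ← pullback.condition]
    rw [Scheme.IdealSheafData.comapIso_hom_fst_assoc]
  have hfac : i₀ ≫ p = pullback.snd p D.subschemeι ≫ D.subschemeι := pullback.condition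
  have hcl : IsClosedImmersion (e.inv ≫ i₀ ≫ p) := by
    rw [hfac]
    infer_instance
  have hker : (e.inv ≫ i₀ ≫ p).ker = D := by
    rw [Scheme.Hom.ker_comp_of_isIso, hfac, Scheme.Hom.ker_comp_of_isIso, Scheme.IdealSheafData.ker_subschemeι]
  have hD : BlowUp.IsEffCartierIdeal D := hπ.1
  have hD' : BlowUp.IsEffCartierIdeal (D.comap p) := by rw [← hcomap]; exact hb.1
  obtain ⟨ψ⟩ := IdealModCartier.pullback_idealMod p hD hD'
  rw [← hcomap] at ψ
  refine ⟨e.inv ≫ i₀ ≫ p, hcl, hker, ⟨?_⟩, ?_⟩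
  · rw [hker]
    refine (Scheme.Modules.pullbackComp e.inv (i₀ ≫ p)).symm.app _ ≪≫ ?_
    refine (Scheme.Modules.pullback e.inv).mapIso ((Scheme.Modules.pullbackComp i₀ p).symm.app _) ≪≫ ?_
    refine (Scheme.Modules.pullback e.inv).mapIso ((Scheme.Modules.pullback i₀).mapIso ψ ≪≫ φ.symm) ≪≫ ?_
    refine (Scheme.Modules.pullbackComp e.inv e.hom).app _ ≪≫ ?_
    refine (Scheme.Modules.pullbackCongr e.inv_hom_id).app _ ≪≫ ?_
    exact (Scheme.Modules.pullbackId _).app _
  · have h1 : (e.inv ≫ i₀ ≫ p) ≫ π = e.inv ≫ (i₀ ≫ b) ≫ j := by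
      simp only [Category.assoc]
      congr 2
      exact (pullback.condition (f := j) (g := π)).symm
    rw [h1, ← he]
    simp only [Category.assoc, Iso.inv_hom_id_assoc]
    rfl

/-- The exceptional curve of the blow-up of a closed point with regular two-dimensional local ring. -/
theorem exists_curve' {V W : Scheme.{u}} (π : W ⟶ V) (x : V) (hx : IsClosed ({x} : Set V))
    [IsRegularLocalRing (V.presheaf.stalk x)] (hdim : ringKrullDim (V.presheaf.stalk x) = 2)
    (hπ : BlowUp.IsBlowUp π (pt x hx)) :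
    ∃ (i : CohB1.ProjSpace 1 (V.residueField x) ⟶ W),
      IsClosedImmersion i ∧ i.ker = (pt x hx).comap π ∧
      Nonempty ((Scheme.Modules.pullback i).obj (ClSub.idealMod i.ker) ≅
        Twist.twistProjSpace 1 (V.residueField x) 1) ∧
      i ≫ π = CohB1.ProjSpace.toSpec 1 (V.residueField x) ≫ V.fromSpecResidueField x :=
  exists_curve_aux π x hx hdim hπ

end K480.ExcCurve2
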