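import Groth.Agent.CurvesB.DimPts
import Groth.Agent.ArSurf.K480.ExcCurve2
import Groth.Agent.Ega1.ReducedSub
import Groth.Agent.Models.H50.ExcNum
import Groth.Agent.Dix.RegSurfLoc979
import Groth.Agent.Models.H45.WDeg
import Groth.Agent.Models.H125.RatPt

/-!
# The reduced exceptional fibre of the blow-up of a closed point of an arithmetic surface

* `exists_iso`: a reduced closed subscheme `ι : E ⟶ X` with support the fibre of the blow-up `f` over `y` is the
  projective line over `κ(y)`, with conormal sheaf `O(1)`.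
-/

set_option autoImplicit false
universe u

open CategoryTheory CategoryTheory.Limits AlgebraicGeometry Opposite TopologicalSpace

namespace K480.ExcRec

open Groth.Agent Groth.Agent.Dix.PointIdeal

/-- Two closed immersions with reduced sources and the same range differ by an isomorphism. -/
theorem exists_iso_of_range_eq {E E' X : Scheme.{u}} (i : E ⟶ X) (i' : E' ⟶ X) [IsClosedImmersion i]
    [IsClosedImmersion i'] [IsReduced E] [IsReduced E'] (h : Set.range i = Set.range i') :
    ∃ e : E ≅ E', e.hom ≫ i' = i := by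
  obtain ⟨a, ha⟩ := Ega1.ReducedSub.exists_factor_of_range_subset i i' h.le
  obtain ⟨b, hb⟩ := Ega1.ReducedSub.exists_factor_of_range_subset i' i h.ge
  refine ⟨⟨a, b, ?_, ?_⟩, ha⟩
  · rw [← cancel_mono i, Category.assoc, hb, ha, Category.id_comp]
  · rw [← cancel_mono i', Category.assoc, ha, hb, Category.id_comp]

theorem exists_iso {E X Y : Scheme.{u}} (ι : E ⟶ X) [IsClosedImmersion ι] [IsReduced E] (f : X ⟶ Y)
    (y : Y) (hy : IsClosed ({y} : Set Y)) [IsRegularLocalRing (Y.presheaf.stalk y)]
    (hdim : ringKrullDim (Y.presheaf.stalk y) = 2) (hf : BlowUp.IsBlowUp f (pt y hy))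
    (hE : Set.range ι = f ⁻¹' {y}) :
    BlowUp.IsEffCartierIdeal ι.ker ∧ ∃ e : CohB1.ProjSpace 1 (Y.residueField y) ≅ E,
      e.hom ≫ ι ≫ f = CohB1.ProjSpace.toSpec 1 (Y.residueField y) ≫ Y.fromSpecResidueField y ∧
      Nonempty ((Scheme.Modules.pullback (e.hom ≫ ι)).obj (ClSub.idealMod ι.ker) ≅
        Twist.twistProjSpace 1 (Y.residueField y) 1) := by
  obtain ⟨i, hi, hker, ht, hw⟩ := ExcCurve2.exists_curve' f y hy hdim hf
  have hrange : Set.range i = Set.range ι := by
    have h1 : Set.range i = (i.ker.support : Set X) := by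
      rw [Scheme.Hom.support_ker, i.isClosedEmbedding.isClosed_range.closure_eq]
    rw [h1, hker, hE, Scheme.IdealSheafData.support_comap]
    ext x
    change f x ∈ (pt y hy).support ↔ _
    rw [mem_support_pt]
    rfl
  obtain ⟨e, he⟩ := exists_iso_of_range_eq i ι hrange
  have hk : ι.ker = i.ker := by
    rw [← he, Scheme.Hom.ker_comp_of_isIso]
  refine ⟨by rw [hk, hker]; exact hf.1, e, ?_, ?_⟩
  · rw [← Category.assoc, he]
    exact hw
  · rw [he, hk]
    exact ht

end K480.ExcRec

namespace K480.ExcRec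

open Groth.Agent Groth.Agent.Dix.Cast0 Groth.Agent.Dix.PointIdeal

/-- Morphisms out of the spectrum of a field to an affine scheme are determined on the projective line. -/
theorem toSpec_cancel (κ : Type u) [Field κ] {A : CommRingCat.{u}} (a b : Spec (CommRingCat.of κ) ⟶ Spec A)
    (h : CohB1.ProjSpace.toSpec 1 κ ≫ a = CohB1.ProjSpace.toSpec 1 κ ≫ b) : a = b := by
  have h1 : IsIso (CohB1.ProjSpace.toSpec 1 κ).appTop := Groth.Agent.S0024.result 1 κ
  apply ext_of_isAffine
  have h2 : (CohB1.ProjSpace.toSpec 1 κ ≫ a).appTop = (CohB1.ProjSpace.toSpec 1 κ ≫ b).appTop := by rw [h]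
  rw [Scheme.Hom.comp_appTop, Scheme.Hom.comp_appTop] at h2
  exact (cancel_mono _).1 h2

/-- The field of constants of a vertical curve which is a projective line over `κ`. -/
theorem length_const {R : Type u} [CommRing R] [IsDomain R] [IsDiscreteValuationRing R]
    {X : Over (Spec (CommRingCat.of R))} [IsProper X.hom] (E : ArSurf.VertComp R X) (κ : Type u) [Field κ]
    (e : CohB1.ProjSpace 1 κ ≅ E.curve.left) (ψ : R →+* κ)
    (he : e.hom ≫ E.ι ≫ X.hom = CohB1.ProjSpace.toSpec 1 κ ≫ Spec.map (CommRingCat.ofHom ψ)) :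
    letI : Algebra R κ := ψ.toAlgebra
    Module.length R κ = (Models.wdeg R X E : ℕ∞) := by
  let k := IsLocalRing.ResidueField R
  obtain ⟨σ, hσ⟩ := Dix.EtMinF.exists_factor 1 κ (e.hom ≫ (E.curve.left ↘ Spec (CommRingCat.of k)))
  obtain ⟨φ, rfl⟩ := Spec.map_surjective σ
  have h1 : Spec.map φ ≫ Spec.map (CommRingCat.ofHom (IsLocalRing.residue R)) = Spec.map (CommRingCat.ofHom ψ) := by
    apply toSpec_cancel κ
    rw [← Category.assoc, hσ, ← he, E.w, Category.assoc]
    rfl
  have h2 : ψ = φ.hom.comp (IsLocalRing.residue R) := by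
    rw [← Spec.map_comp] at h1
    have := Spec.map_injective h1
    exact (congrArg CommRingCat.Hom.hom this).symm
  subst h2
  let algKk : Algebra k κ := φ.hom.toAlgebra
  let algR : Algebra R κ := (φ.hom.comp (IsLocalRing.residue R)).toAlgebra
  let algRk : Algebra R k := (IsLocalRing.residue R).toAlgebra
  have htow : IsScalarTower R k κ := IsScalarTower.of_algebraMap_eq fun _ => rfl
  let i : (CohB1.ProjSpace 1 κ).Over (Spec (CommRingCat.of k)) :=
    ⟨e.hom ≫ (E.curve.left ↘ Spec (CommRingCat.of k))⟩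
  have hconst : ((CohB1.ProjSpace 1 κ) ↘ Spec (CommRingCat.of k)) =
      ((CohB1.ProjSpace 1 κ) ↘ Spec (CommRingCat.of κ)) ≫
        Spec.map (CommRingCat.ofHom (algebraMap k κ)) := hσ.symm
  have hover : e.hom ≫ (E.curve.left ↘ Spec (CommRingCat.of k)) =
      (CohB1.ProjSpace 1 κ) ↘ Spec (CommRingCat.of k) := rfl
  have hO : Module.finrank k (Coh.HH E.curve.left (Coh.structureModule E.curve.left) 0) =
      Module.finrank k κ * Module.finrank κ (Coh.HH (CohB1.ProjSpace 1 κ)
        (Coh.structureModule (CohB1.ProjSpace 1 κ)) 0) := by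
    rw [← finrank_HH_const k κ (CohB1.ProjSpace 1 κ) hconst,
      ← finrank_HH_iso k e.hom hover _ (Groth.Agent.S2329.isCoh_of_isInvertible
      Fdesc.LocGen.isInvertible_structureModule).1 0]
    exact (CurvesA.HHMap.equivOver k (CurvesA.HHMap.pullbackUnit e.hom) 0).finrank_eq
  have hone : Module.finrank κ (Coh.HH (CohB1.ProjSpace 1 κ)
        (Coh.structureModule (CohB1.ProjSpace 1 κ)) 0) = 1 := by
    have h1 : IsIso ((CohB1.ProjSpace 1 κ) ↘ Spec (CommRingCat.of κ)).appTop := Groth.Agent.S0024.result 1 κ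
    exact Dix.EtMinF.finrank_H0 κ (CohB1.ProjSpace 1 κ)
  rw [hone, mul_one] at hO
  have hw : Models.wdeg R X E = Module.finrank k κ := hO
  have hpos := Models.H45.WDeg.wdeg_pos E
  rw [hw] at hpos
  have hfin : Module.Finite k κ := Module.finite_of_finrank_pos hpos
  rw [hw]
  change Module.length R κ = _
  rw [Module.length_eq_of_surjective (S := R) (R := k) (M := κ) IsLocalRing.residue_surjective,
    Module.length_eq_finrank]

end K480.ExcRec

namespace K480.ExcRec

open Groth.Agent

variable {R : Type u} [CommRing R] [IsDomain R] [IsDiscreteValuationRing R] {X : Over (Spec (CommRingCat.of R))}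

/-- A vertical curve lies over the closed point. -/
theorem hom_ι (E : ArSurf.VertComp R X) (a : E.curve.left) : X.hom (E.ι a) = IsLocalRing.closedPoint R := by
  rw [← Scheme.Hom.comp_apply, E.w, Scheme.Hom.comp_apply]
  change (PrimeSpectrum.comap (IsLocalRing.residue R)) (E.curve.hom a) = _
  ext1
  change Ideal.comap (IsLocalRing.residue R) (E.curve.hom a).asIdeal = IsLocalRing.maximalIdeal R
  rw [(Ideal.eq_bot_of_prime (E.curve.hom a).asIdeal : (E.curve.hom a).asIdeal = ⊥)]
  exact IsLocalRing.ker_residue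

/-- A vertical curve has at least two points. -/
theorem exists_ne (E : ArSurf.VertComp R X) : ∃ a b : E.curve.left, a ≠ b := by
  by_contra hcon
  push Not at hcon
  have h2 : Subsingleton E.curve.left := ⟨hcon⟩
  have h3 := E.dim_eq
  rw [CurvesB.DimPts.krullDim_eq] at h3
  have h4 : Order.krullDim E.curve.left ≤ 0 := Order.krullDim_nonpos_of_subsingleton
  rw [h3] at h4
  exact absurd h4 (by decide)

end K480.ExcRec
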