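import Groth.Agent.ArSurf.K480.NegDef
import Groth.Agent.Dix.NormalSec
import Mathlib.RingTheory.IntegralClosure.GoingDown
import Mathlib.AlgebraicGeometry.Morphisms.SchemeTheoreticallyDominant

/-!
# Going down for finite surjective morphisms to a normal scheme, components of closed fibres (helper480)
-/

set_option autoImplicit false
universe u

open CategoryTheory CategoryTheory.Limits AlgebraicGeometry IsLocalRing TopologicalSpace

namespace K480.FinComp

/-- A finite surjective morphism from an integral scheme to a normal integral scheme is generalizing. -/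
theorem generalizingMap {X Y : Scheme.{u}} [IsIntegral X] [IsIntegral Y]
    (hnor : ∀ q : Y, IsIntegrallyClosed (Y.presheaf.stalk q)) (f : X ⟶ Y) [IsFinite f] [Surjective f] :
    GeneralizingMap f := by
  intro x w hw
  obtain ⟨V, hV, hyV, -⟩ := exists_isAffineOpen_mem_and_subset (X := Y) (x := f x) (U := ⊤) trivial
  have hwV : w ∈ V := hw.mem_open V.2 hyV
  have hU : IsAffineOpen (f ⁻¹ᵁ V) := hV.preimage f
  have hxU : x ∈ f ⁻¹ᵁ V := hyV
  have hneV : Nonempty V := ⟨⟨_, hyV⟩⟩
  have hneU : Nonempty (f ⁻¹ᵁ V) := ⟨⟨_, hxU⟩⟩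
  have hic : IsIntegrallyClosed Γ(Y, V) := Groth.Agent.Dix.NormalSec.isIntegrallyClosed V fun q _ => hnor q
  let φ := (f.app V).hom
  have hfin : φ.Finite := by
    have h1 : IsFinite f := inferInstance
    rw [isFinite_iff] at h1
    exact h1.2 V hV
  have hdom : IsDominant f := inferInstance
  have hinj : Function.Injective φ := by
    have : IsSchemeTheoreticallyDominant f := .of_isDominant f
    exact f.app_injective V
  let _ : Algebra Γ(Y, V) Γ(X, f ⁻¹ᵁ V) := φ.toAlgebra
  have h2 : Module.Finite Γ(Y, V) Γ(X, f ⁻¹ᵁ V) := hfin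
  have h3 : FaithfulSMul Γ(Y, V) Γ(X, f ⁻¹ᵁ V) := (faithfulSMul_iff_algebraMap_injective _ _).2 hinj
  have h4 : Algebra.HasGoingDown Γ(Y, V) Γ(X, f ⁻¹ᵁ V) := inferInstance
  have hcomm : hU.fromSpec ≫ f = Spec.map (f.app V) ≫ hV.fromSpec := by
    rw [← hV.SpecMap_appLE_fromSpec f hU le_rfl, Scheme.Hom.appLE_eq_app]
  obtain ⟨P, hP⟩ : x ∈ Set.range hU.fromSpec := by rw [hU.range_fromSpec]; exact hxU
  obtain ⟨Q, hQ⟩ : w ∈ Set.range hV.fromSpec := by rw [hV.range_fromSpec]; exact hwV
  have h5 : hV.fromSpec (Spec.map (f.app V) P) = f x := by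
    rw [← Scheme.Hom.comp_apply, ← hcomm, Scheme.Hom.comp_apply, hP]
  have h6 : Q ⤳ Spec.map (f.app V) P := by
    rw [← hQ, ← h5] at hw
    exact hV.fromSpec.isOpenEmbedding.isInducing.specializes_iff.1 hw
  have h7 := (Algebra.HasGoingDown.iff_generalizingMap_primeSpectrumComap (R := Γ(Y, V)) (S := Γ(X, f ⁻¹ᵁ V))).1 h4
  obtain ⟨P', hP', hP'Q⟩ := h7 (a := P) h6
  refine ⟨hU.fromSpec P', ?_, ?_⟩
  · rw [← hP]
    exact hP'.map hU.fromSpec.continuous
  · rw [← Scheme.Hom.comp_apply, hcomm, Scheme.Hom.comp_apply, ← hQ]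
    exact congrArg hV.fromSpec hP'Q

variable {R : Type u} [CommRing R] [IsDomain R] [IsDiscreteValuationRing R] {X Y : Over (Spec (CommRingCat.of R))}

open Groth.Agent.Models.H55.CompGeom Groth.Agent.Dix.FibreMin in
/-- The number of components of the closed fibre through a point does not decrease under finite surjective
morphisms to a normal surface. -/
theorem ncard_le [IsIntegral X.left] [IsIntegral Y.left]
    (hnor : ∀ q : Y.left, IsIntegrallyClosed (Y.left.presheaf.stalk q))
    (hfinX : (Models.fibreComponents R X).Finite)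
    (f : X ⟶ Y) [IsFinite f.left] [Surjective f.left] (y : Y.left) (x : X.left) (hx : f.left.base x = y) :
    {Z : Set Y.left | Z ∈ Models.fibreComponents R Y ∧ y ∈ Z}.ncard ≤
      {Z : Set X.left | Z ∈ Models.fibreComponents R X ∧ x ∈ Z}.ncard := by
  classical
  have hfib : ∀ z : X.left, X.hom z = Y.hom (f.left z) := fun z => by
    rw [← Scheme.Hom.comp_apply, Over.w]
  have hex : ∀ W : Set Y.left, ∃ Z : Set X.left, (W ∈ Models.fibreComponents R Y ∧ y ∈ W) →
      (Z ∈ Models.fibreComponents R X ∧ x ∈ Z) ∧ closure (f.left '' Z) = W := by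
    intro W
    by_cases hW : W ∈ Models.fibreComponents R Y ∧ y ∈ W
    · obtain ⟨hWc, hyW⟩ := hW
      obtain ⟨w, hw, hmin, rfl⟩ := (mem_fibreComponents_iff W).1 hWc
      have hwy : w ⤳ f.left x := by
        rw [specializes_iff_mem_closure]
        have hx' : f.left x = y := hx
        rw [hx']
        exact hyW
      obtain ⟨x', hx'x, hx'w⟩ := generalizingMap hnor f.left (a := x) hwy
      have hx's : X.hom x' = (closedPoint R : PrimeSpectrum R) := by
        rw [hfib, hx'w, hw]
      obtain ⟨Z, hZ, hZx'⟩ := Groth.Agent.Models.H71.Comps.exists_maximal (Models.specialFibreSet R X) {x'}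
        isIrreducible_singleton (Set.singleton_subset_iff.2 hx's)
      have hZc : Z ∈ Models.fibreComponents R X := hZ
      obtain ⟨ξ, hξ, hξmin, rfl⟩ := (mem_fibreComponents_iff Z).1 hZc
      have hξx' : ξ ⤳ x' := specializes_iff_mem_closure.2 (hZx' rfl)
      have hfξ : f.left ξ = w := by
        refine hmin _ ?_ ?_
        · rw [← hx'w]
          exact hξx'.map f.left.continuous
        · rw [← hfib, hξ, hw]
      refine ⟨closure {ξ}, fun _ => ⟨⟨hZc, specializes_iff_mem_closure.1 (hξx'.trans hx'x)⟩, ?_⟩⟩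
      apply subset_antisymm
      · refine closure_minimal ?_ isClosed_closure
        rintro _ ⟨z, hz, rfl⟩
        rw [← hfξ, ← specializes_iff_mem_closure]
        exact (specializes_iff_mem_closure.2 hz).map f.left.continuous
      · refine closure_minimal ?_ isClosed_closure
        rintro _ rfl
        exact subset_closure ⟨ξ, subset_closure rfl, hfξ⟩
    · exact ⟨∅, fun h => absurd h hW⟩
  choose g hg using hex
  refine Set.ncard_le_ncard_of_injOn g (fun W hW => (hg W hW).1) ?_ (hfinX.subset fun Z hZ => hZ.1)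
  intro W hW W' hW' h
  rw [← (hg W hW).2, ← (hg W' hW').2, h]

end K480.FinComp
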