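import Groth.Agent.ArSurf.K480.SurfDim
import Groth.Agent.Divis.CartierBasic
import Groth.Agent.Divis.EffCartier
import Mathlib.AlgebraicGeometry.ZariskisMainTheorem

/-!
# A horizontal effective Cartier divisor on a fibered surface over a Dedekind domain is finite over the base (helper480)
-/

set_option autoImplicit false
universe u

open CategoryTheory CategoryTheory.Limits AlgebraicGeometry IsLocalRing TopologicalSpace

namespace K480.FinHor

open Groth.Agent.Dix Groth.Agent.Dix.GenFibre

/-- In a Noetherian sober space, a closed set all of whose points are closed is finite. -/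
theorem finite_of_closed_points {T : Type*} [TopologicalSpace T] [NoetherianSpace T] [QuasiSober T]
    {s : Set T} (hs : IsClosed s) (hpt : ∀ y ∈ s, IsClosed ({y} : Set T)) : s.Finite := by
  obtain ⟨S, hS, hS1, hS2, hS3⟩ := NoetherianSpace.exists_finite_set_isClosed_irreducible hs
  rw [hS3]
  refine hS.sUnion fun t ht => ?_
  have h1 : t ⊆ s := by
    rw [hS3]; exact Set.subset_sUnion_of_mem ht
  obtain ⟨g, hg⟩ : ∃ g, IsGenericPoint g t := ⟨_, (hS2 t ht).isGenericPoint_genericPoint (hS1 t ht)⟩
  have h2 : closure {g} = t := hg.def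
  have h3 : g ∈ t := by
    rw [← h2]; exact subset_closure rfl
  rw [(hpt _ (h1 h3)).closure_eq] at h2
  rw [← h2]
  exact Set.finite_singleton _

/-- In a Noetherian sober space, there are only finitely many points without proper generizations. -/
theorem finite_minimal {T : Type*} [TopologicalSpace T] [NoetherianSpace T] [QuasiSober T] [T0Space T]
    (s : Set T) (h : ∀ q ∈ s, ∀ q', q' ⤳ q → q' = q) : s.Finite := by
  have hf : (irreducibleComponents T).Finite := NoetherianSpace.finite_irreducibleComponents
  refine Set.Finite.of_finite_image (f := fun q => closure {q}) (hf.subset ?_) ?_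
  · rintro _ ⟨q, hq, rfl⟩
    refine ⟨isIrreducible_singleton.closure, fun t ht hle => ?_⟩
    obtain ⟨g, hg⟩ : ∃ g, IsGenericPoint g (closure t) := ⟨_, ht.isGenericPoint_genericPoint_closure⟩
    have h1 : g ⤳ q := by
      rw [specializes_iff_mem_closure, hg.def]
      exact subset_closure (hle (subset_closure rfl))
    have h2 := h q hq _ h1
    have h3 := hg.def
    rw [h2] at h3
    exact subset_closure.trans h3.ge
  · intro a _ b _ hab
    have hab' : closure {a} = closure {b} := hab
    have e1 : a ⤳ b := specializes_iff_closure_subset.2 hab'.ge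
    have e2 : b ⤳ a := specializes_iff_closure_subset.2 hab'.le
    exact (e1.antisymm e2).eq

theorem dim_add_one_le {X : Scheme.{u}} {ζ y : X} (h : ζ ⤳ y) (hne : ζ ≠ y) :
    ringKrullDim (X.presheaf.stalk ζ) + 1 ≤ ringKrullDim (X.presheaf.stalk y) := by
  rw [AlgebraicGeometry.ringKrullDim_stalk_eq_coheight (X := X) ζ,
    AlgebraicGeometry.ringKrullDim_stalk_eq_coheight (X := X) y]
  have h5 : y ≤ ζ := by
    rw [Scheme.le_iff_specializes]; exact h
  have h6 : y < ζ := lt_of_le_not_ge h5 (fun h' => hne (by
    rw [Scheme.le_iff_specializes] at h'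
    exact (h.antisymm h').eq))
  exact_mod_cast Order.coheight_add_one_le h6

theorem isClosed_of_dim_eq_two {X : Scheme.{u}} (hdim : topologicalKrullDim X ≤ 2) {y : X}
    (hy : 2 ≤ ringKrullDim (X.presheaf.stalk y)) : IsClosed ({y} : Set X) := by
  rw [← closure_subset_iff_isClosed]
  intro z hz
  by_contra hne
  have h1 := dim_add_one_le (specializes_iff_mem_closure.2 hz) (fun h => hne h.symm)
  have h2 := SurfDim.stalk_le hdim z
  have h3 : (2 : WithBot ℕ∞) + 1 ≤ 2 := (add_le_add_left hy 1).trans (h1.trans h2)
  exact absurd h3 (by decide)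

/-- A proper surjective scheme over a Dedekind domain which is not a field has a closed point over a closed point. -/
theorem exists_closed_point {R : Type u} [CommRing R] [IsDedekindDomain R] (hR : ¬ IsField R)
    (X : Over (Spec (CommRingCat.of R))) [IsIntegral X.left] [Flat X.hom] [IsProper X.hom] :
    ∃ x : X.left, IsClosed ({x} : Set X.left) ∧ (X.hom x).asIdeal ≠ ⊥ := by
  obtain ⟨m, hm⟩ := Ideal.exists_maximal R
  have hm0 : m ≠ ⊥ := Ring.ne_bot_of_isMaximal_of_not_isField hm hR
  let s : Spec (CommRingCat.of R) := ⟨m, hm.isPrime⟩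
  have hs : IsClosed ({s} : Set (Spec (CommRingCat.of R))) :=
    (PrimeSpectrum.isClosed_singleton_iff_isMaximal _).2 hm
  have hcomp : CompactSpace X.left := QuasiCompact.compactSpace_of_compactSpace X.hom
  -- the image of `X` is closed and contains the generic point
  have hsurj : s ∈ Set.range X.hom := by
    have h1 : IsClosed (Set.range X.hom) := X.hom.isClosedMap.isClosed_range
    have h2 : genericPoint (Spec (CommRingCat.of R)) ∈ Set.range X.hom := by
      refine ⟨genericPoint X.left, ?_⟩
      apply PrimeSpectrum.ext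
      rw [asIdeal_hom_genericPoint, RegSurfConn979.asIdeal_genericPoint]
    exact (genericPoint_specializes s).mem_closed h1 h2
  obtain ⟨z, hz⟩ := hsurj
  obtain ⟨x, hx, hxc⟩ := (hs.preimage X.hom.continuous).exists_closed_singleton ⟨z, hz⟩
  refine ⟨x, hxc, ?_⟩
  have h3 : X.hom x = s := hx
  rw [h3]
  exact hm0

theorem one_le_dim {X : Scheme.{u}} [IsIntegral X] {y : X} (hy : y ≠ genericPoint X) :
    1 ≤ ringKrullDim (X.presheaf.stalk y) := by
  have h1 := dim_add_one_le (genericPoint_specializes y) (Ne.symm hy)
  have h2 : ringKrullDim (X.presheaf.stalk (genericPoint X)) = 0 :=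
    ringKrullDim_eq_zero_of_field X.functionField
  rw [h2, zero_add] at h1
  exact h1

section

variable {R : Type u} [CommRing R] [IsDedekindDomain R] (hR : ¬ IsField R)
  (X : Over (Spec (CommRingCat.of R))) [IsIntegral X.left]
  (hdim : topologicalKrullDim X.left = 2) [Flat X.hom] [IsProper X.hom]
  (D : Scheme.{u}) (d : D ⟶ X.left) [IsClosedImmersion d]

include hR hdim in
/-- A horizontal closed subscheme, not containing the generic point, of a fibered surface is finite over the base. -/
theorem isFinite_of_horizontal (hgen : ∀ p : D, d p ≠ genericPoint X.left)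
    (hhor : ∀ p : D, ∃ q : D, q ⤳ p ∧ ((d ≫ X.hom).base q).asIdeal = ⊥) : IsFinite (d ≫ X.hom) := by
  have hN : IsLocallyNoetherian X.left := LocallyOfFiniteType.isLocallyNoetherian X.hom
  have hcomp : CompactSpace X.left := QuasiCompact.compactSpace_of_compactSpace X.hom
  have hNs : IsNoetherian X.left := { }
  have hND : IsLocallyNoetherian D := LocallyOfFiniteType.isLocallyNoetherian d
  have hcompD : CompactSpace D := QuasiCompact.compactSpace_of_compactSpace d
  have hNsD : IsNoetherian D := { }
  obtain ⟨x, hx, hx0⟩ := exists_closed_point hR X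
  rw [IsFinite.iff_isProper_and_locallyQuasiFinite]
  refine ⟨inferInstance, LocallyQuasiFinite.of_finite_preimage_singleton _ fun s => ?_⟩
  by_cases hs : s.asIdeal = ⊥
  · refine finite_minimal _ ?_
    intro q hq q' hqq'
    by_contra hne
    have h1 := dim_add_one_le (hqq'.map d.continuous) (fun h => hne (d.isClosedEmbedding.injective h))
    have h2 := one_le_dim (hgen q')
    have h3 : (X.hom (d q)).asIdeal = ⊥ := by
      have : (d ≫ X.hom) q = s := hq
      rw [Scheme.Hom.comp_apply] at this
      rw [this]; exact hs
    have h4 := SurfDim.ringKrullDim_stalk_le_one_of_generic hdim x hx hx0 (d q) h3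
    have h5 : (1 : WithBot ℕ∞) + 1 ≤ 1 := (add_le_add_left h2 1).trans (h1.trans h4)
    exact absurd h5 (by decide)
  · have hsc : IsClosed ({s} : Set (Spec (CommRingCat.of R))) :=
      (PrimeSpectrum.isClosed_singleton_iff_isMaximal _).2 (s.isPrime.isMaximal hs)
    refine finite_of_closed_points (hsc.preimage (d ≫ X.hom).continuous) ?_
    intro p hp
    obtain ⟨q, hqp, hq⟩ := hhor p
    have hne : q ≠ p := by
      rintro rfl
      have : (d ≫ X.hom) q = s := hp
      apply hs
      rw [← this]
      exact hq
    have h1 := dim_add_one_le (hqp.map d.continuous) (fun h => hne (d.isClosedEmbedding.injective h))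
    have h2 := one_le_dim (hgen q)
    have h3 : (2 : WithBot ℕ∞) ≤ ringKrullDim (X.left.presheaf.stalk (d p)) := by
      refine le_trans ?_ h1
      calc (2 : WithBot ℕ∞) = 1 + 1 := by norm_num [one_add_one_eq_two]
        _ ≤ _ := add_le_add_left h2 1
    have h4 := isClosed_of_dim_eq_two hdim.le h3
    have h5 : ({p} : Set D) = d ⁻¹' {d p} := by
      ext z
      simp only [Set.mem_singleton_iff, Set.mem_preimage]
      exact ⟨fun h => by rw [h], fun h => d.isClosedEmbedding.injective h⟩
    rw [h5]
    exact h4.preimage d.continuous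

omit [IsDedekindDomain R] [Flat X.hom] [IsProper X.hom] in
/-- An effective Cartier divisor does not contain the generic point. -/
theorem ne_genericPoint [IsLocallyNoetherian X.left] (hD : BlowUp.IsEffCartierIdeal d.ker) (p : D) :
    d p ≠ genericPoint X.left := by
  intro h
  obtain ⟨g, hg, hst⟩ := Groth.Agent.Divis.CartierBasic.exists_stalkIdeal_eq_span hD (d p)
  have h1 : d p ∈ d.ker.support := by
    have h4 : ((d.ker.support : Closeds X.left) : Set X.left) = Set.range d := by
      rw [Scheme.Hom.support_ker]
      exact d.isClosedEmbedding.isClosed_range.closure_eq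
    have h5 : d p ∈ ((d.ker.support : Closeds X.left) : Set X.left) := by
      rw [h4]; exact ⟨p, rfl⟩
    exact h5
  rw [Groth.Agent.Divis.CartierBasic.mem_support_iff_stalkIdeal_le, hst] at h1
  have hg0 : g ≠ 0 := nonZeroDivisors.ne_zero hg
  have hgm : g ∈ maximalIdeal (X.left.presheaf.stalk (d p)) := by
    rwa [Ideal.span_singleton_le_iff_mem] at h1
  revert g
  rw [h]
  intro g _ _ _ hg0 hgm
  have h6 : IsField (X.left.presheaf.stalk (genericPoint X.left)) := Field.toIsField X.left.functionField
  have h7 : IsUnit g := by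
    obtain ⟨b, hb⟩ := h6.mul_inv_cancel hg0
    exact IsUnit.of_mul_eq_one b hb
  exact (IsLocalRing.mem_maximalIdeal g).1 hgm h7

end

end K480.FinHor
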