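import Groth.Agent.ArSurf.K479.ArtinNum

/-!
# Existence of the fundamental cycle (helper480)
-/

set_option autoImplicit false

namespace K480.FundCyc

open Finset

theorem exists_fundamental {r : ℕ} (B : Fin r → Fin r → ℤ)
    (hneg : ∀ a : Fin r → ℤ, a ≠ 0 →
      (Finset.univ : Finset (Fin r × Fin r)).sum (fun p => a p.1 * a p.2 * B p.1 p.2) < 0)
    (hoff : ∀ i j, i ≠ j → 0 ≤ B i j) :
    ∃ z : Fin r → ℕ, (∀ i, 1 ≤ z i) ∧ (∀ i, ∑ j, (z j : ℤ) * B i j ≤ 0) ∧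
      ∀ z' : Fin r → ℕ, (∀ i, 1 ≤ z' i) → (∀ i, ∑ j, (z' j : ℤ) * B i j ≤ 0) → ∀ i, z i ≤ z' i := by
  classical
  let S : Set (Fin r → ℕ) := {z' | (∀ i, 1 ≤ z' i) ∧ ∀ i, ∑ j, (z' j : ℤ) * B i j ≤ 0}
  have hS : S.Nonempty := by
    obtain ⟨n, a, hn, ha, h⟩ := K479.ArtinNum.exists_pos_solution B hneg hoff (fun _ => 1) (fun _ => one_pos)
    refine ⟨a, fun i => ha i, fun i => ?_⟩
    have h1 := h i
    have h2 : (0 : ℤ) < n := by exact_mod_cast hn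
    linarith
  let z : Fin r → ℕ := fun i => sInf ((fun z' : Fin r → ℕ => z' i) '' S)
  have hmem : ∀ i, ∃ z' ∈ S, z' i = z i := fun i => Nat.sInf_mem (hS.image _)
  have hle : ∀ z' ∈ S, ∀ i, z i ≤ z' i := fun z' hz' i => Nat.sInf_le ⟨z', hz', rfl⟩
  refine ⟨z, fun i => ?_, fun i => ?_, fun z' h1 h2 i => hle z' ⟨h1, h2⟩ i⟩
  · obtain ⟨z', hz', h⟩ := hmem i
    rw [← h]
    exact hz'.1 i
  · obtain ⟨z', hz', h⟩ := hmem i
    refine (Finset.sum_le_sum fun j _ => ?_).trans (hz'.2 i)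
    by_cases hj : i = j
    · subst hj
      rw [h]
    · exact mul_le_mul_of_nonneg_right (by exact_mod_cast hle z' hz' j) (hoff i j hj)

end K480.FundCyc
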