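import Groth.Agent.Dix.Cast1
import Groth.Agent.Dix.Cast5
import Groth.Agent.Dix.IdealModCartier
import Groth.Agent.Grpsch.PicGrp
import Groth.Agent.Models.H65.PicDeg
import Groth.Agent.VarietyB.GlobGen
import Groth.Agent.VarietyB.GenLocusTensor
import Groth.Agent.CohqB.QAffGen
import Groth.Agent.S0007

/-!
# `O(D)` is globally generated if `H¹(O) = 0` and `D` is affine (helper480)
-/

set_option autoImplicit false
set_option backward.isDefEq.respectTransparency false
universe u

open CategoryTheory CategoryTheory.Limits AlgebraicGeometry Opposite TopologicalSpace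

namespace K480.GGDiv

open Groth.Agent Groth.Agent.Fdesc.LocGen Groth.Agent.Fdesc Groth.Agent.Grpsch.PicGrp
open Groth.Agent.Dix.Cast1

/-- If `H¹(X, O) = 0` and `D` is an affine effective Cartier divisor then `O(D)` is globally generated with
vanishing `H¹`. -/
theorem of_divisor {X D : Scheme.{u}} (d : D ⟶ X) [IsClosedImmersion d] [IsAffine D]
    (hD : BlowUp.IsEffCartierIdeal d.ker) (L : X.Modules) (hL : ClSub.IsInverseOf L (ClSub.idealMod d.ker))
    (h : Subsingleton (Coh.HH X (Coh.structureModule X) 1)) :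
    Subsingleton (Coh.HH X L 1) ∧ Curv2.IsGloballyGenerated L := by
  obtain ⟨hLi, hI⟩ := Dix.IdealModCartier.isInvertible_of_isInverseOf hL
  obtain ⟨e⟩ : Nonempty (Coh.structureModule X ≅ CohB1.tensorMod (ClSub.idealMod d.ker) L) := by
    have h1 := Models.H65.PicDeg.mk_of_isInverseOf hLi hI hL
    rw [← mk_eq_iff isInvertible_structureModule (isInvertible_tensorMod hI hLi),
      ← mk_mul_mk hI hLi, h1, ← one_def, mul_inv_cancel]
  have h' : Subsingleton (Coh.HH X (CohB1.tensorMod (ClSub.idealMod d.ker) L) 1) :=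
    Flat2F.HHSeq.subsingleton_HH_of_iso e 1 h
  have hLd := isInvertible_pullback d hLi
  have hDv : Subsingleton (Coh.HH D ((Scheme.Modules.pullback d).obj L) 1) := by
    have hq : Coh.IsQCoh ((Scheme.Modules.pullback d).obj L) := Ega2.QCohLocal.isQCoh_of_isInvertible hLd
    exact S0007.result D _ 1 one_pos
  refine ⟨wp1_H1 d L hLi h' hDv, ?_⟩
  obtain ⟨s₀, hs₀⟩ := Dix.Cast5.exists_section d hD
  have hdi := isInvertible_dual hI
  obtain ⟨ed⟩ : Nonempty (dual (ClSub.idealMod d.ker) ≅ L) := by
    rw [← mk_eq_iff hdi hLi, Models.H65.PicDeg.mk_of_isInverseOf hLi hI hL, inv_mk]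
  have hcase : ∀ x : X, ∃ s : Coh.structureModule X ⟶ L, x ∈ CohB1.genLocus _ s := by
    intro x
    by_cases hx : x ∈ Set.range d
    · obtain ⟨p, rfl⟩ := hx
      have hgg : Curv2.IsGloballyGenerated ((Scheme.Modules.pullback d).obj L) :=
        CohqB.QAffGen.isGloballyGenerated_of_isQuasiAffine (Ega2.QCohLocal.isQCoh_of_isInvertible hLd)
      obtain ⟨σ, hσ⟩ := VarietyB.GenLocusTensor.exists_mem_genLocus hLd hgg p
      obtain ⟨t, ht⟩ := wp1_lift d L hLi h' (sec σ ⊤)
      refine ⟨homOf t, ?_⟩
      have h1 := Ega2.Weight.genLocus_pullHom d hLi (homOf t)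
      have h2 : Ega2.Weight.pullHom d (homOf t) = σ := by
        have h5 : Ega2.Weight.pullHom d (homOf t) = homOf (pullTop d t) := by
          unfold Ega2.Weight.pullHom
          rw [sec_homOf, res_refl]
          rfl
        rw [h5, ht, homOf_sec]
      rw [h2] at h1
      exact h1.le hσ
    · refine ⟨s₀ ≫ ed.hom, ?_⟩
      rw [Ega2.Weight.genLocus_comp]
      have : x ∈ (CohB1.genLocus _ s₀ : Set X) := by rw [hs₀]; exact hx
      exact this
  choose s hs using hcase
  exact VarietyB.GlobGen.isGloballyGenerated_of_cover (κ := X) s (fun x => ⟨x, hs x⟩)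

end K480.GGDiv
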