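import Groth.Agent.ArSurf.K480.FinHor
import Groth.Agent.Models.H54.HorCartier
import Groth.Agent.S0427
import Groth.Agent.FlatA.Stein
import Groth.Agent.FlatA.SteinNoeth
import Groth.Agent.Ega4late.H532.Spread
import Groth.Agent.CycA.ClosurePt

/-!
# Horizontal Cartier divisors over a Henselian discrete valuation ring (helper480)
-/

set_option autoImplicit false
universe u

open CategoryTheory CategoryTheory.Limits AlgebraicGeometry IsLocalRing TopologicalSpace

namespace K480.HenselHor

open Groth.Agent.CycB.LocQuot Groth.Agent.Models.H54 K480.FinHor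

/-- The closed fibre of an integral proper scheme over a Henselian local ring is connected. -/
theorem isPreconnected_fibre (R : Type u) [CommRing R] [HenselianLocalRing R] [IsNoetherianRing R] {C : Scheme.{u}}
    [IsIntegral C] (g : C ⟶ Spec (CommRingCat.of R)) [IsProper g] :
    _root_.IsPreconnected (g ⁻¹' {(closedPoint R : PrimeSpectrum R)}) := by
  let φ : R →+* Γ(C, ⊤) := ((Scheme.ΓSpecIso (CommRingCat.of R)).inv ≫ g.appTop).hom
  let alg : Algebra R Γ(C, ⊤) := φ.toAlgebra
  have hfin : Module.Finite R Γ(C, ⊤) := Groth.Agent.FlatA.SteinNoeth.finite_toGlobal R C g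
  have hint : Algebra.IsIntegral R Γ(C, ⊤) := inferInstance
  have hloc : IsLocalRing Γ(C, ⊤) := Groth.Agent.S0427.isLocalRing_of_finite R _
  have hfac : C.toSpecΓ ≫ Spec.map (CommRingCat.ofHom (algebraMap R Γ(C, ⊤))) = g := by
    change C.toSpecΓ ≫ Spec.map ((Scheme.ΓSpecIso (CommRingCat.of R)).inv ≫ g.appTop) = g
    rw [Spec.map_comp, ← Scheme.toSpecΓ_naturality_assoc]
    simp
  have hp : IsProper C.toSpecΓ := by
    have : IsProper (C.toSpecΓ ≫ Spec.map (CommRingCat.ofHom (algebraMap R Γ(C, ⊤)))) := by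
      rw [hfac]; infer_instance
    exact IsProper.of_comp C.toSpecΓ (Spec.map (CommRingCat.ofHom (algebraMap R Γ(C, ⊤))))
  have hiso : IsIso C.toSpecΓ.appTop := by
    rw [Scheme.toSpecΓ_appTop]; infer_instance
  have hgc : GeometricallyConnected C.toSpecΓ :=
    Groth.Agent.FlatA.Stein.geometricallyConnected_of_isIso_appTop C.toSpecΓ
  have hc := (Scheme.Hom.isConnected_preimage_singleton C.toSpecΓ
    (closedPoint Γ(C, ⊤) : PrimeSpectrum Γ(C, ⊤))).isPreconnected
  have heq : g ⁻¹' {(closedPoint R : PrimeSpectrum R)} =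
      C.toSpecΓ ⁻¹' {(closedPoint Γ(C, ⊤) : PrimeSpectrum Γ(C, ⊤))} := by
    ext z
    have h1 : g z = Spec.map (CommRingCat.ofHom (algebraMap R Γ(C, ⊤))) (C.toSpecΓ z) := by
      rw [← Scheme.Hom.comp_apply, hfac]
    simp only [Set.mem_preimage, Set.mem_singleton_iff]
    rw [h1]
    constructor
    · intro h
      have h2 : ((C.toSpecΓ z : PrimeSpectrum Γ(C, ⊤)).asIdeal.comap (algebraMap R Γ(C, ⊤))).IsMaximal := by
        have h3 := congrArg PrimeSpectrum.asIdeal h
        have h4 : (C.toSpecΓ z : PrimeSpectrum Γ(C, ⊤)).asIdeal.comap (algebraMap R Γ(C, ⊤)) = maximalIdeal R := h3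
        rw [h4]
        infer_instance
      have h3 := Ideal.isMaximal_of_isIntegral_of_isMaximal_comap _ h2
      apply PrimeSpectrum.ext
      exact IsLocalRing.eq_maximalIdeal h3
    · intro h
      rw [h]
      apply PrimeSpectrum.ext
      change (maximalIdeal Γ(C, ⊤)).comap (algebraMap R Γ(C, ⊤)) = maximalIdeal R
      exact IsLocalRing.eq_maximalIdeal (Ideal.isMaximal_comap_of_isIntegral_of_isMaximal _)
  rw [heq]
  exact hc

/-- In a Noetherian sober space, a closed preconnected set all of whose points are closed is a subsingleton. -/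
theorem subsingleton_of_isPreconnected {T : Type*} [TopologicalSpace T] [NoetherianSpace T] [QuasiSober T]
    {s : Set T} (hs : IsClosed s) (hpt : ∀ y ∈ s, IsClosed ({y} : Set T)) (hc : _root_.IsPreconnected s) :
    s.Subsingleton := by
  have hfin : s.Finite := FinHor.finite_of_closed_points hs hpt
  intro x hx y hy
  by_contra hne
  have h1 : IsClosed (s \ {x}) := by
    have h2 : s \ {x} = ⋃ z ∈ s \ {x}, {z} := by
      ext z; simp
    rw [h2]
    exact (hfin.subset Set.diff_subset).isClosed_biUnion fun z hz => hpt z hz.1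
  have h2 := (isPreconnected_closed_iff.1 hc) {x} (s \ {x}) (hpt x hx) h1 (by
    intro z hz
    by_cases h : z = x
    · exact Or.inl h
    · exact Or.inr ⟨hz, h⟩) ⟨x, hx, rfl⟩ ⟨y, hy, hy, fun h => hne h.symm⟩
  obtain ⟨z, -, hz, hz'⟩ := h2
  exact hz'.2 hz

section main

variable (R : Type u) [CommRing R] [IsDomain R] [IsDiscreteValuationRing R] [HenselianLocalRing R]
  (X : Over (Spec (CommRingCat.of R))) [IsIntegral X.left] [Flat X.hom] [IsProper X.hom]

theorem asIdeal_eq_bot_of_ne (s : PrimeSpectrum R) (hs : s ≠ closedPoint R) : s.asIdeal = ⊥ := by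
  by_contra h
  have h1 : s.asIdeal.IsMaximal := s.isPrime.isMaximal h
  exact hs (PrimeSpectrum.ext (IsLocalRing.eq_maximalIdeal h1))

/-- Over a Henselian discrete valuation ring, the closure of a codimension one point of the generic fibre of a fibered
surface meets the closed fibre in exactly one point. -/
theorem closure_eq (hdim : topologicalKrullDim X.left = 2) {x ζ : X.left} (hx : IsClosed ({x} : Set X.left))
    (hxs : X.hom x = (closedPoint R : PrimeSpectrum R)) (h : ζ ⤳ x)
    (h1 : ringKrullDim (X.left.presheaf.stalk ζ) = 1) (hζ : X.hom ζ ≠ (closedPoint R : PrimeSpectrum R)) :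
    closure {ζ} = ({ζ, x} : Set X.left) := by
  have hN : IsLocallyNoetherian X.left := LocallyOfFiniteType.isLocallyNoetherian X.hom
  have hcomp : CompactSpace X.left := QuasiCompact.compactSpace_of_compactSpace X.hom
  have hNs : IsNoetherian X.left := { }
  have hx0 : (X.hom x).asIdeal ≠ ⊥ := by
    rw [hxs]
    exact IsDiscreteValuationRing.not_a_field R
  obtain ⟨C, i, hi, hC, hgen, hrange⟩ := Groth.Agent.CycA.ClosurePt.exists_closure_subscheme ζ
  have hpre := isPreconnected_fibre R (i ≫ X.hom)
  have himg : i '' ((i ≫ X.hom) ⁻¹' {(closedPoint R : PrimeSpectrum R)}) =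
      closure {ζ} ∩ X.hom ⁻¹' {(closedPoint R : PrimeSpectrum R)} := by
    rw [← hrange]
    ext y
    constructor
    · rintro ⟨z, hz, rfl⟩
      exact ⟨⟨z, rfl⟩, hz⟩
    · rintro ⟨⟨z, rfl⟩, hz⟩
      exact ⟨z, hz, rfl⟩
  have hpre' : _root_.IsPreconnected (closure {ζ} ∩ X.hom ⁻¹' {(closedPoint R : PrimeSpectrum R)}) := by
    rw [← himg]
    exact hpre.image _ i.continuous.continuousOn
  have hcl : IsClosed (closure {ζ} ∩ X.hom ⁻¹' {(closedPoint R : PrimeSpectrum R)}) :=
    isClosed_closure.inter ((IsLocalRing.isClosed_singleton_closedPoint R).preimage X.hom.continuous)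
  have hsub := subsingleton_of_isPreconnected hcl (by
    rintro y ⟨hy1, hy2⟩
    refine isClosed_of_dim_eq_two hdim.le ?_
    have h2 := dim_add_one_le (specializes_iff_mem_closure.2 hy1) (fun h => hζ (by rw [h]; exact hy2))
    rw [h1] at h2
    exact le_trans (by norm_num [one_add_one_eq_two]) h2) hpre'
  apply subset_antisymm
  · intro y hy
    by_cases hys : X.hom y = (closedPoint R : PrimeSpectrum R)
    · right
      exact hsub ⟨hy, hys⟩ ⟨specializes_iff_mem_closure.1 h, hxs⟩
    · left
      by_contra hne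
      have h2 := dim_add_one_le (specializes_iff_mem_closure.2 hy) (fun h => hne h.symm)
      have h3 := SurfDim.ringKrullDim_stalk_le_one_of_generic hdim x hx hx0 y (asIdeal_eq_bot_of_ne R _ hys)
      rw [h1] at h2
      have h4 : (1 : WithBot ℕ∞) + 1 ≤ 1 := h2.trans h3
      exact absurd h4 (by decide)
  · rintro y (rfl | rfl)
    · exact subset_closure rfl
    · exact specializes_iff_mem_closure.1 h

end main

end K480.HenselHor
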