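import Groth.Agent.Models.H65.InterForm
import Groth.Agent.Models.H47.EulerVert
import Groth.Agent.CurvesC.CurveNum

/-!
# The intersection length as the length of the cohomology of a quotient of the structure sheaf

For `X : Over (Spec R)` proper over the discrete valuation ring `R`, a vertical curve `Γ` and a closed
subscheme `D` : `length_R H^0(X, O_X/(I_D + I_Γ)) = hz Γ D`.
-/

set_option autoImplicit false
universe u

open CategoryTheory CategoryTheory.Limits AlgebraicGeometry Opposite TopologicalSpace

namespace K480.InterLen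

open Groth.Agent Groth.Agent.Dix.InterNum Groth.Agent.Dix.InterSurf

variable {R : Type u} [CommRing R] [IsDomain R] [IsDiscreteValuationRing R]
variable {X : Over (Spec (CommRingCat.of R))} [IsProper X.hom]

theorem length_quotMod_sup (Γ : ArSurf.VertComp R X) (D : X.left.IdealSheafData) :
    Module.length R (Coh.HH X.left (ClSub.quotMod (D ⊔ Γ.ι.ker)) 0) = (hz Γ D : ℕ∞) := by
  let J : X.left.IdealSheafData := D ⊔ Γ.ι.ker
  have hker : J.subschemeι.ker = ((D.comap Γ.ι).subschemeι ≫ Γ.ι).ker := by
    rw [Scheme.IdealSheafData.ker_subschemeι]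
    change J = (D.comap Γ.ι).map Γ.ι
    rw [map_comap_of_closed, sup_comm]
  obtain ⟨e, he⟩ := exists_iso_of_ker_eq J.subschemeι ((D.comap Γ.ι).subschemeι ≫ Γ.ι) hker
  let q : J.subscheme ⟶ Spec (CommRingCat.of (IsLocalRing.ResidueField R)) :=
    e.hom ≫ (D.comap Γ.ι).subschemeι ≫ Γ.curve.hom
  have hq : q ≫ Spec.map (CommRingCat.ofHom (IsLocalRing.residue R)) = J.subschemeι ≫ X.hom := by
    rw [← he]
    simp only [q, Category.assoc]
    rw [← Γ.w]
  let _ : J.subscheme.Over (Spec (CommRingCat.of R)) := ⟨J.subschemeι ≫ X.hom⟩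
  let _ : J.subscheme.Over (Spec (CommRingCat.of (IsLocalRing.ResidueField R))) := ⟨q⟩
  have hpr : IsProper (J.subscheme ↘ Spec (CommRingCat.of (IsLocalRing.ResidueField R))) := by
    have h1 : IsProper (q ≫ Spec.map (CommRingCat.ofHom (IsLocalRing.residue R))) := by
      rw [hq]
      infer_instance
    have h2 : IsClosedImmersion (Spec.map (CommRingCat.ofHom (IsLocalRing.residue R))) :=
      IsClosedImmersion.spec_of_surjective _ IsLocalRing.residue_surjective
    exact IsProper.of_comp q (Spec.map (CommRingCat.ofHom (IsLocalRing.residue R)))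
  have h1 := (CurvesC.CurveNum.hhPushₗ R J.subschemeι rfl (Coh.structureModule J.subscheme) 0).length_eq
  have h2 := Models.H47.EulerVert.length_over (IsLocalRing.residue R) IsLocalRing.residue_surjective
    (Z := J.subscheme) hq.symm (Coh.structureModule J.subscheme) 0
  have h3 : Module.Finite (IsLocalRing.ResidueField R) (Coh.HH J.subscheme (Coh.structureModule J.subscheme) 0) :=
    Groth.Agent.S0002.result _ J.subscheme _ (CurvesC.UnitCoh.isCoh_unit J.subscheme) 0
  have h4 : Module.length (IsLocalRing.ResidueField R) (Coh.HH J.subscheme (Coh.structureModule J.subscheme) 0) =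
      Module.finrank (IsLocalRing.ResidueField R) (Coh.HH J.subscheme (Coh.structureModule J.subscheme) 0) :=
    Module.length_eq_finrank _ _
  have h5 : Module.finrank (IsLocalRing.ResidueField R)
      (Coh.HH J.subscheme (Coh.structureModule J.subscheme) 0) = h0 q := by
    exact @LinearEquiv.finrank_eq _ _ _ _ _ _ _ (CurvesC.CurveNum.topMod _ _)
      (CurvesC.CurveNum.hZeroTop (IsLocalRing.ResidueField R) J.subscheme)
  have h6 : h0 q = hz Γ D := h0_congr _ _ e rfl
  calc Module.length R (Coh.HH X.left (ClSub.quotMod J) 0)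
      = Module.length R (Coh.HH J.subscheme (Coh.structureModule J.subscheme) 0) := h1.symm
    _ = _ := h2
    _ = _ := h4
    _ = (hz Γ D : ℕ∞) := by rw [h5, h6]

theorem lengthH_quotMod_sup (Γ : ArSurf.VertComp R X) (D : X.left.IdealSheafData) :
    Models.lengthH R X (ClSub.quotMod (D ⊔ Γ.ι.ker)) 0 = hz Γ D := by
  unfold Models.lengthH
  change (Module.length R (Coh.HH X.left (ClSub.quotMod (D ⊔ Γ.ι.ker)) 0)).toNat = hz Γ D
  rw [length_quotMod_sup]
  rfl

/-- The intersection number with an effective Cartier divisor not containing the curve. -/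
theorem inter_eq_lengthH (Γ : ArSurf.VertComp R X) {D : X.left.IdealSheafData}
    (hD : BlowUp.IsEffCartierIdeal D) (h : gp Γ ∉ D.support)
    {L : X.left.Modules} (hL : ClSub.IsInverseOf L (ClSub.idealMod D)) :
    ArSurf.inter R X L Γ = (Models.lengthH R X (ClSub.quotMod (D ⊔ Γ.ι.ker)) 0 : ℤ) := by
  rw [lengthH_quotMod_sup, Models.H65.InterProper.inter_inverse hL Γ]
  change - dd Γ D = _
  rw [Models.H65.InterProper.dd_eq Γ hD h, neg_neg]

end K480.InterLen
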