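import Groth.Agent.Ega4late.H532.Spread
import Groth.Agent.Ega4late.H533.DescScheme
import Groth.Agent.Models.H55.IntFib
import Groth.Agent.Divis.StalkAssoc

/-!
# Lifting effective Cartier divisors from the components of a curve (helper480)
-/

set_option autoImplicit false
universe u

open CategoryTheory CategoryTheory.Limits AlgebraicGeometry Opposite TopologicalSpace

namespace K480.LiftDiv

open Groth.Agent Groth.Agent.Divis.CartierBasic

variable {Z : Scheme.{u}} [IsLocallyNoetherian Z] {κ : Type} [Finite κ] {C : κ → Scheme.{u}}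
  [∀ k, IsIntegral (C k)] (g : ∀ k, C k ⟶ Z) [∀ k, IsClosedImmersion (g k)]
  (J : ∀ k, (C k).IdealSheafData)

omit [IsLocallyNoetherian Z] [Finite κ] [∀ k, IsIntegral (C k)] in
theorem exists_t (hJ : ∀ k, BlowUp.IsEffCartierIdeal (J k))
    (hdis : ∀ k (a : C k), a ∈ (J k).support → ∀ l, l ≠ k → ∀ b : C l, g l b ≠ g k a) (q : Z) :
    ∃ t : Z.presheaf.stalk q, (∀ k (a : C k) (ha : g k a = q),
      Ideal.span {(g k).stalkMap a (Z.presheaf.stalkSpecializes (specializes_of_eq ha) t)} =
        stalkIdeal (J k) a) ∧ ((∀ k (a : C k), g k a = q → a ∉ (J k).support) → t = 1) := by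
  by_cases h : ∃ k, ∃ a : C k, g k a = q ∧ a ∈ (J k).support
  · obtain ⟨k, a, rfl, ha⟩ := h
    obtain ⟨c, -, hc⟩ := exists_stalkIdeal_eq_span (hJ k) a
    obtain ⟨t, ht⟩ := (g k).stalkMap_surjective a c
    refine ⟨t, ?_, fun h => absurd ha (h k a rfl)⟩
    intro l b hb
    by_cases hlk : l = k
    · subst hlk
      have hab : b = a := (g l).isClosedEmbedding.injective hb
      subst hab
      have h1 : Z.presheaf.stalkSpecializes (specializes_of_eq hb) t = t := by
        have := Z.presheaf.stalkSpecializes_refl (g l b)
        exact congr($(this) t)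
      rw [h1, hc]
      congr 2
    · exact absurd hb (hdis k a ha l hlk b)
  · push Not at h
    refine ⟨1, ?_, fun _ => rfl⟩
    intro l b hb
    rw [map_one, map_one, Ideal.span_singleton_one]
    exact ((notMem_support_iff_stalkIdeal_eq_top _ _).1 (h l b hb)).symm

include g in
/-- Effective Cartier divisors on the components which avoid the other components lift to an effective Cartier
divisor. -/
theorem exists_ideal (hdim : ∀ k, topologicalKrullDim (C k) = 1) (hJ : ∀ k, BlowUp.IsEffCartierIdeal (J k))
    (hcov : ∀ q : Z, ∃ k, ∃ a : C k, g k a = q)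
    (hdis : ∀ k (a : C k), a ∈ (J k).support → ∀ l, l ≠ k → ∀ b : C l, g l b ≠ g k a)
    (hreg : ∀ k (a : C k), a ∈ (J k).support → ∀ t : Z.presheaf.stalk (g k a),
      (g k).stalkMap a t ≠ 0 → t ∈ nonZeroDivisors (Z.presheaf.stalk (g k a))) :
    ∃ I : Z.IdealSheafData, BlowUp.IsEffCartierIdeal I ∧ (∀ k, I.comap (g k) = J k) ∧
      (I.support : Set Z) = ⋃ k, (g k) '' ((J k).support : Set (C k)) := by
  choose t ht1 ht2 using exists_t g J hJ hdis
  have hP : ∀ k (a : C k), Ideal.span {(g k).stalkMap a (t (g k a))} = stalkIdeal (J k) a := by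
    intro k a
    rw [← ht1 (g k a) k a rfl]
    congr 3
    have := Z.presheaf.stalkSpecializes_refl (g k a)
    exact congr($(this) (t (g k a))).symm
  have hne : ∀ k (a : C k), (g k).stalkMap a (t (g k a)) ≠ 0 := by
    intro k a h0
    have h1 := hP k a
    rw [h0, Ideal.span_singleton_zero] at h1
    obtain ⟨c, hc, hc'⟩ := exists_stalkIdeal_eq_span (hJ k) a
    rw [hc', eq_comm, Ideal.span_singleton_eq_bot] at h1
    rw [h1] at hc
    exact zero_notMem_nonZeroDivisors hc
  have hunit : ∀ k (a : C k), a ∈ (J k).support → ¬ IsUnit (t (g k a)) := by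
    intro k a ha hu
    rw [mem_support_iff_stalkIdeal_ne_top, ← hP k a] at ha
    exact ha (Ideal.span_singleton_eq_top.2 (hu.map ((g k).stalkMap a).hom))
  have hgen : ∀ k, genericPoint (C k) ∉ (J k).support := by
    intro k h
    rw [mem_support_iff_stalkIdeal_ne_top] at h
    obtain ⟨c, hc, hc'⟩ := exists_stalkIdeal_eq_span (hJ k) (genericPoint (C k))
    apply h
    rw [hc', Ideal.span_singleton_eq_top]
    have hf : IsField ((C k).presheaf.stalk (genericPoint (C k))) := Field.toIsField _
    obtain ⟨d, hd⟩ := hf.mul_inv_cancel (nonZeroDivisors.ne_zero hc)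
    exact IsUnit.of_mul_eq_one _ hd
  have hclosed : ∀ k (a : C k), a ∈ (J k).support → IsClosed ({g k a} : Set Z) := by
    intro k a ha
    have h1 := Groth.Agent.Models.H55.IntFib.isClosed_of_ne (hdim k) a (fun h => hgen k (h ▸ ha))
    have h2 := (g k).isClosedEmbedding.isClosedMap _ h1
    rwa [Set.image_singleton] at h2
  have hset : {y : Z | ¬ IsUnit (t y)} = ⋃ k, (g k) '' ((J k).support : Set (C k)) := by
    ext y
    simp only [Set.mem_setOf_eq, Set.mem_iUnion]
    constructor
    · intro h
      by_contra hcon
      apply h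
      rw [ht2 y (fun k a ha hs => hcon ⟨k, a, hs, ha⟩)]
      exact isUnit_one
    · rintro ⟨k, a, ha, rfl⟩
      exact hunit k a ha
  obtain ⟨I, hI, hIt⟩ := Groth.Agent.Ega4late.H532.Spread.exists_effCartier t (by
      intro y
      by_cases h : ∃ k, ∃ a : C k, g k a = y ∧ a ∈ (J k).support
      · obtain ⟨k, a, rfl, ha⟩ := h
        exact hreg k a ha _ (hne k a)
      · push Not at h
        rw [ht2 y h]
        exact one_mem _) (by
      intro y' y h
      by_cases hyy : y' = y
      · subst hyy
        congr 2
        exact congr($(Z.presheaf.stalkSpecializes_refl y') (t y'))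
      · have h1 : t y' = 1 := by
          apply ht2
          rintro k a rfl ha
          exact hyy (h.mem_closed (hclosed k a ha) rfl).symm
        rw [h1, Ideal.span_singleton_one, Ideal.span_singleton_eq_top]
        by_cases h2 : ∃ k, ∃ a : C k, g k a = y ∧ a ∈ (J k).support
        · obtain ⟨k, a, rfl, ha⟩ := h2
          obtain ⟨l, b, rfl⟩ := hcov y'
          have h3 : g k a ∈ Set.range (g l) :=
            h.mem_closed (g l).isClosedEmbedding.isClosed_range ⟨b, rfl⟩
          obtain ⟨b', hb'⟩ := h3
          have hlk : l = k := by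
            by_contra hlk
            exact hdis k a ha l hlk b' hb'
          subst hlk
          have hba : b ⤳ a := ((g l).isClosedEmbedding.isInducing.specializes_iff).1 h
          have hbg : b ∉ (J l).support := by
            intro hb
            exact hyy (h.mem_closed (hclosed l b hb) rfl).symm
          have h4 : IsUnit ((g l).stalkMap b (Z.presheaf.stalkSpecializes h (t (g l a)))) := by
            have h5 := Scheme.Hom.stalkSpecializes_stalkMap (g l) _ _ hba
            have h6 : (g l).stalkMap b (Z.presheaf.stalkSpecializes h (t (g l a))) =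
                (C l).presheaf.stalkSpecializes hba ((g l).stalkMap a (t (g l a))) := congr($h5 (t (g l a)))
            rw [h6]
            have h7 := congrArg (Ideal.map ((C l).presheaf.stalkSpecializes hba).hom) (hP l a)
            rw [Ideal.map_span, Set.image_singleton] at h7
            rw [← Ideal.span_singleton_eq_top]
            refine h7.trans ?_
            rw [Groth.Agent.Divis.StalkAssoc.stalkIdeal_map_stalkSpecializes]
            exact (notMem_support_iff_stalkIdeal_eq_top _ _).1 hbg
          exact isUnit_of_map_unit ((g l).stalkMap b).hom _ h4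
        · push Not at h2
          rw [ht2 y h2, map_one]
          exact isUnit_one) (by
      rw [hset]
      exact isClosed_iUnion_of_finite fun k => (g k).isClosedEmbedding.isClosedMap _ (J k).support.isClosed)
  refine ⟨I, hI, fun k => ext_stalkIdeal fun a => ?_, ?_⟩
  · rw [Groth.Agent.Ega4late.H533.DescScheme.stalkIdeal_comap, hIt, Ideal.map_span, Set.image_singleton]
    exact hP k a
  · rw [← hset]
    ext y
    change y ∈ I.support ↔ _
    rw [mem_support_iff_stalkIdeal_ne_top, hIt, Ne, Ideal.span_singleton_eq_top]
    rfl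

end K480.LiftDiv
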