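import Groth.Agent.ArSurf.K480.Rigid
import Groth.Agent.ArSurf.K480.Contr
import Groth.Agent.ArSurf.K480.FinHor
import Groth.Agent.Models.H65.InterForm
import Groth.Agent.Models.H71.Comps
import Groth.Agent.Models.H55.CompGeom
import Groth.Agent.Dix.VertGeom
import Groth.Agent.Dix.Cast0
import Groth.Agent.Dix.IdealModCartier
import Groth.Agent.Models.H54.HorCartier

/-!
# Negative definiteness of the intersection form on the curves contracted to a point of a normal surface (helper480)
-/

set_option autoImplicit false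
universe u

open CategoryTheory CategoryTheory.Limits AlgebraicGeometry IsLocalRing TopologicalSpace

namespace K480.NegDef

section Algebra

/-- The equality case of negative semidefiniteness. -/
theorem eq_of_quad {ι : Type*} [Fintype ι] [DecidableEq ι] (a : ι → ι → ℤ) (m : ι → ℤ) (hm : ∀ i, 0 < m i)
    (hsym : ∀ i j, a i j = a j i) (hoff : ∀ i j, i ≠ j → 0 ≤ a i j) (hrow : ∀ j, ∑ i, m i * a i j = 0)
    (z : ι → ℤ) (h0 : 0 ≤ ∑ i, ∑ j, z i * z j * a i j) (i j : ι) (hij : i ≠ j) (ha : a i j ≠ 0) :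
    z i * m j = z j * m i := by
  let c : ι → ℚ := fun i => (z i : ℚ) / m i
  let b : ι → ι → ℚ := fun i j => (m i : ℚ) * m j * a i j
  have hmq : ∀ i, (0 : ℚ) < m i := fun i => by exact_mod_cast hm i
  have hb : ∀ i j, b i j = b j i := fun i j => by
    simp only [b, hsym i j]; ring
  have hbrow : ∀ i, ∑ j, b i j = 0 := by
    intro i
    have h1 : ∑ j, b i j = m i * ∑ j, (m j : ℚ) * a j i := by
      rw [Finset.mul_sum]
      refine Finset.sum_congr rfl fun j _ => ?_
      simp only [b, hsym i j]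
      ring
    have h2 : ∑ j, (m j : ℚ) * a j i = 0 := by exact_mod_cast hrow i
    rw [h1, h2, mul_zero]
  have hq : ∑ i, ∑ j, c i * c j * b i j = ∑ i, ∑ j, (z i : ℚ) * z j * a i j := by
    refine Finset.sum_congr rfl fun i _ => Finset.sum_congr rfl fun j _ => ?_
    have h1 := (hmq i).ne'
    have h2 := (hmq j).ne'
    simp only [c, b]
    field_simp
  have h1 : ∑ i, ∑ j, (c i) ^ 2 * b i j = 0 := by
    refine Finset.sum_eq_zero fun i _ => ?_
    rw [← Finset.mul_sum, hbrow, mul_zero]
  have h2 : ∑ i, ∑ j, (c j) ^ 2 * b i j = 0 := by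
    rw [Finset.sum_comm]
    rw [← h1]
    refine Finset.sum_congr rfl fun i _ => Finset.sum_congr rfl fun j _ => ?_
    rw [hb]
  have h3 : ∑ i, ∑ j, (c i - c j) ^ 2 * b i j = -2 * ∑ i, ∑ j, c i * c j * b i j := by
    have h4 : ∑ i, ∑ j, (c i - c j) ^ 2 * b i j = (∑ i, ∑ j, (c i) ^ 2 * b i j) +
        (∑ i, ∑ j, (c j) ^ 2 * b i j) - 2 * ∑ i, ∑ j, c i * c j * b i j := by
      rw [Finset.mul_sum, ← Finset.sum_add_distrib, ← Finset.sum_sub_distrib]
      refine Finset.sum_congr rfl fun i _ => ?_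
      rw [Finset.mul_sum, ← Finset.sum_add_distrib, ← Finset.sum_sub_distrib]
      refine Finset.sum_congr rfl fun j _ => ?_
      ring
    rw [h4, h1, h2]; ring
  have h0' : (0 : ℚ) ≤ ∑ i, ∑ j, (z i : ℚ) * z j * a i j := by exact_mod_cast h0
  rw [hq] at h3
  have hnn : ∀ i j, 0 ≤ (c i - c j) ^ 2 * b i j := by
    intro i j
    by_cases hij : i = j
    · rw [hij]; simp
    · have h5 : (0 : ℚ) ≤ a i j := by exact_mod_cast hoff i j hij
      have h6 := (hmq i).le
      have h7 := (hmq j).le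
      positivity
  have hsum : ∑ i, ∑ j, (c i - c j) ^ 2 * b i j = 0 := by
    refine le_antisymm ?_ (Finset.sum_nonneg fun i _ => Finset.sum_nonneg fun j _ => hnn i j)
    rw [h3]; linarith
  have h8 := (Finset.sum_eq_zero_iff_of_nonneg (fun i _ => Finset.sum_nonneg fun j _ => hnn i j)).1 hsum i
    (Finset.mem_univ i)
  have h9 := (Finset.sum_eq_zero_iff_of_nonneg (fun j _ => hnn i j)).1 h8 j (Finset.mem_univ j)
  have h10 : b i j ≠ 0 := by
    have h11 := (hmq i).ne'
    have h12 := (hmq j).ne'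
    have h13 : (a i j : ℚ) ≠ 0 := by exact_mod_cast ha
    simp only [b]
    positivity
  have h11 : c i = c j := by
    rcases mul_eq_zero.1 h9 with h | h
    · exact sub_eq_zero.1 (pow_eq_zero_iff (two_ne_zero)|>.1 h)
    · exact absurd h h10
  have h12 := (hmq i).ne'
  have h13 := (hmq j).ne'
  have h14 : (z i : ℚ) * m j = z j * m i := by
    simp only [c] at h11
    field_simp at h11
    linarith
  exact_mod_cast h14

end Algebra

variable {R : Type u} [CommRing R] [IsDomain R] [IsDiscreteValuationRing R] {X : Over (Spec (CommRingCat.of R))}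

/-- The intersection number only depends on the ideal of the curve. -/
theorem inter_congr_ker {Γ Γ' : ArSurf.VertComp R X} (h : Γ.ι.ker = Γ'.ι.ker) {L : X.left.Modules}
    (hL : PicF.IsInvertible L) : ArSurf.inter R X L Γ = ArSurf.inter R X L Γ' := by
  obtain ⟨e, he⟩ := Groth.Agent.Dix.InterSurf.exists_iso_of_ker_eq Γ.ι Γ'.ι h
  have hk : e.hom ≫ Γ'.curve.hom = Γ.curve.hom := by
    have hcl : IsClosedImmersion (Spec.map (CommRingCat.ofHom (IsLocalRing.residue R))) :=
      IsClosedImmersion.spec_of_surjective _ IsLocalRing.residue_surjective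
    rw [← cancel_mono (Spec.map (CommRingCat.ofHom (IsLocalRing.residue R))), Category.assoc, ← Γ'.w, ← Γ.w,
      ← Category.assoc, he]
  have h1 : PicF.IsInvertible ((Scheme.Modules.pullback Γ'.ι).obj L) :=
    Groth.Agent.Fdesc.LocGen.isInvertible_pullback Γ'.ι hL
  have h2 := Groth.Agent.Dix.Cast0.curveDeg_pullback_iso (IsLocalRing.ResidueField R) e.hom hk
    ((Scheme.Modules.pullback Γ'.ι).obj L) (Groth.Agent.Ega2.QCohLocal.isQCoh_of_isInvertible h1)
  unfold ArSurf.inter
  rw [← h2]
  refine Groth.Agent.Dix.Cast0.curveDeg_congr _ ?_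
  exact (Scheme.Modules.pullbackCongr he).symm.app L ≪≫ ((Scheme.Modules.pullbackComp e.hom Γ'.ι).symm.app L)

/-- Every vertical curve is one of the listed ones. -/
theorem exists_ker_eq {n : ℕ} {Δ : Fin n → ArSurf.VertComp R X} (hΔ : Models.IsComponentList R X Δ)
    (Γ : ArSurf.VertComp R X) : ∃ k, Γ.ι.ker = (Δ k).ι.ker := by
  have h1 : Models.genPtOf R X Γ ∈ Models.specialFibreSet R X :=
    Groth.Agent.Models.H71.Comps.rg_subset Γ ⟨_, rfl⟩
  obtain ⟨k, hk⟩ := (Groth.Agent.Models.H71.Comps.mem_specialFibreSet_iff hΔ _).1 h1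
  exact ⟨k, Groth.Agent.Dix.VertGeom.ker_eq_of_mem Γ.ι (Δ k).ι Γ.dim_eq (Δ k).dim_eq
    ((Groth.Agent.Dix.VertGeom.mem_support_ker_iff (Δ k).ι _).2 hk)⟩

theorem range_eq_of_ker_eq {Γ Γ' : ArSurf.VertComp R X} (h : Γ.ι.ker = Γ'.ι.ker) :
    Set.range (Γ.ι.base : Γ.curve.left → X.left) = Set.range (Γ'.ι.base : Γ'.curve.left → X.left) := by
  ext x
  have h1 := Groth.Agent.Dix.VertGeom.mem_support_ker_iff Γ.ι x
  have h2 := Groth.Agent.Dix.VertGeom.mem_support_ker_iff Γ'.ι x
  rw [h] at h1
  exact h1.symm.trans h2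

/-- A fibred surface has a component list. -/
theorem exists_componentList (hXi : IsIntegral X.left) (hdim : topologicalKrullDim X.left = 2) (hfl : Flat X.hom)
    (hpr : IsProper X.hom) :
    ∃ (n : ℕ) (Δ : Fin n → ArSurf.VertComp R X), Models.IsComponentList R X Δ := by
  have hgen : X.hom (genericPoint X.left) ≠ (closedPoint R : PrimeSpectrum R) := by
    intro h
    have h1 := Groth.Agent.Dix.GenFibre.asIdeal_hom_genericPoint X
    rw [h] at h1
    exact IsDiscreteValuationRing.not_a_field R h1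
  refine Groth.Agent.Models.H55.CompGeom.exists_componentList (fun x hx => ?_) hgen
  refine SurfDim.ringKrullDim_stalk_eq_two hdim x hx ?_
  have h1 : IsClosed ({X.hom x} : Set (Spec (CommRingCat.of R))) := by
    have h2 := X.hom.isClosedMap _ hx
    rwa [Set.image_singleton] at h2
  have h2 := (PrimeSpectrum.isClosed_singleton_iff_isMaximal _).1 h1
  rw [IsLocalRing.eq_maximalIdeal h2]
  exact IsDiscreteValuationRing.not_a_field R

/-- Through a point of codimension two of the closed fibre passes a codimension one point of the closed fibre. -/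
theorem exists_vertical_generization (Y : Over (Spec (CommRingCat.of R))) [IsLocallyNoetherian Y.left]
    [IsIntegral Y.left] [Flat Y.hom] (y : Y.left) (hy : ringKrullDim (Y.left.presheaf.stalk y) = 2)
    (hys : Y.hom y = (closedPoint R : PrimeSpectrum R)) :
    ∃ w : Y.left, w ⤳ y ∧ w ≠ y ∧ Y.hom w = (closedPoint R : PrimeSpectrum R) := by
  obtain ⟨ϖ, hϖ⟩ := IsDiscreteValuationRing.exists_irreducible R
  have h1 := (Groth.Agent.Models.H54.HorCartier.hom_eq_closedPoint_iff Y y hϖ).1 hys
  have hle : Ideal.span {Models.stalkHom R Y y ϖ} ≤ maximalIdeal (Y.left.presheaf.stalk y) := by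
    rw [Ideal.span_singleton_le_iff_mem]; exact h1
  obtain ⟨q, hq, -⟩ := Ideal.exists_minimalPrimes_le hle
  have hqp : q.IsPrime := hq.1.1
  have hfq : Models.stalkHom R Y y ϖ ∈ q := hq.1.2 (Ideal.mem_span_singleton_self _)
  have h2 := Ideal.height_le_one_of_isPrincipal_of_mem_minimalPrimes _ q hq
  let w : Y.left := Groth.Agent.CycB.LocQuot.ptOf ⟨q, hqp⟩
  have hw : w ⤳ y := Groth.Agent.CycB.LocQuot.ptOf_specializes _
  refine ⟨w, hw, ?_, ?_⟩
  · intro h
    have h3 : ringKrullDim (Y.left.presheaf.stalk w) = q.height := Groth.Agent.Divis.StalkPrime.height_eq _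
    rw [h, hy] at h3
    have h4 : (2 : ℕ∞) = q.height := WithBot.coe_injective h3
    rw [← h4] at h2
    exact absurd h2 (by decide)
  · rw [Groth.Agent.Models.H54.HorCartier.hom_eq_closedPoint_iff Y w hϖ,
      ← Groth.Agent.Models.H54.HorCartier.stalkHom_specializes Y hw,
      ← Groth.Agent.CycB.LocQuot.mem_ker_specMap_iff, ← Groth.Agent.CycB.LocQuot.primeOf_asIdeal]
    have h3 : Groth.Agent.CycB.LocQuot.primeOf hw = ⟨q, hqp⟩ := Groth.Agent.CycB.LocQuot.primeOf_ptOf _
    rw [h3]
    exact hfq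

end K480.NegDef
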