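import Groth.Agent.ArSurf.K482.PicMain
import Groth.Agent.Models.H47.EulerStep
import Groth.Agent.ArSurf.K480.NegDef
import Groth.Agent.ArSurf.K480.Contr
import Groth.Agent.S1659
import Groth.Agent.Fga.UnitRestrict
import Groth.Agent.Dix.SurfBasic

/-!
# Configurations of (-2)-curves on arithmetic surfaces (helper480, S7902)

* `inter_symm`: symmetry of the intersection numbers of a family of vertical curves;
* `P_all`: on all the divisors supported on a negative definite (-2)-configuration, numerically trivial modules are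
  trivial, with vanishing `H¹`;
* `chi_eq`: `2 χ(O_Z) = - Z·Z`;
* `hpic`: hypothesis (b) of Artin's contraction theorem.
-/

set_option autoImplicit false
universe u

open CategoryTheory CategoryTheory.Limits AlgebraicGeometry Opposite TopologicalSpace

namespace K480.MinusTwo

open Groth.Agent Groth.Agent.Models.H47

variable {R : Type u} [CommRing R] [IsDomain R] [IsDiscreteValuationRing R]
variable {X : Over (Spec (CommRingCat.of R))}

theorem inter_symm (hX : ArSurf.IsArithSurface R X) {r : ℕ} (Γ : Fin r → ArSurf.VertComp R X)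
    (L : Fin r → X.left.Modules) (hL : ∀ j, ClSub.IsInverseOf (L j) (ClSub.idealMod (Γ j).ι.ker)) (i j : Fin r) :
    ArSurf.inter R X (L j) (Γ i) = ArSurf.inter R X (L i) (Γ j) := by
  have hXi := hX.2.1
  have hXf := hX.2.2.2.1
  have hpX : IsProper X.hom := Groth.Agent.Dix.InterSurf.isProper_hom hX
  have hNX : IsLocallyNoetherian X.left := LocallyOfFiniteType.isLocallyNoetherian X.hom
  obtain ⟨n, Δ, hΔ⟩ := NegDef.exists_componentList hXi hX.2.2.1 hXf hpX
  choose σ hσ using fun i => NegDef.exists_ker_eq hΔ (Γ i)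
  have heffΔ : ∀ k, BlowUp.IsEffCartierIdeal (Δ k).ι.ker := fun k =>
    Groth.Agent.Models.H36.FibreFact.isEffCartier_ker (X := X) hX.1 (Δ k)
      (Groth.Agent.Models.H71.Comps.rg_mem hΔ k)
  have hIi : ∀ k, PicF.IsInvertible (ClSub.idealMod (Δ k).ι.ker) := fun k =>
    Groth.Agent.Dix.IdealModCartier.isInvertible_idealMod (heffΔ k)
  have hM' : ∀ k, ∃ M : X.left.Modules, ClSub.IsInverseOf M (ClSub.idealMod (Δ k).ι.ker) := by
    intro k
    obtain ⟨M, hM, ⟨e⟩⟩ := Groth.Agent.Grpsch.PicGrp.exists_inverse (hIi k)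
    refine ⟨M, ?_⟩
    have h1 : Groth.Agent.Grpsch.PicGrp.mk _ (hIi k) * Groth.Agent.Grpsch.PicGrp.mk M hM = 1 := by
      rw [Groth.Agent.Grpsch.PicGrp.mk_mul_mk, Groth.Agent.Grpsch.PicGrp.mk_eq_one_iff]
      exact ⟨e⟩
    rw [mul_comm, Groth.Agent.Grpsch.PicGrp.mk_mul_mk, Groth.Agent.Grpsch.PicGrp.mk_eq_one_iff] at h1
    exact h1
  choose M hM using hM'
  have hMi : ∀ k, PicF.IsInvertible (M k) := fun k =>
    (Groth.Agent.Dix.IdealModCartier.isInvertible_of_isInverseOf (hM k)).1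
  let a : Fin n → Fin n → ℤ := fun k l => ArSurf.inter R X (M l) (Δ k)
  have hsymm : ∀ k l, a k l = a l k := fun k l =>
    Groth.Agent.Models.H65.InterForm.symm (X := X) hX.1 hΔ hM k l
  have hinter : ∀ i j, ArSurf.inter R X (L j) (Γ i) = a (σ i) (σ j) := by
    intro i j
    have hLi := (Groth.Agent.Dix.IdealModCartier.isInvertible_of_isInverseOf (hL j)).1
    rw [NegDef.inter_congr_ker (hσ i) hLi]
    have h1 : ClSub.IsInverseOf (L j) (ClSub.idealMod (Δ (σ j)).ι.ker) := by
      rw [← hσ j]; exact hL j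
    have h2 := Groth.Agent.Models.H65.PicDeg.mk_of_isInverseOf hLi (hIi (σ j)) h1
    have h3 := Groth.Agent.Models.H65.PicDeg.mk_of_isInverseOf (hMi (σ j)) (hIi (σ j)) (hM (σ j))
    obtain ⟨e⟩ := (Groth.Agent.Grpsch.PicGrp.mk_eq_iff hLi (hMi (σ j))).1 (h2.trans h3.symm)
    exact Groth.Agent.Models.H65.PicDeg.inter_congr e _
  rw [hinter, hinter]
  exact hsymm _ _

/-- The intersection number of the trivial module. -/
theorem inter_structureModule (Γ : ArSurf.VertComp R X) :
    ArSurf.inter R X (Coh.structureModule X.left) Γ = 0 := by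
  unfold ArSurf.inter
  rw [Dix.Cast0.curveDeg_congr _ (Fga.UnitRestrict.pullbackUnitIso Γ.ι)]
  unfold ArSurf.curveDeg
  ring

theorem sum_eq {r : ℕ} (A : Fin r → Fin r → ℤ) (c : Fin r → ℤ) :
    (Finset.univ : Finset (Fin r × Fin r)).sum (fun p => c p.1 * c p.2 * A p.1 p.2) =
      ∑ i, c i * ∑ j, c j * A i j := by
  rw [← Finset.univ_product_univ, Finset.sum_product]
  refine Finset.sum_congr rfl fun i _ => ?_
  rw [Finset.mul_sum]
  refine Finset.sum_congr rfl fun j _ => ?_
  ring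

section

variable (hX : ArSurf.IsArithSurface R X) {r : ℕ} (Γ : Fin r → ArSurf.VertComp R X)
  (L : Fin r → X.left.Modules) (hL : ∀ j, ClSub.IsInverseOf (L j) (ClSub.idealMod (Γ j).ι.ker))
  (hneg : ∀ a : Fin r → ℤ, a ≠ 0 →
    (Finset.univ : Finset (Fin r × Fin r)).sum (fun p => a p.1 * a p.2 * ArSurf.inter R X (L p.2) (Γ p.1)) < 0)
  (htwo : ∀ i, Models.h1 R X (Γ i) = 0 ∧ ArSurf.inter R X (L i) (Γ i) = -2 * (Models.wdeg R X (Γ i) : ℤ))

include hX hL hneg htwo in
theorem P_all (a : Fin r → ℕ) : K482.PicMain.P Γ (∏ j, (Γ j).ι.ker ^ a j) := by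
  refine K482.PicMain.main hX Γ L hL (Coh.structureModule X.left) ?_ a ?_
  · intro i
    rw [inter_structureModule, add_zero, (htwo i).2, K482.CurveVan.eulerCharLE_one]
    have h1 := (htwo i).1
    unfold Models.h1 at h1
    rw [h1]
    unfold Models.wdeg
    push_cast
    ring
  · intro a' _ ha'
    have h0 : (fun i => (a' i : ℤ)) ≠ 0 := by
      intro h
      apply ha'
      funext i
      have := congrFun h i
      simpa using this
    have h1 := hneg _ h0
    have h2 := sum_eq (fun i j => ArSurf.inter R X (L j) (Γ i)) (fun i => (a' i : ℤ))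
    have h3 := h2.symm.trans_lt h1
    simpa only [inter_structureModule, add_zero] using h3

include hX hL hneg htwo in
/-- Hypothesis (b) for the divisors `Σ a_j Γ_j`. -/
theorem hb (a : Fin r → ℕ) :
    Subsingleton (Coh.HH (∏ j, (Γ j).ι.ker ^ a j).subscheme
      (Coh.structureModule (∏ j, (Γ j).ι.ker ^ a j).subscheme) 1) ∧
      ∀ N : ((∏ j, (Γ j).ι.ker ^ a j).subscheme).Modules, PicF.IsInvertible N →
        (∀ (i : Fin r) (g : (Γ i).curve.left ⟶ (∏ j, (Γ j).ι.ker ^ a j).subscheme),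
          g ≫ (∏ j, (Γ j).ι.ker ^ a j).subschemeι = (Γ i).ι →
          ArSurf.curveDeg (IsLocalRing.ResidueField R) (Γ i).curve.left ((Scheme.Modules.pullback g).obj N) = 0) →
        Nonempty (N ≅ Coh.structureModule (∏ j, (Γ j).ι.ker ^ a j).subscheme) := by
  have hP := P_all hX Γ L hL hneg htwo a
  refine ⟨(hP _ Fdesc.LocGen.isInvertible_structureModule ?_).1, fun N hN h => (hP N hN h).2⟩
  intro i g _
  rw [Dix.Cast0.curveDeg_congr _ (Fga.UnitRestrict.pullbackUnitIso g)]
  unfold ArSurf.curveDeg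
  ring

include hX hL htwo in
/-- `2 χ(O_Z) = - Z·Z`. -/
theorem chi_eq (a : Fin r → ℕ) :
    EulerLen.Good R (ClSub.quotMod (∏ j, (Γ j).ι.ker ^ a j)) ∧
    2 * EulerLen.chi R (ClSub.quotMod (∏ j, (Γ j).ι.ker ^ a j)) =
      - (Finset.univ : Finset (Fin r × Fin r)).sum
          (fun p => (a p.1 : ℤ) * (a p.2 : ℤ) * ArSurf.inter R X (L p.2) (Γ p.1)) := by
  have hXi := hX.2.1
  have hXf := hX.2.2.2.1
  have hpX : IsProper X.hom := Groth.Agent.Dix.InterSurf.isProper_hom hX
  have hE : ∀ i, BlowUp.IsEffCartierIdeal (Γ i).ι.ker := fun i =>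
    Dix.IdealModCartier.isEffCartierIdeal_of_isInverseOf (hL i)
  have hstep : ∀ i, GenusD.Step (Γ i) := fun i => EulerStep.step (Γ i)
  refine ⟨GenusD.good_chi_prod hE hstep a, ?_⟩
  rw [sum_eq (fun i j => ArSurf.inter R X (L j) (Γ i)) (fun i => (a i : ℤ))]
  induction a using Numeric.vec_induction with
  | h0 =>
    have : ∏ i, (Γ i).ι.ker ^ (0 : Fin r → ℕ) i = 1 := Finset.prod_eq_one fun i _ => pow_zero _
    rw [this, GenusD.quotMod_one.2]
    simp
  | hs a i ih =>
    have hprod : ∏ j, (Γ j).ι.ker ^ (a + Pi.single i 1 : Fin r → ℕ) j = (∏ j, (Γ j).ι.ker ^ a j) * (Γ i).ι.ker := by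
      simp only [Pi.add_apply, pow_add, Finset.prod_mul_distrib]
      congr 1
      rw [Finset.prod_eq_single i]
      · rw [Pi.single_eq_same, pow_one]
      · intro j _ hj
        rw [Pi.single_eq_of_ne hj, pow_zero]
      · intro h
        exact absurd (Finset.mem_univ i) h
    rw [hprod, (hstep i _ (Dix.IdealQuot.isEff_prod _ hE _ _) (GenusD.good_chi_prod hE hstep a)).2,
      GenusD.qd_prod _ _ hE, mul_add, mul_add, ih]
    have hq : ∀ j, GenusD.qd (Γ i) (Γ j).ι.ker = - ArSurf.inter R X (L j) (Γ i) := by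
      intro j
      have := Models.H65.InterProper.inter_inverse (hL j) (Γ i)
      unfold GenusD.qd
      linarith
    have h1 : ∀ A : Fin r → Fin r → ℤ, (∀ k l, A k l = A l k) →
        ∑ k, (((a + Pi.single i 1 : Fin r → ℕ) k : ℕ) : ℤ) * ∑ l, (((a + Pi.single i 1 : Fin r → ℕ) l : ℕ) : ℤ) * A k l =
          ∑ k, (a k : ℤ) * ∑ l, (a l : ℤ) * A k l + 2 * ∑ l, (a l : ℤ) * A i l + A i i := by
      intro A hA
      have h2 : ∀ F : Fin r → ℤ, ∑ l, (((a + Pi.single i 1 : Fin r → ℕ) l : ℕ) : ℤ) * F l =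
          ∑ l, (a l : ℤ) * F l + F i := by
        intro F
        simp only [Pi.add_apply, Nat.cast_add, add_mul, Finset.sum_add_distrib]
        congr 1
        rw [Finset.sum_eq_single i]
        · rw [Pi.single_eq_same, Nat.cast_one, one_mul]
        · intro j _ hj
          rw [Pi.single_eq_of_ne hj, Nat.cast_zero, zero_mul]
        · intro h
          exact absurd (Finset.mem_univ i) h
      rw [h2]
      simp only [h2]
      have h3 : ∑ k, (a k : ℤ) * (∑ l, (a l : ℤ) * A k l + A k i) =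
          ∑ k, (a k : ℤ) * ∑ l, (a l : ℤ) * A k l + ∑ l, (a l : ℤ) * A i l := by
        rw [← Finset.sum_add_distrib]
        refine Finset.sum_congr rfl fun k _ => ?_
        rw [mul_add, hA k i]
      rw [h3]
      ring
    rw [h1 (fun k l => ArSurf.inter R X (L l) (Γ k)) (fun k l => inter_symm hX Γ L hL k l)]
    have h4 : (Models.h1 R X (Γ i) : ℤ) = 0 := by rw [(htwo i).1]; rfl
    rw [h4, (htwo i).2]
    simp only [hq]
    rw [show ∑ j, (a j : ℤ) * -ArSurf.inter R X (L j) (Γ i) = -∑ j, (a j : ℤ) * ArSurf.inter R X (L j) (Γ i) by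
      rw [← Finset.sum_neg_distrib]
      exact Finset.sum_congr rfl fun j _ => by ring]
    ring

include hX hL hneg htwo in
/-- Hypothesis (b) of Artin's contraction theorem. -/
theorem hpic (Z : Scheme.{u}) (z : Z ⟶ X.left) [IsClosedImmersion z] (hZ : BlowUp.IsEffCartierIdeal z.ker)
    (hsub : Set.range z.base ⊆ (⋃ i, Set.range (Γ i).ι.base)) (N : Z.Modules) (hN : PicF.IsInvertible N)
    (hdeg : ∀ (i : Fin r) (g : (Γ i).curve.left ⟶ Z), g ≫ z = (Γ i).ι →
      ArSurf.curveDeg (IsLocalRing.ResidueField R) (Γ i).curve.left ((Scheme.Modules.pullback g).obj N) = 0) :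
    Nonempty (N ≅ Coh.structureModule Z) := by
  have hNX := Dix.SurfBasic.isNoetherian hX
  have hE : ∀ i, BlowUp.IsEffCartierIdeal (Γ i).ι.ker := fun i =>
    Dix.IdealModCartier.isEffCartierIdeal_of_isInverseOf (hL i)
  obtain ⟨a, ha⟩ := Groth.Agent.S1659.result X.left z.ker hZ r (fun i => (Γ i).ι.ker) hE
    (fun i => Models.H36.FibreFact.isIntegral_ker_subscheme (Γ i).ι) (by
      rw [Scheme.Hom.support_ker, z.isClosedEmbedding.isClosed_range.closure_eq]
      refine hsub.trans (Set.iUnion_mono fun i => ?_)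
      rw [Scheme.Hom.support_ker, (Γ i).ι.isClosedEmbedding.isClosed_range.closure_eq])
  obtain ⟨e, he⟩ := Dix.InterSurf.exists_iso_of_ker_eq z (∏ j, (Γ j).ι.ker ^ a j).subschemeι
    (by rw [ha, Scheme.IdealSheafData.ker_subschemeι])
  obtain ⟨φ⟩ := (hb hX Γ L hL hneg htwo a).2 ((Scheme.Modules.pullback e.inv).obj N)
    (Fdesc.LocGen.isInvertible_pullback e.inv hN) (by
      intro i g hg
      refine (Dix.Cast0.curveDeg_congr _ ((Scheme.Modules.pullbackComp g e.inv).app N)).trans ?_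
      refine hdeg i (g ≫ e.inv) ?_
      rw [Category.assoc, ← he, Iso.inv_hom_id_assoc, hg])
  exact ⟨(Scheme.Modules.pullbackId Z).symm.app N ≪≫
    (Scheme.Modules.pullbackCongr e.hom_inv_id.symm).app N ≪≫
    ((Scheme.Modules.pullbackComp e.hom e.inv).app N).symm ≪≫ (Scheme.Modules.pullback e.hom).mapIso φ ≪≫
    Fga.UnitRestrict.pullbackUnitIso e.hom⟩

end

end K480.MinusTwo
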