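import Groth.Agent.ArSurf.K480.MinusTwoMain
import Groth.Agent.ArSurf.K480.Contr

/-!
# The cotangent spaces of the contraction of a (-2)-configuration, the general case (helper480, S7902)
-/

set_option autoImplicit false
universe u

open CategoryTheory CategoryTheory.Limits AlgebraicGeometry Opposite TopologicalSpace

namespace K480.MinusTwoFin

open Groth.Agent Groth.Agent.Models.H47 K480.MinusTwo K480.MinusTwoMain Groth.Agent.Dix.ExcPts

theorem finrank_of_bijective {X Y : Scheme.{u}} [IsLocallyNoetherian X] [IsLocallyNoetherian Y] (f : X ⟶ Y) (x : X)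
    (h : Function.Bijective (f.stalkMap x)) :
    Module.finrank (IsLocalRing.ResidueField (Y.presheaf.stalk (f x)))
        (IsLocalRing.CotangentSpace (Y.presheaf.stalk (f x))) =
      Module.finrank (IsLocalRing.ResidueField (X.presheaf.stalk x))
        (IsLocalRing.CotangentSpace (X.presheaf.stalk x)) :=
  CotLen.finrank_congr (RingEquiv.ofBijective (f.stalkMap x).hom h)

theorem finrank_of_bijective' {X Y : Scheme.{u}} [IsLocallyNoetherian X] [IsLocallyNoetherian Y] (f : X ⟶ Y) (x : X)
    (h : Function.Bijective (f.stalkMap x)) (y : Y) (hy : f x = y) :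
    Module.finrank (IsLocalRing.ResidueField (Y.presheaf.stalk y))
        (IsLocalRing.CotangentSpace (Y.presheaf.stalk y)) =
      Module.finrank (IsLocalRing.ResidueField (X.presheaf.stalk x))
        (IsLocalRing.CotangentSpace (X.presheaf.stalk x)) := by
  subst hy
  exact finrank_of_bijective f x h

variable {R : Type u} [CommRing R] [IsDomain R] [IsDiscreteValuationRing R]
variable {X : Over (Spec (CommRingCat.of R))}

theorem finrank_le_two (hX : ArSurf.IsArithSurface R X) (x : X.left) :
    Module.finrank (IsLocalRing.ResidueField (X.left.presheaf.stalk x))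
        (IsLocalRing.CotangentSpace (X.left.presheaf.stalk x)) ≤ 2 := by
  have := Dix.SurfBasic.isNoetherian hX
  have h1 := Dix.BlowIrr.ringKrullDim_le_two x (Dix.SurfBasic.coheight_le hX x)
  have h2 : IsRegularLocalRing (X.left.presheaf.stalk x) := hX.1 x
  rw [← (IsRegularLocalRing.iff_finrank_cotangentSpace _).1 h2] at h1
  exact_mod_cast h1

theorem sum_extend {m r : ℕ} (σ : Fin m → Fin r) (hσ : Function.Injective σ) (B : Fin r → Fin r → ℤ) (a : Fin m → ℤ) :
    (Finset.univ : Finset (Fin m × Fin m)).sum (fun p => a p.1 * a p.2 * B (σ p.1) (σ p.2)) =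
      (Finset.univ : Finset (Fin r × Fin r)).sum
        (fun p => Function.extend σ a 0 p.1 * Function.extend σ a 0 p.2 * B p.1 p.2) := by
  refine Finset.sum_of_injOn (fun p => (σ p.1, σ p.2)) ?_ (fun _ _ => Finset.mem_coe.2 (Finset.mem_univ _)) ?_ ?_
  · intro p _ q _ h
    have h' := Prod.ext_iff.1 h
    exact Prod.ext (hσ h'.1) (hσ h'.2)
  · intro p _ hp
    by_cases h1 : ∃ i, σ i = p.1
    · by_cases h2 : ∃ j, σ j = p.2
      · obtain ⟨i, hi⟩ := h1
        obtain ⟨j, hj⟩ := h2
        exact absurd ⟨(i, j), Finset.mem_coe.2 (Finset.mem_univ _), Prod.ext hi hj⟩ hp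
      · rw [Function.extend_apply' a _ p.2 h2]
        simp
    · rw [Function.extend_apply' a _ p.1 h1]
      simp
  · intro p _
    simp only [hσ.extend_apply]

theorem app_bijective {X Y Z : Scheme.{u}} (f' : X ⟶ Y) (g : Y ⟶ Z) (V : Z.Opens)
    (h1 : Function.Bijective (f'.app (g ⁻¹ᵁ V))) (h2 : Function.Bijective ((f' ≫ g).app V)) :
    Function.Bijective (g.app V) := by
  have h3 : (f'.app (g ⁻¹ᵁ V)) ∘ (g.app V) = (f' ≫ g).app V := by
    ext s
    exact (congr($(Scheme.Hom.comp_app f' g V) s)).symm
  exact (Function.Bijective.of_comp_iff' h1 _).1 (h3 ▸ h2)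

/-- The bound on the cotangent spaces. -/
theorem finrank_le_three (hTB : TB R X) (hX : ArSurf.IsArithSurface R X) {r : ℕ} (Γ : Fin r → ArSurf.VertComp R X)
    (hΓ : Function.Injective fun i => Set.range ((Γ i).ι.base : (Γ i).curve.left → X.left))
    (L : Fin r → X.left.Modules) (hL : ∀ j, ClSub.IsInverseOf (L j) (ClSub.idealMod (Γ j).ι.ker))
    (hneg : ∀ a : Fin r → ℤ, a ≠ 0 →
      (Finset.univ : Finset (Fin r × Fin r)).sum (fun p => a p.1 * a p.2 * ArSurf.inter R X (L p.2) (Γ p.1)) < 0)
    (htwo : ∀ i, Models.h1 R X (Γ i) = 0 ∧ ArSurf.inter R X (L i) (Γ i) = -2 * (Models.wdeg R X (Γ i) : ℤ))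
    (Y : Over (Spec (CommRingCat.of R))) (f : X ⟶ Y)
    (hYint : IsIntegral Y.left) (hYnor : ∀ q : Y.left, IsIntegrallyClosed (Y.left.presheaf.stalk q))
    (hYdim : topologicalKrullDim Y.left = 2) (hYpr : Neron.IsProjectiveOver R Y)
    (hpt : ∀ i, ∃ y : Y.left, Set.range (((Γ i).ι ≫ f.left).base : (Γ i).curve.left → Y.left) = {y})
    (hpre : f.left.base ⁻¹' (f.left.base '' ⋃ i, Set.range (Γ i).ι.base) = ⋃ i, Set.range (Γ i).ι.base)
    (hiso : ∀ V : Y.left.Opens, (V : Set Y.left) ∩ f.left.base '' (⋃ i, Set.range (Γ i).ι.base) = ∅ →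
        IsIso (f.left ∣_ V)) (y : Y.left) :
    Module.finrank (IsLocalRing.ResidueField (Y.left.presheaf.stalk y))
        (IsLocalRing.CotangentSpace (Y.left.presheaf.stalk y)) ≤ 3 := by
  have := hX.2.1
  have := Dix.SurfBasic.isNoetherian hX
  have hpX : IsProper X.hom := Groth.Agent.Dix.InterSurf.isProper_hom hX
  have hpY : IsProper Y.hom := Dix.GenFibre.isProper_of_isProjectiveOver hYpr
  have hNY : IsLocallyNoetherian Y.left := LocallyOfFiniteType.isLocallyNoetherian Y.hom
  have hpf : IsProper f.left := by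
    have h1 : IsProper (f.left ≫ Y.hom) := by rw [Over.w f]; exact hpX
    exact IsProper.of_comp f.left Y.hom
  have hcl : ∀ i, IsClosed (Set.range ((Γ i).ι.base : (Γ i).curve.left → X.left)) := fun i =>
    (Γ i).ι.isClosedEmbedding.isClosed_range
  have hdata : K480.Contr.Data f.left (fun i => Set.range ((Γ i).ι.base : (Γ i).curve.left → X.left)) :=
    K480.Contr.Data.mk' f.left _ hcl (fun i => by
      obtain ⟨y, hy⟩ := hpt i
      exact ⟨y, by rw [← hy, ← K480.Contr.range_comp]⟩) hpre hiso
  have hbir : IsBir f.left := hdata.isBir hYdim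
  have hsurj : Function.Surjective f.left := Dix.ExcPts.surjective f.left hbir
  by_cases hy : y ∈ f.left.base '' ⋃ i, Set.range (Γ i).ι.base
  · -- a contracted point
    classical
    let s : Finset (Fin r) := Finset.univ.filter fun i => f.left.base '' (Set.range (Γ i).ι.base) = {y}
    let σ : Fin s.card → Fin r := s.orderEmbOfFin rfl
    have hσ : Function.Injective σ := (s.orderEmbOfFin rfl).injective
    have hσr : ∀ i, (∃ j, σ j = i) ↔ f.left.base '' (Set.range (Γ i).ι.base) = {y} := by
      intro i
      have h1 : Set.range σ = (s : Set (Fin r)) := Finset.range_orderEmbOfFin s rfl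
      have h2 : i ∈ Set.range σ ↔ i ∈ (s : Set (Fin r)) := by rw [h1]
      rw [Set.mem_range] at h2
      rw [h2, Finset.mem_coe, Finset.mem_filter]
      simp
    have hneg' : ∀ a : Fin s.card → ℤ, a ≠ 0 →
        (Finset.univ : Finset (Fin s.card × Fin s.card)).sum
          (fun p => a p.1 * a p.2 * ArSurf.inter R X (L (σ p.2)) (Γ (σ p.1))) < 0 := by
      intro a ha
      rw [sum_extend σ hσ (fun i j => ArSurf.inter R X (L j) (Γ i)) a]
      refine hneg _ fun h => ha ?_
      funext j
      have h1 := congrFun h (σ j)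
      rw [hσ.extend_apply] at h1
      exact h1
    have hΓ' : Function.Injective fun j =>
        Set.range ((Γ (σ j)).ι.base : (Γ (σ j)).curve.left → X.left) := fun a b h => hσ (hΓ h)
    obtain ⟨Y', f', hint', hnor', hdim', hfl', hpr', hpt', hpre', hiso'⟩ :=
      Groth.Agent.S7888.result R X hX (fun j => Γ (σ j)) hΓ' (fun j => L (σ j)) (fun j => hL (σ j)) hneg'
        (fun Z z _ hZ _ hsub N hN hdeg => hpic hX (fun j => Γ (σ j)) (fun j => L (σ j)) (fun j => hL (σ j)) hneg'
          (fun j => htwo (σ j)) Z z hZ hsub N hN hdeg)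
    have hfib : f.left.base ⁻¹' {y} = ⋃ j, Set.range (Γ (σ j)).ι.base := by
      ext x
      rw [Set.mem_iUnion]
      constructor
      · intro hx
        have h1 : x ∈ ⋃ i, Set.range (Γ i).ι.base := by
          rw [← hpre]
          have h0 : f.left.base x = y := hx
          exact Set.mem_preimage.2 (h0 ▸ hy)
        rw [Set.mem_iUnion] at h1
        obtain ⟨i, hi⟩ := h1
        obtain ⟨w, hw⟩ := hpt i
        have h2 : f.left.base '' (Set.range (Γ i).ι.base) = {w} := by
          rw [← hw]
          exact (K480.Contr.range_comp _ _).symm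
        have h3 : f.left.base x ∈ f.left.base '' (Set.range (Γ i).ι.base) := ⟨x, hi, rfl⟩
        rw [h2, show f.left.base x = y from hx] at h3
        obtain rfl : y = w := h3
        obtain ⟨j, rfl⟩ := (hσr i).2 h2
        exact ⟨j, hi⟩
      · rintro ⟨j, hj⟩
        have h1 := (hσr (σ j)).1 ⟨j, rfl⟩
        have h3 : f.left.base x ∈ f.left.base '' (Set.range (Γ (σ j)).ι.base) := ⟨x, hj, rfl⟩
        rw [h1] at h3
        exact h3
    have hconn : _root_.IsConnected (⋃ j, Set.range ((Γ (σ j)).ι.base : (Γ (σ j)).curve.left → X.left)) := by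
      rw [← hfib]
      exact K480.Rigid.isConnected_fibre hYnor f.left hbir y
    have hpY' : IsProper Y'.hom := Dix.GenFibre.isProper_of_isProjectiveOver hpr'
    have hNY' : IsLocallyNoetherian Y'.left := LocallyOfFiniteType.isLocallyNoetherian Y'.hom
    have hpf' : IsProper f'.left := by
      have h1 : IsProper (f'.left ≫ Y'.hom) := by rw [Over.w f']; exact hpX
      exact IsProper.of_comp f'.left Y'.hom
    have hdata' : K480.Contr.Data f'.left (fun j => Set.range ((Γ (σ j)).ι.base : (Γ (σ j)).curve.left → X.left)) :=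
      K480.Contr.Data.mk' f'.left _ (fun j => hcl (σ j)) (fun j => by
        obtain ⟨y, hy⟩ := hpt' j
        exact ⟨y, by rw [← hy, ← K480.Contr.range_comp]⟩) hpre' hiso'
    have hbir' : IsBir f'.left := hdata'.isBir hdim'
    have hsurj' : Function.Surjective f'.left := Dix.ExcPts.surjective f'.left hbir'
    -- the image of the union in `Y'`
    obtain ⟨x₀, hx₀⟩ := hconn.nonempty
    have himg : f'.left.base '' (⋃ j, Set.range (Γ (σ j)).ι.base) = {f'.left.base x₀} := by
      have h1 := K480.Rigid.subsingleton_of_finite_closed hdata'.fin hdata'.closed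
        (hconn.isPreconnected.image _ f'.left.continuous.continuousOn) subset_rfl
      exact h1.eq_singleton_of_mem ⟨x₀, hx₀, rfl⟩
    have hpre'' : f'.left.base ⁻¹' {f'.left.base x₀} = ⋃ j, Set.range (Γ (σ j)).ι.base := by
      rw [← himg]
      exact hpre'
    have h3 := connected hTB hX (fun j => Γ (σ j)) hΓ' (fun j => L (σ j)) (fun j => hL (σ j)) hconn hneg'
      (fun j => htwo (σ j)) Y' f' hint' hnor' hdim' hfl' hpr' (f'.left.base x₀) himg hpre''
      (fun V hV => hiso' V (by
        rw [himg]
        ext w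
        simp only [Set.mem_inter_iff, Set.mem_singleton_iff, Set.mem_empty_iff_false, iff_false, not_and]
        rintro hw rfl
        exact hV hw))
    -- the factorization
    have hfy : f.left.base x₀ = y := by
      have : x₀ ∈ f.left.base ⁻¹' {y} := by rw [hfib]; exact hx₀
      exact this
    have himf : f.left.base '' (⋃ j, Set.range (Γ (σ j)).ι.base) = {y} := by
      rw [← hfib]
      ext w
      constructor
      · rintro ⟨x, hx, rfl⟩
        exact hx
      · rintro rfl
        exact ⟨x₀, hfy, hfy⟩
    obtain ⟨g, hg⟩ := K480.Rigid.exists_desc hnor' f'.left f.left hbir' _ hdata'.pre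
      ⟨_, hdata'.isClosed.isOpen_compl⟩ rfl (hdata'.iso _ rfl) (by
        have h1 : (⇑f.left '' ⋃ j, Set.range (Γ (σ j)).ι.base) = {y} := himf
        rw [h1]
        exact Set.finite_singleton y) (by
        intro w hw
        have h1 : (⇑f.left '' ⋃ j, Set.range (Γ (σ j)).ι.base) = {y} := himf
        rw [h1] at hw
        obtain rfl : w = y := hw
        exact hdata.closed _ hy)
    have hgx : ∀ x, g (f'.left x) = f.left x := fun x => by
      rw [← hg]
      rfl
    have hclg : IsClosedMap g := by
      intro S hS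
      have h1 : ⇑g '' S = ⇑f.left '' (⇑f'.left ⁻¹' S) := by
        ext w
        constructor
        · rintro ⟨v, hv, rfl⟩
          obtain ⟨x, rfl⟩ := hsurj' v
          exact ⟨x, hv, (hgx x).symm⟩
        · rintro ⟨x, hx, rfl⟩
          exact ⟨_, hx, hgx x⟩
      rw [h1]
      exact f.left.isClosedMap _ (hS.preimage f'.left.continuous)
    have happ : ∀ V : Y.left.Opens, Function.Bijective (g.app V) := by
      intro V
      refine app_bijective f'.left g V ?_ ?_
      · exact (ConcreteCategory.isIso_iff_bijective _).1 (K480.Rigid.isIso_app_of_isBir hnor' f'.left hbir' _)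
      · rw [hg]
        exact (ConcreteCategory.isIso_iff_bijective _).1 (K480.Rigid.isIso_app_of_isBir hYnor f.left hbir _)
    have hbj := StalkIso.bijective_stalkMap g happ hclg (f'.left x₀) (by
      intro w hw
      obtain ⟨x, rfl⟩ := hsurj' w
      rw [hgx, hgx] at hw
      have h1 : x ∈ f.left.base ⁻¹' {y} := by
        change f.left x = y
        rw [hw]
        exact hfy
      rw [hfib, ← hpre''] at h1
      exact h1)
    rw [finrank_of_bijective' g (f'.left x₀) hbj y ((hgx x₀).trans hfy)]
    exact h3.le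
  · -- an isomorphism near `y`
    obtain ⟨x, hx⟩ := hsurj y
    let V : Y.left.Opens := ⟨(f.left.base '' ⋃ i, Set.range (Γ i).ι.base)ᶜ, hdata.isClosed.isOpen_compl⟩
    have hV : IsIso (f.left ∣_ V) := hiso V (Set.compl_inter_self _)
    have h1 := Dix.BirIso.isIso_stalkMap f.left V hV x (by
      rw [hx]
      exact hy)
    have h2 := (ConcreteCategory.isIso_iff_bijective _).1 h1
    rw [finrank_of_bijective' f.left x h2 y hx]
    exact (finrank_le_two hX x).trans (by norm_num)

end K480.MinusTwoFin
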