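import Mathlib.AlgebraicGeometry.Scheme
import Mathlib.AlgebraicGeometry.Noetherian

/-!
# Stalk maps at points which are alone in their fibre (helper480)
-/

set_option autoImplicit false
universe u

open CategoryTheory CategoryTheory.Limits AlgebraicGeometry Opposite TopologicalSpace

namespace K480.StalkIso

/-- For a closed morphism with `O_Y = g_* O_X`, the stalk map at a point alone in its fibre is bijective. -/
theorem bijective_stalkMap {X Y : Scheme.{u}} (g : X ⟶ Y) (hO : ∀ V : Y.Opens, Function.Bijective (g.app V))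
    (hcl : IsClosedMap g) (x : X) (hx : ∀ w, g w = g x → w = x) : Function.Bijective (g.stalkMap x) := by
  -- neighbourhoods
  have hnhd : ∀ (W : X.Opens), x ∈ W → ∀ V : Y.Opens, g x ∈ V →
      ∃ V' : Y.Opens, g x ∈ V' ∧ V' ≤ V ∧ g ⁻¹ᵁ V' ≤ W := by
    intro W hW V hV
    let U : Y.Opens := ⟨(g '' (W : Set X)ᶜ)ᶜ, (hcl _ W.isOpen.isClosed_compl).isOpen_compl⟩
    refine ⟨V ⊓ U, ⟨hV, ?_⟩, inf_le_left, ?_⟩
    · rintro ⟨w, hw, hwx⟩
      exact hw (hx w hwx ▸ hW)
    · intro w hw
      by_contra hwW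
      exact hw.2 ⟨w, hwW, rfl⟩
  constructor
  · rw [injective_iff_map_eq_zero]
    intro s hs
    obtain ⟨V, hV, s, rfl⟩ := TopCat.Presheaf.exists_germ_eq Y.presheaf s
    have h1 : X.presheaf.germ (g ⁻¹ᵁ V) x hV (g.app V s) = X.presheaf.germ (g ⁻¹ᵁ V) x hV 0 := by
      rw [map_zero, ← hs]
      exact (congr($(Scheme.Hom.germ_stalkMap g V x hV) s)).symm
    obtain ⟨W, hW, i, j, h⟩ := X.presheaf.germ_eq x hV hV _ _ h1
    obtain ⟨V', hV', hle, hVW⟩ := hnhd W hW V hV
    have h2 : g.app V' (Y.presheaf.map (homOfLE hle).op s) = 0 := by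
      have h3 : g.app V' (Y.presheaf.map (homOfLE hle).op s) =
          X.presheaf.map (homOfLE (g.preimage_mono hle)).op (g.app V s) :=
        congr($(g.naturality (homOfLE hle).op) s)
      rw [h3]
      have h4 : (homOfLE (g.preimage_mono hle)).op = i.op ≫ (homOfLE hVW).op := rfl
      rw [h4, X.presheaf.map_comp, CommRingCat.comp_apply, h, map_zero, map_zero]
    have h5 : Y.presheaf.map (homOfLE hle).op s = 0 := (hO V').1 (by rw [h2, map_zero])
    rw [← TopCat.Presheaf.germ_res_apply Y.presheaf (homOfLE hle) (g x) hV' s, h5, map_zero]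
  · intro t
    obtain ⟨W, hW, t, rfl⟩ := TopCat.Presheaf.exists_germ_eq X.presheaf t
    obtain ⟨V', hV', -, hVW⟩ := hnhd W hW ⊤ trivial
    obtain ⟨s, hs⟩ := (hO V').2 (X.presheaf.map (homOfLE hVW).op t)
    refine ⟨Y.presheaf.germ V' (g x) hV' s, ?_⟩
    have h1 : g.stalkMap x (Y.presheaf.germ V' (g x) hV' s) = X.presheaf.germ (g ⁻¹ᵁ V') x hV' (g.app V' s) :=
      congr($(Scheme.Hom.germ_stalkMap g V' x hV') s)
    rw [h1, hs]
    exact TopCat.Presheaf.germ_res_apply X.presheaf (homOfLE hVW) x hV' t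

end K480.StalkIso
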