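import Groth.Agent.ArSurf.K480.MinusTwo
import Groth.Agent.ArSurf.K480.FundCyc
import Groth.Agent.ArSurf.K480.CotLen
import Groth.Agent.ArSurf.K480.StalkIso
import Groth.Agent.Dix.BlowIrr
import Groth.Agent.S7888
import Groth.Agent.S0012

/-!
# The cotangent spaces of the contraction of a (-2)-configuration (helper480, S7902)

`TB`: the conclusion of S13329 for the surface `X`.
-/

set_option autoImplicit false
universe u

open CategoryTheory CategoryTheory.Limits AlgebraicGeometry Opposite TopologicalSpace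

namespace K480.MinusTwoMain

open Groth.Agent Groth.Agent.Models.H47 K480.MinusTwo

variable (R : Type u) [CommRing R] [IsDomain R] [IsDiscreteValuationRing R]
variable (X : Over (Spec (CommRingCat.of R)))

/-- The statement of S13329 over `X` (for the second power of the maximal ideal). -/
def TB : Prop :=
    ∀ {r : ℕ} (Γ : Fin r → ArSurf.VertComp R X)
    (_ : Function.Injective fun i => Set.range ((Γ i).ι.base : (Γ i).curve.left → X.left))
    (L : Fin r → X.left.Modules) (_ : ∀ j, ClSub.IsInverseOf (L j) (ClSub.idealMod (Γ j).ι.ker))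
    (_ : _root_.IsConnected (⋃ i, Set.range ((Γ i).ι.base : (Γ i).curve.left → X.left)))
    (_ : ∀ c : Fin r → ℤ, c ≠ 0 →
      (Finset.univ : Finset (Fin r × Fin r)).sum (fun p => c p.1 * c p.2 * ArSurf.inter R X (L p.2) (Γ p.1)) < 0)
    (_ : ∀ a : Fin r → ℕ, a ≠ 0 →
      Subsingleton (Coh.HH (∏ j, (Γ j).ι.ker ^ a j).subscheme (Coh.structureModule (∏ j, (Γ j).ι.ker ^ a j).subscheme) 1) ∧
      ∀ N : ((∏ j, (Γ j).ι.ker ^ a j).subscheme).Modules, PicF.IsInvertible N →
        (∀ (i : Fin r) (g : (Γ i).curve.left ⟶ (∏ j, (Γ j).ι.ker ^ a j).subscheme), g ≫ (∏ j, (Γ j).ι.ker ^ a j).subschemeι = (Γ i).ι →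
          ArSurf.curveDeg (IsLocalRing.ResidueField R) (Γ i).curve.left ((Scheme.Modules.pullback g).obj N) = 0) →
        Nonempty (N ≅ Coh.structureModule (∏ j, (Γ j).ι.ker ^ a j).subscheme))
    (z : Fin r → ℕ) (_ : ∀ i, 1 ≤ z i)
    (_ : ∀ i, ∑ j, (z j : ℤ) * ArSurf.inter R X (L j) (Γ i) ≤ 0)
    (_ : ∀ z' : Fin r → ℕ, (∀ i, 1 ≤ z' i) → (∀ i, ∑ j, (z' j : ℤ) * ArSurf.inter R X (L j) (Γ i) ≤ 0) →
      ∀ i, z i ≤ z' i)
    (Y : Over (Spec (CommRingCat.of R))) (f : X ⟶ Y)
    (_ : IsIntegral Y.left) (_ : ∀ q : Y.left, IsIntegrallyClosed (Y.left.presheaf.stalk q))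
    (_ : topologicalKrullDim Y.left = 2) (_ : Flat Y.hom) (_ : Neron.IsProjectiveOver R Y)
    (y : Y.left) (_ : f.left.base '' (⋃ i, Set.range (Γ i).ι.base) = {y})
    (_ : f.left.base ⁻¹' {y} = ⋃ i, Set.range (Γ i).ι.base)
    (_ : ∀ V : Y.left.Opens, y ∉ V → IsIso (f.left ∣_ V)),
    (letI : Algebra R (Y.left.residueField y) := ((Y.left.residue y).hom.comp (Models.stalkHom R Y y)).toAlgebra;
      Module.length R (Y.left.residueField y) = (Models.lengthH R X (ClSub.quotMod (∏ j, (Γ j).ι.ker ^ z j)) 0 : ℕ∞)) ∧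
    ∀ n : ℕ, 1 ≤ n →
      (letI : Algebra R (Y.left.presheaf.stalk y) := (Models.stalkHom R Y y).toAlgebra;
       letI : Algebra R (Y.left.residueField y) := ((Y.left.residue y).hom.comp (Models.stalkHom R Y y)).toAlgebra;
        Module.length R (Y.left.presheaf.stalk y ⧸ IsLocalRing.maximalIdeal (Y.left.presheaf.stalk y) ^ (n + 1)) =
          Module.length R (Y.left.presheaf.stalk y ⧸ IsLocalRing.maximalIdeal (Y.left.presheaf.stalk y) ^ n) +
            ((n : ℤ) * -((Finset.univ : Finset (Fin r × Fin r)).sum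
                (fun p => (z p.1 : ℤ) * (z p.2 : ℤ) * ArSurf.inter R X (L p.2) (Γ p.1)))).toNat +
            Module.length R (Y.left.residueField y))

variable {R X}

theorem H1_quotMod {D : X.left.IdealSheafData}
    (h : Subsingleton (Coh.HH D.subscheme (Coh.structureModule D.subscheme) 1)) :
    Subsingleton (Coh.HH X.left (ClSub.quotMod D) 1) := by
  have hq : Coh.IsQCoh (Coh.structureModule D.subscheme) :=
    Ega2.QCohLocal.isQCoh_of_isInvertible Fdesc.LocGen.isInvertible_structureModule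
  obtain ⟨e⟩ := S0012.result D.subschemeι (Coh.structureModule D.subscheme) 1
  exact @Equiv.subsingleton _ _ e.symm.toEquiv h

/-- The connected case. -/
theorem connected (hTB : TB R X) (hX : ArSurf.IsArithSurface R X) {r : ℕ} (Γ : Fin r → ArSurf.VertComp R X)
    (hΓ : Function.Injective fun i => Set.range ((Γ i).ι.base : (Γ i).curve.left → X.left))
    (L : Fin r → X.left.Modules) (hL : ∀ j, ClSub.IsInverseOf (L j) (ClSub.idealMod (Γ j).ι.ker))
    (hconn : _root_.IsConnected (⋃ i, Set.range ((Γ i).ι.base : (Γ i).curve.left → X.left)))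
    (hneg : ∀ a : Fin r → ℤ, a ≠ 0 →
      (Finset.univ : Finset (Fin r × Fin r)).sum (fun p => a p.1 * a p.2 * ArSurf.inter R X (L p.2) (Γ p.1)) < 0)
    (htwo : ∀ i, Models.h1 R X (Γ i) = 0 ∧ ArSurf.inter R X (L i) (Γ i) = -2 * (Models.wdeg R X (Γ i) : ℤ))
    (Y : Over (Spec (CommRingCat.of R))) (f : X ⟶ Y)
    (hYint : IsIntegral Y.left) (hYnor : ∀ q : Y.left, IsIntegrallyClosed (Y.left.presheaf.stalk q))
    (hYdim : topologicalKrullDim Y.left = 2) (hYfl : Flat Y.hom) (hYpr : Neron.IsProjectiveOver R Y)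
    (y : Y.left) (hy : f.left.base '' (⋃ i, Set.range (Γ i).ι.base) = {y})
    (hfpre : f.left.base ⁻¹' {y} = ⋃ i, Set.range (Γ i).ι.base)
    (hfiso : ∀ V : Y.left.Opens, y ∉ V → IsIso (f.left ∣_ V)) :
    Module.finrank (IsLocalRing.ResidueField (Y.left.presheaf.stalk y))
        (IsLocalRing.CotangentSpace (Y.left.presheaf.stalk y)) = 3 := by
  have hpX : IsProper X.hom := Groth.Agent.Dix.InterSurf.isProper_hom hX
  have hpY : IsProper Y.hom := Dix.GenFibre.isProper_of_isProjectiveOver hYpr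
  have hNY : IsLocallyNoetherian Y.left := LocallyOfFiniteType.isLocallyNoetherian Y.hom
  obtain ⟨z, hz1, hz, hmin⟩ := FundCyc.exists_fundamental (fun i j => ArSurf.inter R X (L j) (Γ i)) hneg
    (fun i j hij => K479.Artin.inter_nonneg (Γ i) (Γ j) (fun h => hij (hΓ h)) (hL j))
  obtain ⟨h1, h2⟩ := hTB Γ hΓ L hL hconn hneg (fun a _ => hb hX Γ L hL hneg htwo a) z hz1 hz hmin Y f hYint hYnor
    hYdim hYfl hYpr y hy hfpre hfiso
  have h3 := h2 1 le_rfl
  obtain ⟨hgood, hchi⟩ := chi_eq hX Γ L hL htwo z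
  have hH1 := H1_quotMod (hb hX Γ L hL hneg htwo z).1
  let ℓ := Models.lengthH R X (ClSub.quotMod (∏ j, (Γ j).ι.ker ^ z j)) 0
  have hchi' : EulerLen.chi R (ClSub.quotMod (∏ j, (Γ j).ι.ker ^ z j)) = ℓ := by
    unfold EulerLen.chi
    have : Module.length R (Coh.HH X.left (ClSub.quotMod (∏ j, (Γ j).ι.ker ^ z j)) 1) = 0 :=
      Module.length_eq_zero_iff.2 hH1
    rw [this]
    simp [ℓ, Models.lengthH]
  rw [hchi'] at hchi
  letI : Algebra R (Y.left.presheaf.stalk y) := (Models.stalkHom R Y y).toAlgebra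
  have hκ : Module.length R (IsLocalRing.ResidueField (Y.left.presheaf.stalk y)) = (ℓ : ℕ∞) := h1
  have hm : Module.length R (Y.left.presheaf.stalk y ⧸ IsLocalRing.maximalIdeal (Y.left.presheaf.stalk y) ^ 1) =
      (ℓ : ℕ∞) := by
    rw [← hκ]
    have e : (Y.left.presheaf.stalk y ⧸ IsLocalRing.maximalIdeal (Y.left.presheaf.stalk y) ^ 1) ≃ₗ[R]
        (Y.left.presheaf.stalk y ⧸ IsLocalRing.maximalIdeal (Y.left.presheaf.stalk y)) :=
      (Ideal.quotientEquivAlgOfEq R (pow_one _)).toLinearEquiv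
    exact e.length_eq
  have hℓ : 0 < ℓ := by
    rcases Nat.eq_zero_or_pos ℓ with h | h
    · rw [h, Nat.cast_zero, Module.length_eq_zero_iff] at hκ
      exact absurd hκ (not_subsingleton _)
    · exact h
  have h4 := CotLen.finrank_eq (R := R) (A := Y.left.presheaf.stalk y) (2 * ℓ) ℓ hκ hm (by
    have h5 : (((1 : ℕ) : ℤ) * -((Finset.univ : Finset (Fin r × Fin r)).sum
        (fun p => (z p.1 : ℤ) * (z p.2 : ℤ) * ArSurf.inter R X (L p.2) (Γ p.1)))).toNat = 2 * ℓ := by
      rw [← hchi]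
      push_cast
      omega
    rw [h5] at h3
    exact h3)
  have h6 : (Module.finrank (IsLocalRing.ResidueField (Y.left.presheaf.stalk y))
        (IsLocalRing.CotangentSpace (Y.left.presheaf.stalk y))) * ℓ = 3 * ℓ := by rw [h4]; ring
  exact Nat.eq_of_mul_eq_mul_right hℓ h6

end K480.MinusTwoMain
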