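import Groth.Agent.ArSurf.K480.ExcAdj
import Groth.Agent.Models.H53.NoMinus
import Groth.Agent.Models.H51.RelMin
import Groth.Agent.Models.H49.ExcIff
import Groth.Agent.Dix.EtMin25F

/-!
# Relative minimality and nefness of the canonical sheaf (helper480, S13321)
-/

set_option autoImplicit false
universe u

open CategoryTheory CategoryTheory.Limits AlgebraicGeometry Opposite TopologicalSpace

namespace K480.NefMin

open Groth.Agent K480.AdjNum K480.ExcAdj

variable {R : Type u} [CommRing R] [IsDomain R] [IsDiscreteValuationRing R]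
variable {X : Over (Spec (CommRingCat.of R))}

/-- `O_X(E)` exists for a vertical prime divisor `E`. -/
theorem exists_inverse (hX : ArSurf.IsArithSurface R X) (E : ArSurf.VertComp R X) :
    ∃ L : X.left.Modules, ClSub.IsInverseOf L (ClSub.idealMod E.ι.ker) := by
  have hXi := hX.2.1
  have hXf := hX.2.2.2.1
  have hpX : IsProper X.hom := Groth.Agent.Dix.InterSurf.isProper_hom hX
  have hNX := Dix.SurfBasic.isNoetherian hX
  obtain ⟨n, Δ, hΔ⟩ := NegDef.exists_componentList hXi hX.2.2.1 hXf hpX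
  obtain ⟨k, hk⟩ := NegDef.exists_ker_eq hΔ E
  have hE : BlowUp.IsEffCartierIdeal E.ι.ker := by
    rw [hk]
    exact Models.H36.FibreFact.isEffCartier_ker (X := X) hX.1 (Δ k)
      (Models.H36.FibreFact.range_mem_fibreComponents hΔ k)
  have hIi := Dix.IdealModCartier.isInvertible_idealMod hE
  obtain ⟨M, hM, ⟨e⟩⟩ := Groth.Agent.Grpsch.PicGrp.exists_inverse hIi
  refine ⟨M, ?_⟩
  have h1 : Groth.Agent.Grpsch.PicGrp.mk _ hIi * Groth.Agent.Grpsch.PicGrp.mk M hM = 1 := by
    rw [Groth.Agent.Grpsch.PicGrp.mk_mul_mk, Groth.Agent.Grpsch.PicGrp.mk_eq_one_iff]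
    exact ⟨e⟩
  rw [mul_comm, Groth.Agent.Grpsch.PicGrp.mk_mul_mk, Groth.Agent.Grpsch.PicGrp.mk_eq_one_iff] at h1
  exact h1

theorem isExcCurve_of_exc (hX : ArSurf.IsArithSurface R X) (E : ArSurf.VertComp R X) (L : X.left.Modules)
    (hL : ClSub.IsInverseOf L (ClSub.idealMod E.ι.ker)) (h : Exc E L) : Models.IsExcCurve E.ι := by
  have hpX : IsProper X.hom := Groth.Agent.Dix.InterSurf.isProper_hom hX
  obtain ⟨k', _, _, hfin, e, he, hself⟩ := h
  obtain ⟨h1, h0⟩ := finrank_P1 (IsLocalRing.ResidueField R) k' E.curve.left e he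
  refine (Models.H49.ExcIff.isExcCurve_iff hpX E hL).2 ⟨h1, ?_⟩
  rw [hself, ← h0]
  rfl

theorem isRelMinimal_iff (hX : ArSurf.IsArithSurface R X)
    (hg : FGA.eulerCharLE (FractionRing R) ((Neron.genericFibre R).obj X).left
      (Coh.structureModule ((Neron.genericFibre R).obj X).left) 1 ≤ 0)
    (ω : X.left.Modules) (hadj : Adj R X ω) :
    Neron.IsRelMinimalRegularModel R X ↔ ∀ C : ArSurf.VertComp R X, 0 ≤ ArSurf.inter R X ω C := by
  have hpX : IsProper X.hom := Groth.Agent.Dix.InterSurf.isProper_hom hX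
  constructor
  · intro hmin C
    by_contra hcon
    push Not at hcon
    obtain ⟨L, hL⟩ := exists_inverse hX C
    exact Models.H51.RelMin.not_isExcCurve_of_isRelMinimal hX hmin C.ι
      (isExcCurve_of_exc hX C L hL (exc_of_genus_pos hX hg C L hL ω hadj hcon))
  · intro hnef
    refine Dix.EtMin25F.isRelMinimal_of_isEmpty hX (Models.H53.NoMinus.isEmpty_minusCurve fun Γ hΓ => ?_)
    obtain ⟨L, hL⟩ := exists_inverse hX Γ
    obtain ⟨h1, h2⟩ := (Models.H49.ExcIff.isExcCurve_iff hpX Γ hL).1 hΓ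
    have h3 := hadj Γ L hL
    rw [euler_eq, h1, h2] at h3
    have h4 := hnef Γ
    have h5 : (0 : ℤ) < Models.wdeg R X Γ := by exact_mod_cast wdeg_pos hX Γ
    push_cast at h3
    linarith

end K480.NefMin
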