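import Groth.Agent.ArSurf.K480.NegDef
import Groth.Agent.Models.H43.MultPos

/-!
# Negative definiteness, main statement (helper480)
-/

set_option autoImplicit false
universe u

open CategoryTheory CategoryTheory.Limits AlgebraicGeometry IsLocalRing TopologicalSpace

namespace K480.NegDef

variable {R : Type u} [CommRing R] [IsDomain R] [IsDiscreteValuationRing R] {X Y : Over (Spec (CommRingCat.of R))}

/-- The topological input: if the closed fibre is the disjoint union of two closed sets one of which is nonempty and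
contracted to `y`, we get a contradiction. -/
theorem false_of_clopen (f : X.left ⟶ Y.left) (hf : f ≫ Y.hom = X.hom) (hfp : IsProper f)
    (hsurj : Function.Surjective f) (y : Y.left)
    (hconn : _root_.IsConnected (f ⁻¹' {y})) (hys : Y.hom y = (closedPoint R : PrimeSpectrum R))
    {w : Y.left} (hw : w ⤳ y) (hwy : w ≠ y) (hws : Y.hom w = (closedPoint R : PrimeSpectrum R))
    {A B : Set X.left} (hA : IsClosed A) (hB : IsClosed B) (hAB : Disjoint A B)
    (hcov : ∀ x : X.left, X.hom x = (closedPoint R : PrimeSpectrum R) → x ∈ A ∪ B) (hne : A.Nonempty)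
    (hAy : A ⊆ f ⁻¹' {y}) : False := by
  have hfib : f ⁻¹' {y} ⊆ A ∪ B := by
    intro x hx
    apply hcov
    have hx' : f x = y := hx
    rw [← hf, Scheme.Hom.comp_apply, hx', hys]
  have h1 : ¬ ((f ⁻¹' {y}) ∩ B).Nonempty := by
    intro h2
    have h3 := isPreconnected_closed_iff.1 hconn.isPreconnected A B hA hB hfib (by
      obtain ⟨a, ha⟩ := hne
      exact ⟨a, hAy ha, ha⟩) h2
    obtain ⟨z, -, hz1, hz2⟩ := h3
    exact Set.disjoint_left.1 hAB hz1 hz2
  obtain ⟨x, hx⟩ := hsurj w
  have hx' : x ∈ A ∪ B := hcov x (by rw [← hf, Scheme.Hom.comp_apply, hx, hws])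
  rcases hx' with hxA | hxB
  · have h4 : f x = y := hAy hxA
    exact hwy (hx.symm.trans h4)
  · have h5 : IsClosed (f '' closure {x}) := f.isClosedMap _ isClosed_closure
    have h6 : y ∈ f '' closure {x} := hw.mem_closed h5 ⟨x, subset_closure rfl, hx⟩
    obtain ⟨x', hx', hfx'⟩ := h6
    exact h1 ⟨x', hfx', closure_minimal (Set.singleton_subset_iff.2 hxB) hB hx'⟩

theorem main (hX : ArSurf.IsArithSurface R X) [IsIntegral Y.left]
    (hnor : ∀ q : Y.left, IsIntegrallyClosed (Y.left.presheaf.stalk q))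
    (hdimY : topologicalKrullDim Y.left = 2) [Flat Y.hom] (hpY : IsProper Y.hom)
    (f : X ⟶ Y) (hbir : ∃ U : Y.left.Opens, (U : Set Y.left).Nonempty ∧ IsIso (f.left ∣_ U))
    (y : Y.left) (hy : IsClosed ({y} : Set Y.left))
    {r : ℕ} (Γ : Fin r → ArSurf.VertComp R X)
    (hΓ : Function.Injective fun i => Set.range ((Γ i).ι.base : (Γ i).curve.left → X.left))
    (hΓy : ∀ i, Set.range (((Γ i).ι ≫ f.left).base : (Γ i).curve.left → Y.left) = {y})
    (L : Fin r → X.left.Modules) (hL : ∀ j, ClSub.IsInverseOf (L j) (ClSub.idealMod (Γ j).ι.ker))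
    (x : Fin r → ℤ) (hx : x ≠ 0) :
    (Finset.univ : Finset (Fin r × Fin r)).sum (fun p => x p.1 * x p.2 * ArSurf.inter R X (L p.2) (Γ p.1)) < 0 := by
  classical
  have hXi := hX.2.1
  have hXf := hX.2.2.2.1
  have hpX : IsProper X.hom := Groth.Agent.Dix.InterSurf.isProper_hom hX
  have hNX : IsLocallyNoetherian X.left := LocallyOfFiniteType.isLocallyNoetherian X.hom
  have hNY : IsLocallyNoetherian Y.left := LocallyOfFiniteType.isLocallyNoetherian Y.hom
  have hfp : IsProper f.left := by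
    have : IsProper (f.left ≫ Y.hom) := by rw [Over.w]; exact hpX
    exact IsProper.of_comp f.left Y.hom
  have hb := K480.Bir.isBir_of_restrict f.left hbir
  obtain ⟨n, Δ, hΔ⟩ := exists_componentList hXi hX.2.2.1 hXf hpX
  choose σ hσ using fun i => exists_ker_eq hΔ (Γ i)
  have hσinj : Function.Injective σ := by
    intro i j hij
    apply hΓ
    have h1 : (Γ i).ι.ker = (Γ j).ι.ker := by rw [hσ i, hσ j, hij]
    exact range_eq_of_ker_eq h1
  -- inverse modules of the ideals of all the components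
  have heffΔ : ∀ k, BlowUp.IsEffCartierIdeal (Δ k).ι.ker := fun k =>
    Groth.Agent.Models.H36.FibreFact.isEffCartier_ker (X := X) hX.1 (Δ k)
      (Groth.Agent.Models.H71.Comps.rg_mem hΔ k)
  have hIi : ∀ k, PicF.IsInvertible (ClSub.idealMod (Δ k).ι.ker) := fun k =>
    Groth.Agent.Dix.IdealModCartier.isInvertible_idealMod (heffΔ k)
  have hM' : ∀ k, ∃ M : X.left.Modules, ClSub.IsInverseOf M (ClSub.idealMod (Δ k).ι.ker) := by
    intro k
    obtain ⟨M, hM, ⟨e⟩⟩ := Groth.Agent.Grpsch.PicGrp.exists_inverse (hIi k)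
    refine ⟨M, ?_⟩
    have h1 : Groth.Agent.Grpsch.PicGrp.mk _ (hIi k) * Groth.Agent.Grpsch.PicGrp.mk M hM = 1 := by
      rw [Groth.Agent.Grpsch.PicGrp.mk_mul_mk, Groth.Agent.Grpsch.PicGrp.mk_eq_one_iff]
      exact ⟨e⟩
    rw [mul_comm, Groth.Agent.Grpsch.PicGrp.mk_mul_mk, Groth.Agent.Grpsch.PicGrp.mk_eq_one_iff] at h1
    exact h1
  choose M hM using hM'
  have hMi : ∀ k, PicF.IsInvertible (M k) := fun k =>
    (Groth.Agent.Dix.IdealModCartier.isInvertible_of_isInverseOf (hM k)).1
  let a : Fin n → Fin n → ℤ := fun k l => ArSurf.inter R X (M l) (Δ k)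
  have hsymm : ∀ k l, a k l = a l k := fun k l =>
    Groth.Agent.Models.H65.InterForm.symm (X := X) hX.1 hΔ hM k l
  have hinter : ∀ i j, ArSurf.inter R X (L j) (Γ i) = a (σ i) (σ j) := by
    intro i j
    have hLi := (Groth.Agent.Dix.IdealModCartier.isInvertible_of_isInverseOf (hL j)).1
    rw [inter_congr_ker (hσ i) hLi]
    have h1 : ClSub.IsInverseOf (L j) (ClSub.idealMod (Δ (σ j)).ι.ker) := by
      rw [← hσ j]; exact hL j
    have h2 := Groth.Agent.Models.H65.PicDeg.mk_of_isInverseOf hLi (hIi (σ j)) h1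
    have h3 := Groth.Agent.Models.H65.PicDeg.mk_of_isInverseOf (hMi (σ j)) (hIi (σ j)) (hM (σ j))
    obtain ⟨e⟩ := (Groth.Agent.Grpsch.PicGrp.mk_eq_iff hLi (hMi (σ j))).1 (h2.trans h3.symm)
    exact Groth.Agent.Models.H65.PicDeg.inter_congr e _
  -- extension by zero
  let z : Fin n → ℤ := fun k => ∑ i, if σ i = k then x i else 0
  have hzσ : ∀ i, z (σ i) = x i := by
    intro i
    simp only [z]
    rw [Finset.sum_eq_single i]
    · simp
    · intro j _ hji
      rw [if_neg (fun h => hji (hσinj h))]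
    · intro h; exact absurd (Finset.mem_univ i) h
  have hz0 : ∀ k, z k ≠ 0 → ∃ i, σ i = k := by
    intro k hk
    by_contra hcon
    push Not at hcon
    exact hk (Finset.sum_eq_zero fun i _ => if_neg (hcon i))
  have hsum : (Finset.univ : Finset (Fin r × Fin r)).sum
      (fun p => x p.1 * x p.2 * ArSurf.inter R X (L p.2) (Γ p.1)) = ∑ k, ∑ l, z k * z l * a k l := by
    rw [← Finset.univ_product_univ, Finset.sum_product]
    have h1 : ∀ F : Fin n → ℤ, (∀ k, (¬ ∃ i, σ i = k) → F k = 0) → ∑ k, F k = ∑ i, F (σ i) := by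
      intro F hF
      rw [← Finset.sum_image (s := Finset.univ) (g := σ) (f := F) (fun i _ j _ h => hσinj h)]
      symm
      refine Finset.sum_subset (Finset.subset_univ _) fun k _ hk => hF k ?_
      rintro ⟨i, rfl⟩
      exact hk (Finset.mem_image_of_mem σ (Finset.mem_univ i))
    have hzk : ∀ k, (¬ ∃ i, σ i = k) → z k = 0 := fun k hk => by
      by_contra h
      exact hk (hz0 k h)
    rw [h1 _ (fun k hk => Finset.sum_eq_zero fun l _ => by rw [hzk k hk]; ring)]
    refine Finset.sum_congr rfl fun i _ => ?_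
    rw [h1 _ (fun l hl => by rw [hzk l hl]; ring)]
    refine Finset.sum_congr rfl fun j _ => ?_
    rw [hinter, hzσ, hzσ]
  rw [hsum]
  by_contra hcon
  push Not at hcon
  have hmpos : ∀ k, (0 : ℤ) < (Models.mult R X (Δ k) : ℤ) := fun k => by
    exact_mod_cast Groth.Agent.Models.H43.MultPos.mult_pos_of_isComponentList Δ hΔ k
  have hkey := eq_of_quad a (fun k => (Models.mult R X (Δ k) : ℤ)) hmpos hsymm
    (fun k l hkl => Groth.Agent.Models.H65.InterForm.nonneg (X := X) hX.1 hΔ hM hkl)
    (fun l => Groth.Agent.Models.H65.InterForm.sum_mult (X := X) hX.1 hΔ hM l) z hcon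
  -- the support of `z` and its complement
  let A : Set X.left := ⋃ k ∈ {k | z k ≠ 0}, Set.range ((Δ k).ι.base : (Δ k).curve.left → X.left)
  let B : Set X.left := ⋃ k ∈ {k | z k = 0}, Set.range ((Δ k).ι.base : (Δ k).curve.left → X.left)
  have hcl : ∀ k, IsClosed (Set.range ((Δ k).ι.base : (Δ k).curve.left → X.left)) := fun k =>
    Groth.Agent.Models.H71.Comps.isClosed_rg (Δ k)
  have hA : IsClosed A := (Set.toFinite _).isClosed_biUnion fun k _ => hcl k
  have hB : IsClosed B := (Set.toFinite _).isClosed_biUnion fun k _ => hcl k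
  have hdisj : ∀ k l, z k ≠ 0 → z l = 0 → Disjoint (Set.range ((Δ k).ι.base : (Δ k).curve.left → X.left))
      (Set.range ((Δ l).ι.base : (Δ l).curve.left → X.left)) := by
    intro k l hk hl
    have hkl : k ≠ l := by
      rintro rfl
      exact hk hl
    rw [← Groth.Agent.Models.H65.InterForm.eq_zero_iff (X := X) hX.1 hΔ hM hkl]
    by_contra hne
    have h1 := hkey k l hkl hne
    rw [hl, zero_mul] at h1
    rcases mul_eq_zero.1 h1 with h | h
    · exact hk h
    · exact (hmpos l).ne' h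
  have hAB : Disjoint A B := by
    rw [Set.disjoint_left]
    intro p hp hp'
    simp only [A, B, Set.mem_iUnion] at hp hp'
    obtain ⟨k, hk, hp⟩ := hp
    obtain ⟨l, hl, hp'⟩ := hp'
    exact Set.disjoint_left.1 (hdisj k l hk hl) hp hp'
  have hx' : ∃ i, x i ≠ 0 := by
    by_contra h
    push Not at h
    exact hx (funext h)
  obtain ⟨i₀, hi₀⟩ := hx'
  have hrange : ∀ i, Set.range ((Δ (σ i)).ι.base : (Δ (σ i)).curve.left → X.left) =
      Set.range ((Γ i).ι.base : (Γ i).curve.left → X.left) := fun i => (range_eq_of_ker_eq (hσ i)).symm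
  have hcontr : ∀ i, ∀ p ∈ Set.range ((Γ i).ι.base : (Γ i).curve.left → X.left), f.left p = y := by
    rintro i _ ⟨q, rfl⟩
    have h1 : ((Γ i).ι ≫ f.left).base q ∈ Set.range (((Γ i).ι ≫ f.left).base : (Γ i).curve.left → Y.left) := ⟨q, rfl⟩
    rw [hΓy i] at h1
    exact h1
  have hAne : A.Nonempty := by
    refine ⟨(Δ (σ i₀)).ι.base (genericPoint _), ?_⟩
    simp only [A, Set.mem_iUnion]
    exact ⟨σ i₀, by change z (σ i₀) ≠ 0; rw [hzσ]; exact hi₀, ⟨_, rfl⟩⟩
  have hAy : A ⊆ f.left ⁻¹' {y} := by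
    intro p hp
    simp only [A, Set.mem_iUnion] at hp
    obtain ⟨k, hk, hp⟩ := hp
    obtain ⟨i, rfl⟩ := hz0 k hk
    rw [hrange] at hp
    exact hcontr i p hp
  have hcov : ∀ p : X.left, X.hom p = (closedPoint R : PrimeSpectrum R) → p ∈ A ∪ B := by
    intro p hp
    obtain ⟨k, hk⟩ := (Groth.Agent.Models.H71.Comps.mem_specialFibreSet_iff hΔ p).1 hp
    by_cases hzk : z k = 0
    · right
      simp only [B, Set.mem_iUnion]
      exact ⟨k, hzk, hk⟩
    · left
      simp only [A, Set.mem_iUnion]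
      exact ⟨k, hzk, hk⟩
  have hys : Y.hom y = (closedPoint R : PrimeSpectrum R) := by
    obtain ⟨p, hp⟩ := hAne
    have h1 : f.left p = y := hAy hp
    have h2 : X.hom p = (closedPoint R : PrimeSpectrum R) := by
      simp only [A, Set.mem_iUnion] at hp
      obtain ⟨k, hk, hp⟩ := hp
      exact Groth.Agent.Models.H71.Comps.rg_subset (Δ k) hp
    rw [← h1, ← Scheme.Hom.comp_apply, Over.w, h2]
  have hdy : ringKrullDim (Y.left.presheaf.stalk y) = 2 := by
    refine SurfDim.ringKrullDim_stalk_eq_two hdimY y hy ?_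
    rw [hys]
    exact IsDiscreteValuationRing.not_a_field R
  obtain ⟨w, hw, hwy, hws⟩ := exists_vertical_generization Y y hdy hys
  exact false_of_clopen f.left (Over.w f) hfp (Groth.Agent.Dix.ExcPts.surjective f.left hb) y
    (Rigid.isConnected_fibre hnor f.left hb y) hys hw hwy hws hA hB hAB hcov hAne hAy

end K480.NegDef
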