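import Groth.Agent.Dix.CastMain
import Groth.Agent.Dix.PointIdeal
import Groth.Agent.Ega1.AmpFamBlow
import Groth.Agent.Fga.CounitRestrict
import Groth.Agent.S3222
import Groth.Agent.S3223
import Groth.Agent.S0051
import Groth.Agent.S1682
import Groth.Agent.Ega2.QCohLocal
import Groth.Agent.ArSurf.K480.ExcRec

/-!
# Descent of invertible modules along the blow-up of a closed regular point

* `exists_gen_nhd`: an invertible module on the blow-up which is trivial on the exceptional projective line is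
  trivial over the preimage of a neighbourhood of the centre;
* `exists_descent`, `iso_of_pullback_iso`.
-/

set_option autoImplicit false
set_option backward.isDefEq.respectTransparency false
universe u

open CategoryTheory CategoryTheory.Limits AlgebraicGeometry Opposite TopologicalSpace

namespace K480.PicBlow

open Groth.Agent Groth.Agent.Dix.PointIdeal Groth.Agent.Fdesc.LocGen Groth.Agent.Grpsch.PicGrp
open Groth.Agent.Dix.CastPic Groth.Agent.Dix.CastLift Groth.Agent.Dix.CastMain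

/-- Twist induction, downwards. -/
theorem V1_down {k : Type u} [Field k] {X : Scheme.{u}} (ι : CohB1.ProjSpace 1 k ⟶ X) [IsClosedImmersion ι]
    (heff : BlowUp.IsEffCartierIdeal ι.ker) (hI : pull ι (idc ι heff) = o k 1) (c : Pic X)
    (hc : pull ι c = 1) (n : ℕ) (h : V1 (c * idc ι heff ^ (n + 1))) : V1 (c * idc ι heff) := by
  induction n with
  | zero => simpa using h
  | succ n ih =>
    refine ih (V1_step ι heff _ ((n : ℤ) + 1) (by omega) ?_ ?_)
    · rw [map_mul, map_pow, hc, hI, one_mul, o_pow]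
      congr 1; push_cast; ring
    · rwa [mul_assoc, ← pow_succ]

theorem mk_restrict {A X : Scheme.{u}} (j : A ⟶ X) [IsOpenImmersion j] {L : X.Modules}
    (hL : PicF.IsInvertible L) :
    mk (L.restrict j) (Groth.Agent.Ega1.AmpFamBlow.isInvertible_restrict j hL) = pull j (mk L hL) := by
  rw [pull_mk]
  exact mk_congr ((Scheme.Modules.restrictFunctorIsoPullback j).app L)

theorem exists_gen_nhd {X Y : Scheme.{u}} (f : X ⟶ Y) [IsProper f] [IsLocallyNoetherian Y] (y : Y)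
    (hy : IsClosed ({y} : Set Y)) (hf : BlowUp.IsBlowUp f (pt y hy)) {k : Type u} [Field k]
    (ι : CohB1.ProjSpace 1 k ⟶ X) [IsClosedImmersion ι] (hker : ι.ker = (pt y hy).comap f)
    (heff : BlowUp.IsEffCartierIdeal ι.ker) (hI : pull ι (idc ι heff) = o k 1) (F : X.Modules)
    (hF : PicF.IsInvertible F) (h1 : pull ι (mk F hF) = 1) :
    ∃ (V : Y.Opens) (m : Γ(F, f ⁻¹ᵁ V)), y ∈ V ∧ IsGen m := by
  obtain ⟨V₀, hV₀, hyV₀, -⟩ := exists_isAffineOpen_mem_and_subset (U := (⊤ : Y.Opens)) (x := y) trivial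
  have hrange : Set.range ι = f ⁻¹' {y} := by
    have h1 : Set.range ι = (ι.ker.support : Set X) := by
      rw [Scheme.Hom.support_ker, ι.isClosedEmbedding.isClosed_range.closure_eq]
    rw [h1, hker, Scheme.IdealSheafData.support_comap]
    ext x
    change f x ∈ (pt y hy).support ↔ _
    rw [mem_support_pt]
    rfl
  have hsub : Set.range ι ⊆ (f ⁻¹ᵁ V₀ : Set X) := by
    rw [hrange]
    intro x hx
    have hx' : f x = y := hx
    change f x ∈ V₀
    rw [hx']
    exact hyV₀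
  obtain ⟨ι', rfl, hc⟩ := exists_factor ι (f ⁻¹ᵁ V₀) hsub
  obtain ⟨heff', hid⟩ := Groth.Agent.Dix.Cast5.pull_idc (f ⁻¹ᵁ V₀).ι ι' heff
  have hid' : pull (f ⁻¹ᵁ V₀).ι (idc (ι' ≫ (f ⁻¹ᵁ V₀).ι) heff) = idc ι' heff' := hid
  have hI' : pull ι' (idc ι' heff') = o k 1 := by
    rw [← hid', ← pull_comp]; exact hI
  have hinv := (Groth.Agent.Dix.IdealModCartier.isInvertible_idealMod_iff _).2 heff
  have hA : CohB1.IsAmple ((ClSub.idealMod (ι' ≫ (f ⁻¹ᵁ V₀).ι).ker).restrict (f ⁻¹ᵁ V₀).ι) := by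
    rw [hker]
    exact Groth.Agent.Ega1.AmpFamBlow.isAmple_restrict hf ⟨V₀, hV₀⟩ _ rfl
  have : IsAffine V₀ := hV₀
  have hnoe : IsNoetherianRing Γ((V₀ : Scheme.{u}), ⊤) :=
    IsLocallyNoetherian.component_noetherian ⟨⊤, isAffineOpen_top (V₀ : Scheme.{u})⟩
  let p₁ : ((f ⁻¹ᵁ V₀ : X.Opens) : Scheme.{u}) ⟶
      Spec (CommRingCat.of Γ((V₀ : Scheme.{u}), ⊤)) := (f ∣_ V₀) ≫ (V₀ : Scheme.{u}).isoSpec.hom
  have hp₁ : IsProper p₁ := inferInstanceAs (IsProper ((f ∣_ V₀) ≫ (V₀ : Scheme.{u}).isoSpec.hom))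
  have hF' := Groth.Agent.Ega1.AmpFamBlow.isInvertible_restrict (f ⁻¹ᵁ V₀).ι hF
  obtain ⟨n₀, hn₀⟩ := (Groth.Agent.S0051.result _ _ p₁ _ hA.1).mp hA (F.restrict (f ⁻¹ᵁ V₀).ι)
    (Groth.Agent.S2329.isCoh_of_isInvertible hF')
  have hAc : mk _ hA.1 = idc ι' heff' := by
    rw [← hid']
    exact mk_restrict _ hinv
  have hFc : pull ι' (mk _ hF') = 1 := by
    rw [← h1, pull_comp]
    congr 1
    exact mk_restrict _ hF
  have hV : V1 (mk _ hF' * idc ι' heff' ^ (n₀ + 1)) := by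
    rw [← hAc, ← mk_tensorPow hA.1, mk_mul_mk, V1_mk]
    exact hn₀ (n₀ + 1) (by omega) 1 one_pos
  have hV' := V1_down ι' heff' hI' _ hFc n₀ hV
  obtain ⟨t, ht⟩ := exists_gen ι' heff' _ hF' hV' hFc
  obtain ⟨Y₁, hY₁, hyY₁, hle, hleG⟩ := exists_affine_nhd f y ((f ⁻¹ᵁ V₀).ι ''ᵁ CohB1.genLocus _ t) (by
    intro x hx
    have hx' : x ∈ Set.range (ι' ≫ (f ⁻¹ᵁ V₀).ι) := by rw [hrange]; exact hx
    obtain ⟨a, rfl⟩ := hx'
    exact ⟨ι' a, ht ⟨a, rfl⟩, rfl⟩) V₀ hyV₀
  have hg := isGen_sec_genLocus t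
  obtain ⟨m, hm⟩ := (toRestrict (M := F) (f ⁻¹ᵁ V₀).ι (U := CohB1.genLocus _ t)).surjective
    (sec t (CohB1.genLocus _ t))
  rw [← hm, isGen_toRestrict_iff] at hg
  exact ⟨Y₁, res F hleG m, hyY₁, hg.res hleG⟩

/-- A module on `X` generated by one section over the preimages of the opens of a covering of `Y`. -/
theorem exists_descent {X Y : Scheme.{u}} (f : X ⟶ Y) (hO : ∀ U : Y.Opens, IsIso (f.app U)) (F : X.Modules)
    (key : ∀ t : Y, ∃ (W : Y.Opens) (m : Γ(F, f ⁻¹ᵁ W)), t ∈ W ∧ IsGen m) :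
    ∃ L : Y.Modules, PicF.IsInvertible L ∧ Nonempty ((Scheme.Modules.pullback f).obj L ≅ F) := by
  have hb : ∀ U : Y.Opens, Function.Bijective (f.app U) := fun U =>
    ConcreteCategory.bijective_of_isIso (f.app U)
  have hc : IsIso ((Scheme.Modules.pullbackPushforwardAdjunction f).counit.app F) := by
    refine Fga.CounitRestrict.isIso_counit_of_locally_trivial _ hb F fun t => ?_
    obtain ⟨W, m, ht, hm⟩ := key t
    exact ⟨W, ht, Groth.Agent.S3223.trivial_of_isGen hm⟩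
  refine ⟨(Scheme.Modules.pushforward f).obj F, ?_, ⟨asIso ((Scheme.Modules.pullbackPushforwardAdjunction f).counit.app F)⟩⟩
  rw [isInvertible_iff]
  intro t
  obtain ⟨W, m, ht, hm⟩ := key t
  exact ⟨W, m, ht, Groth.Agent.S3223.isGen_push _ hb m hm⟩

/-- Generators over an open where `f` is an isomorphism. -/
theorem exists_gen_of_iso {X Y : Scheme.{u}} (f : X ⟶ Y) (V : Y.Opens) [IsIso (f ∣_ V)] (F : X.Modules)
    (hF : PicF.IsInvertible F) (t : Y) (ht : t ∈ V) :
    ∃ (W : Y.Opens) (m : Γ(F, f ⁻¹ᵁ W)), t ∈ W ∧ IsGen m := by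
  obtain ⟨x, hx⟩ : ∃ x : (f ⁻¹ᵁ V : X.Opens), (f ∣_ V) x = ⟨t, ht⟩ := (f ∣_ V).surjective _
  have hfx : f x.1 = t := by
    have h1 := congrArg V.ι hx
    rw [← Scheme.Hom.comp_apply, morphismRestrict_ι] at h1
    exact h1
  obtain ⟨U, e, hxU, he⟩ := (isInvertible_iff F).1 hF x.1
  let U' : (f ⁻¹ᵁ V : X.Opens).toScheme.Opens := (f ⁻¹ᵁ V).ι ⁻¹ᵁ U
  let W' : (V : Scheme.{u}).Opens := (f ∣_ V) ''ᵁ U'
  have hW : f ⁻¹ᵁ (V.ι ''ᵁ W') ≤ U := by
    intro z hz
    obtain ⟨w, ⟨a, ha, haw⟩, hw⟩ := hz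
    have hzV : f z ∈ V := by
      rw [← show V.ι w = f z from hw]
      exact w.2
    have h2 : (f ∣_ V) ⟨z, hzV⟩ = w := by
      apply Subtype.ext
      have h3 : V.ι ((f ∣_ V) ⟨z, hzV⟩) = f z := by
        rw [← Scheme.Hom.comp_apply, morphismRestrict_ι]
        rfl
      exact h3.trans hw.symm
    have h4 : a = ⟨z, hzV⟩ := (f ∣_ V).isOpenEmbedding.injective (haw.trans h2.symm)
    have h5 : (f ⁻¹ᵁ V).ι a ∈ U := ha
    rw [h4] at h5
    exact h5
  exact ⟨V.ι ''ᵁ W', res F hW e, ⟨(f ∣_ V) x, ⟨x, hxU, rfl⟩, by rw [hx]; rfl⟩, he.res hW⟩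

end K480.PicBlow

namespace K480.PicBlow

open Groth.Agent Groth.Agent.Dix.PointIdeal Groth.Agent.Fdesc.LocGen Groth.Agent.Grpsch.PicGrp
open Groth.Agent.Dix.CastPic Groth.Agent.Dix.CastLift Groth.Agent.Dix.CastMain

/-- Pull-back is injective on isomorphism classes if `O_Y = f_* O_X`. -/
theorem iso_of_pullback_iso {X Y : Scheme.{u}} (f : X ⟶ Y) (hO : ∀ U : Y.Opens, IsIso (f.app U))
    {L M : Y.Modules} (hL : PicF.IsInvertible L) (hM : PicF.IsInvertible M)
    (h : Nonempty ((Scheme.Modules.pullback f).obj L ≅ (Scheme.Modules.pullback f).obj M)) : Nonempty (L ≅ M) := by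
  have hb : ∀ U : Y.Opens, Function.Bijective (f.app U) := fun U =>
    ConcreteCategory.bijective_of_isIso (f.app U)
  have hL' := Ega2.QCohLocal.isFinLocFree_of_rank (Ega2.QCohLocal.isFinLocFreeOfRank_one_iff.2 hL)
  have hM' := Ega2.QCohLocal.isFinLocFree_of_rank (Ega2.QCohLocal.isFinLocFreeOfRank_one_iff.2 hM)
  obtain ⟨e⟩ := h
  obtain ⟨a, ha⟩ := (Groth.Agent.S3222.result f hb L M hL' hM').2 e.hom
  obtain ⟨b, hb'⟩ := (Groth.Agent.S3222.result f hb M L hM' hL').2 e.inv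
  dsimp only at ha hb'
  refine ⟨⟨a, b, ?_, ?_⟩⟩
  · apply (Groth.Agent.S3222.result f hb L L hL' hL').1
    dsimp only
    rw [Functor.map_comp, ha, hb', e.hom_inv_id, CategoryTheory.Functor.map_id]
  · apply (Groth.Agent.S3222.result f hb M M hM' hM').1
    dsimp only
    rw [Functor.map_comp, ha, hb', e.inv_hom_id, CategoryTheory.Functor.map_id]

/-- **Exactness of `Pic Y → Pic X → Pic E`** for the blow-up of a closed regular point. -/
theorem exists_descent_blowUp {X Y : Scheme.{u}} (f : X ⟶ Y) [IsProper f] [IsLocallyNoetherian Y]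
    (hO : ∀ U : Y.Opens, IsIso (f.app U)) (y : Y)
    (hy : IsClosed ({y} : Set Y)) [IsRegularLocalRing (Y.presheaf.stalk y)]
    (hdim : ringKrullDim (Y.presheaf.stalk y) = 2) (hf : BlowUp.IsBlowUp f (pt y hy))
    {E : Scheme.{u}} (ι : E ⟶ X) [IsClosedImmersion ι] [IsReduced E] (hE : Set.range ι = f ⁻¹' {y})
    (F : X.Modules) (hF : PicF.IsInvertible F)
    (htriv : Nonempty ((Scheme.Modules.pullback ι).obj F ≅ Coh.structureModule E)) :
    ∃ L : Y.Modules, PicF.IsInvertible L ∧ Nonempty ((Scheme.Modules.pullback f).obj L ≅ F) := by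
  obtain ⟨i, hi, hker, ⟨ht⟩, hw⟩ := ExcCurve2.exists_curve' f y hy hdim hf
  have heff : BlowUp.IsEffCartierIdeal i.ker := by rw [hker]; exact hf.1
  have hrange : Set.range i = Set.range ι := by
    have h1 : Set.range i = (i.ker.support : Set X) := by
      rw [Scheme.Hom.support_ker, i.isClosedEmbedding.isClosed_range.closure_eq]
    rw [h1, hker, hE, Scheme.IdealSheafData.support_comap]
    ext x
    change f x ∈ (pt y hy).support ↔ _
    rw [mem_support_pt]
    rfl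
  obtain ⟨e, he⟩ := ExcRec.exists_iso_of_range_eq i ι hrange
  have h1 : pull i (mk F hF) = 1 := by
    rw [← he, pull_comp, pull_mk]
    obtain ⟨θ⟩ := htriv
    rw [(mk_eq_one_iff _).2 ⟨θ⟩, map_one]
  have hI : pull i (idc i heff) = o (Y.residueField y) 1 := by
    rw [idc, pull_mk]
    exact mk_congr ht
  refine exists_descent f hO F fun t => ?_
  by_cases hty : t = y
  · subst hty
    exact exists_gen_nhd f t hy hf i hker heff hI F hF h1
  · have := Groth.Agent.S1682.result (pt y hy) f hf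
    refine exists_gen_of_iso f (pt y hy).support.compl F hF t ?_
    intro h
    exact hty ((mem_support_pt y hy t).1 h)

end K480.PicBlow
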