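import Groth.Agent.ArSurf.K480.LiftDiv
import Groth.Agent.ArSurf.K480.GGCurve
import Groth.Agent.ArSurf.K480.NegDef
import Groth.Agent.ArSurf.K480.FinHor
import Groth.Agent.Models.H38.TrivGen
import Groth.Agent.CurvesB.SubH1
import Groth.Agent.CurvesB.SubClosed
import Groth.Agent.S0012
import Groth.Agent.Divis.CartierStalk
import Groth.Agent.Fga.UnitRestrict
import Groth.Agent.S2261
import Groth.Agent.Dix.SurfBasic
import Groth.Agent.Dix.IdealQuot
import Groth.Agent.Dix.InterSurf
import Groth.Agent.TopDim.K284.Basic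

/-!
# Global generation on vertical divisors with `H¹(O) = 0` and trivial `Pic⁰` (helper480, S7908)
-/

set_option autoImplicit false
set_option backward.isDefEq.respectTransparency false
universe u

open CategoryTheory CategoryTheory.Limits AlgebraicGeometry Opposite TopologicalSpace

namespace K480.VertGG

open Groth.Agent Groth.Agent.Divis.CartierBasic

/-- `H¹(O)` of a closed subscheme in dimension at most one. -/
theorem H1_structure {W X : Scheme.{u}} [IsNoetherian X] (hdim : topologicalKrullDim X ≤ 1) (g : W ⟶ X)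
    [IsClosedImmersion g] (h1 : Subsingleton (Coh.HH X (Coh.structureModule X) 1)) :
    Subsingleton (Coh.HH W (Coh.structureModule W) 1) := by
  have h2 := CurvesB.SubH1.hmap_one_surjective_of_epi hdim (CurvesB.SubClosed.unitι g (Coh.structureModule X))
  have h3 := @Function.Surjective.subsingleton _ _ _ h1 h2
  have hi : PicF.IsInvertible ((Scheme.Modules.pullback g).obj (Coh.structureModule X)) :=
    Fdesc.LocGen.isInvertible_pullback g Fdesc.LocGen.isInvertible_structureModule
  have hq : Coh.IsQCoh ((Scheme.Modules.pullback g).obj (Coh.structureModule X)) :=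
    Ega2.QCohLocal.isQCoh_of_isInvertible hi
  obtain ⟨e⟩ := S0012.result g ((Scheme.Modules.pullback g).obj (Coh.structureModule X)) 1
  have h4 : Subsingleton (Coh.HH W ((Scheme.Modules.pullback g).obj (Coh.structureModule X)) 1) :=
    @Equiv.subsingleton _ _ e.toEquiv h3
  exact Flat2F.HHSeq.subsingleton_HH_of_iso (Fga.UnitRestrict.pullbackUnitIso g) 1 h4

/-- Nonzerodivisors modulo a power of a prime element. -/
theorem mem_nonZeroDivisors {A B : Type*} [CommRing A] [IsDomain A] [CommRing B] (φ : A →+* B)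
    (hφ : Function.Surjective φ) {π : A} (hπ : Prime π) (c : ℕ) (hker : RingHom.ker φ = Ideal.span {π} ^ c)
    (t : A) (ht : ¬ π ∣ t) : φ t ∈ nonZeroDivisors B := by
  rw [mem_nonZeroDivisors_iff_right]
  intro b hb
  obtain ⟨b, rfl⟩ := hφ b
  rw [← map_mul, ← RingHom.mem_ker, hker, Ideal.span_singleton_pow, Ideal.mem_span_singleton] at hb
  have h1 := hπ.pow_dvd_of_dvd_mul_right c ht hb
  rw [← RingHom.mem_ker, hker, Ideal.span_singleton_pow, Ideal.mem_span_singleton]
  exact h1

/-- Closed subsets of a curve not containing the generic point are finite. -/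
theorem finite_of_generic_notMem {C : Scheme.{u}} [IsIntegral C] [IsNoetherian C] (hdim : topologicalKrullDim C = 1)
    (S : Set C) (hS : IsClosed S) (h : genericPoint C ∉ S) : S.Finite :=
  K480.FinHor.finite_of_closed_points hS fun y hy =>
    Groth.Agent.Models.H55.IntFib.isClosed_of_ne hdim y (fun e => h (e ▸ hy))

/-- Nonzerodivisors in the local ring of a product of prime divisors at a point lying on only one of them. -/
theorem hreg_aux {X Z C : Scheme.{u}} [∀ x : X, IsDomain (X.presheaf.stalk x)] [IsIntegral C] (z : Z ⟶ X)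
    [IsClosedImmersion z] (g : C ⟶ Z) [IsClosedImmersion g] (hE : BlowUp.IsEffCartierIdeal (g ≫ z).ker) (a : C) (m : ℕ)
    (hz : stalkIdeal z.ker (z (g a)) = stalkIdeal (g ≫ z).ker (z (g a)) ^ m) (t : Z.presheaf.stalk (g a))
    (ht : g.stalkMap a t ≠ 0) : t ∈ nonZeroDivisors (Z.presheaf.stalk (g a)) := by
  obtain ⟨f, hf, hf'⟩ := exists_stalkIdeal_eq_span hE (z (g a))
  have hk : RingHom.ker ((g ≫ z).stalkMap a).hom = stalkIdeal (g ≫ z).ker ((g ≫ z) a) :=
    Divis.CartierStalk.ker_stalkMap (g ≫ z) a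
  have hpr : (RingHom.ker ((g ≫ z).stalkMap a).hom).IsPrime := RingHom.ker_isPrime _
  have hpr' : (Ideal.span {f}).IsPrime := by
    rw [← hf']
    have h1 : stalkIdeal (g ≫ z).ker ((g ≫ z) a) = stalkIdeal (g ≫ z).ker (z (g a)) := rfl
    rw [← h1, ← hk]
    exact hpr
  have hfp : Prime f := (Ideal.span_singleton_prime (nonZeroDivisors.ne_zero hf)).1 hpr'
  obtain ⟨s, rfl⟩ := z.stalkMap_surjective (g a) t
  refine mem_nonZeroDivisors (z.stalkMap (g a)).hom (z.stalkMap_surjective (g a)) hfp m ?_ s ?_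
  · rw [Divis.CartierStalk.ker_stalkMap z (g a), hz, hf']
  · intro hd
    apply ht
    have h2 : s ∈ RingHom.ker ((g ≫ z).stalkMap a).hom := by
      rw [hk]
      have h1 : stalkIdeal (g ≫ z).ker ((g ≫ z) a) = stalkIdeal (g ≫ z).ker (z (g a)) := rfl
      rw [h1, hf']
      exact Ideal.mem_span_singleton.2 hd
    rw [RingHom.mem_ker, Scheme.Hom.stalkMap_comp] at h2
    exact h2

theorem isAffine_subscheme {Z : Scheme.{u}} [IsNoetherian Z] (I : Z.IdealSheafData)
    (h : ∀ q ∈ I.support, IsClosed ({q} : Set Z)) : IsAffine I.subscheme := by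
  have h1 : T1Space I.subscheme := by
    refine ⟨fun x => ?_⟩
    have h2 : I.subschemeι x ∈ I.support := by
      have h3 : I.subschemeι x ∈ Set.range I.subschemeι := ⟨x, rfl⟩
      rw [Scheme.IdealSheafData.range_subschemeι] at h3
      exact h3
    have h4 := (h _ h2).preimage I.subschemeι.continuous
    convert h4
    ext y
    simp only [Set.mem_singleton_iff, Set.mem_preimage]
    exact I.subschemeι.isClosedEmbedding.injective.eq_iff.symm
  have h5 : IsLocallyNoetherian I.subscheme := LocallyOfFiniteType.isLocallyNoetherian I.subschemeι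
  have h6 : CompactSpace I.subscheme := QuasiCompact.compactSpace_of_compactSpace I.subschemeι
  have h7 : IsNoetherian I.subscheme := ⟨⟩
  exact (S2261.result I.subscheme).1

theorem dim_le_one {X Z : Scheme.{u}} [IsIntegral X] (hdim : topologicalKrullDim X = 2) (z : Z ⟶ X)
    [IsClosedImmersion z] (h : genericPoint X ∉ Set.range z) : topologicalKrullDim Z ≤ 1 := by
  have h1 : topologicalKrullDim (Set.range z) < topologicalKrullDim X :=
    K284.TopDim.dim_lt_of_isClosed_of_irreducible (by
        rw [hdim]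
        intro e
        have e' : (2 : ℕ∞) = ⊤ := WithBot.coe_injective e
        exact absurd e' (by decide)) _
      z.isClosedEmbedding.isClosed_range (fun e => h (e ▸ Set.mem_univ _))
  rw [hdim] at h1
  have h2 : topologicalKrullDim Z ≤ topologicalKrullDim (Set.range z) :=
    (z.isClosedEmbedding.isEmbedding.toHomeomorph.isClosedEmbedding.isInducing).topologicalKrullDim_le
  have h3 : topologicalKrullDim Z < 2 := h2.trans_lt h1
  induction hx : topologicalKrullDim Z using WithBot.recBotCoe with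
  | bot => exact bot_le
  | coe a =>
    rw [hx] at h3
    have h4 : a < 2 := WithBot.coe_lt_coe.1 h3
    have h5 : a ≤ 1 := by
      have h6 : a < 1 + 1 := by rw [one_add_one_eq_two]; exact h4
      exact (ENat.lt_add_one_iff (by decide)).1 h6
    exact WithBot.coe_le_coe.2 h5

section Main

variable (R : Type u) [CommRing R] [IsDomain R] [IsDiscreteValuationRing R]

open Groth.Agent.Grpsch.PicGrp Groth.Agent.Fdesc.LocGen

/-- Invertible modules with nonnegative degrees on a vertical divisor `Z` with `H¹(O_Z) = 0` are `O_Z(D)` up to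
numerical equivalence, for `D` a finite effective Cartier divisor. -/
theorem exists_divisor [Infinite (IsLocalRing.ResidueField R)]
    (X : Over (Spec (CommRingCat.of R))) (hX : ArSurf.IsArithSurface R X)
    (Z : Scheme.{u}) (z : Z ⟶ X.left) [IsClosedImmersion z] (hZ : BlowUp.IsEffCartierIdeal z.ker)
    (hvert : Set.range z.base ⊆ Models.specialFibreSet R X)
    (hH1 : Subsingleton (Coh.HH Z (Coh.structureModule Z) 1))
    (L : Z.Modules) (hL : PicF.IsInvertible L)
    (hdeg : ∀ (Γ : ArSurf.VertComp R X) (g : Γ.curve.left ⟶ Z), g ≫ z = Γ.ι →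
      0 ≤ ArSurf.curveDeg (IsLocalRing.ResidueField R) Γ.curve.left ((Scheme.Modules.pullback g).obj L)) :
    ∃ I : Z.IdealSheafData, BlowUp.IsEffCartierIdeal I ∧ IsAffine I.subscheme ∧
      ∀ (Γ : ArSurf.VertComp R X) (g : Γ.curve.left ⟶ Z), g ≫ z = Γ.ι →
        Nonempty ((Scheme.Modules.pullback g).obj (CohB1.tensorMod L (ClSub.idealMod I)) ≅
          Coh.structureModule Γ.curve.left) := by
  have hpr : IsProper X.hom := Dix.SurfBasic.isProper hX
  have hXN := Dix.SurfBasic.isNoetherian hX
  have hXi := hX.2.1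
  have hfl := hX.2.2.2.1
  have hZN : IsNoetherian Z := by
    have h1 : IsLocallyNoetherian Z := LocallyOfFiniteType.isLocallyNoetherian z
    have h2 : CompactSpace Z := QuasiCompact.compactSpace_of_compactSpace z
    exact ⟨⟩
  obtain ⟨n, Δ, hΔ⟩ := NegDef.exists_componentList hXi hX.2.2.1 hfl hpr
  have hc : ∀ i, BlowUp.IsEffCartierIdeal (Δ i).ι.ker := fun i =>
    Models.H36.FibreFact.isEffCartier_ker hX.1 (Δ i) (Models.H36.FibreFact.range_mem_fibreComponents hΔ i)
  have hsuppz : (z.ker.support : Set X.left) = Set.range z := by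
    rw [Scheme.Hom.support_ker, z.isClosedEmbedding.isClosed_range.closure_eq]
  obtain ⟨m, hm⟩ := Models.H38.TrivGen.exists_prod_ker_pow X Δ hΔ hc hZ (by rw [hsuppz]; exact hvert)
  have hmem : ∀ (Γ : ArSurf.VertComp R X) (x : X.left), x ∈ Γ.ι.ker.support ↔ x ∈ Set.range Γ.ι := fun Γ x =>
    Dix.VertGeom.mem_support_ker_iff Γ.ι x
  -- the components in `Z`
  let κ : Type := {i : Fin n // ∃ g : (Δ i).curve.left ⟶ Z, g ≫ z = (Δ i).ι}
  have hκ : ∀ i, m i ≠ 0 → ∃ g : (Δ i).curve.left ⟶ Z, g ≫ z = (Δ i).ι := by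
    intro i hi
    have hle : z.ker ≤ (Δ i).ι.ker := by
      rw [hm, ← Finset.mul_prod_erase _ _ (Finset.mem_univ i)]
      refine (mul_le_of_le_one_right' (by rw [Scheme.IdealSheafData.one_eq_top]; exact le_top)).trans ?_
      obtain ⟨j, hj⟩ := Nat.exists_eq_succ_of_ne_zero hi
      rw [hj, pow_succ]
      exact mul_le_of_le_one_left' (by rw [Scheme.IdealSheafData.one_eq_top]; exact le_top)
    exact ⟨IsClosedImmersion.lift z (Δ i).ι hle, IsClosedImmersion.lift_fac _ _ _⟩
  let g : ∀ k : κ, (Δ k.1).curve.left ⟶ Z := fun k => k.2.choose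
  have hg : ∀ k : κ, g k ≫ z = (Δ k.1).ι := fun k => k.2.choose_spec
  have hgc : ∀ k : κ, IsClosedImmersion (g k) := fun k => by
    have : IsClosedImmersion (g k ≫ z) := by rw [hg]; infer_instance
    exact IsClosedImmersion.of_comp (g k) z
  have hgz : ∀ (k : κ) (a : (Δ k.1).curve.left), z (g k a) = (Δ k.1).ι a := fun k a => by
    rw [← Scheme.Hom.comp_apply, hg]
  -- the points on several components
  let T : ∀ k : κ, Set (Δ k.1).curve.left := fun k => ⋃ l : {l : κ // l ≠ k}, (g k) ⁻¹' (Set.range (g l.1))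
  have hTfin : ∀ k, (T k).Finite := by
    intro k
    have hCN : IsNoetherian (Δ k.1).curve.left := by
      have h1 : IsLocallyNoetherian (Δ k.1).curve.left := LocallyOfFiniteType.isLocallyNoetherian (Δ k.1).ι
      have h2 : CompactSpace (Δ k.1).curve.left := QuasiCompact.compactSpace_of_compactSpace (Δ k.1).ι
      exact ⟨⟩
    refine finite_of_generic_notMem (Δ k.1).dim_eq _ ?_ ?_
    · exact isClosed_iUnion_of_finite fun l => (g l.1).isClosedEmbedding.isClosed_range.preimage (g k).continuous
    · intro h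
      obtain ⟨⟨l, hl⟩, b, hb⟩ := Set.mem_iUnion.1 h
      refine Models.H36.FibreFact.genPt_notMem_range hΔ (i := k.1) (j := l.1) (fun e => hl (Subtype.ext e.symm)) ?_
      refine ⟨b, ?_⟩
      change (Δ l.1).ι b = (Δ k.1).ι (genericPoint _)
      rw [← hgz l b, ← hgz k, hb]
  -- the divisors on the components
  have hdimZ : topologicalKrullDim Z ≤ 1 := by
    refine dim_le_one hX.2.2.1 z fun h => ?_
    have h1 : X.hom (genericPoint X.left) = (IsLocalRing.closedPoint R : PrimeSpectrum R) := hvert h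
    have h2 := Dix.GenFibre.asIdeal_hom_genericPoint X
    rw [h1] at h2
    exact IsDiscreteValuationRing.not_a_field R h2
  have hJ : ∀ k : κ, ∃ J : (Δ k.1).curve.left.IdealSheafData, BlowUp.IsEffCartierIdeal J ∧
      ClSub.IsInverseOf ((Scheme.Modules.pullback (g k)).obj L) (ClSub.idealMod J) ∧
      IsAffine J.subscheme ∧ ∀ t ∈ T k, t ∉ J.support := by
    intro k
    have := Models.H65.PicDeg.isProper_curve (Δ k.1)
    exact GGCurve.exists_divisor (IsLocalRing.ResidueField R) (Δ k.1).dim_eq.le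
      (H1_structure hdimZ (g k) hH1) (isInvertible_pullback (g k) hL) (hdeg (Δ k.1) (g k) (hg k)) (T k) (hTfin k)
  choose J hJe hJi hJa hJT using hJ
  have hdis : ∀ (k : κ) (a : (Δ k.1).curve.left), a ∈ (J k).support → ∀ l : κ, l ≠ k →
      ∀ b : (Δ l.1).curve.left, g l b ≠ g k a := by
    intro k a ha l hl b hb
    exact hJT k a (Set.mem_iUnion.2 ⟨⟨l, hl⟩, b, hb⟩) ha
  have hcov : ∀ q : Z, ∃ k : κ, ∃ a : (Δ k.1).curve.left, g k a = q := by
    intro q
    have h1 : z q ∈ z.ker.support := z.range_subset_ker_support ⟨q, rfl⟩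
    rw [hm] at h1
    obtain ⟨j, -, hj0, hj⟩ := Dix.IdealQuot.support_prod (fun j => (Δ j).ι.ker) Finset.univ m (z q) h1
    obtain ⟨a, ha⟩ := (hmem (Δ j) (z q)).1 hj
    refine ⟨⟨j, hκ j hj0⟩, a, z.isClosedEmbedding.injective ?_⟩
    rw [hgz]
    exact ha
  have hdom : ∀ x : X.left, IsDomain (X.left.presheaf.stalk x) := fun x => inferInstance
  obtain ⟨I, hI, hIJ, hIs⟩ := LiftDiv.exists_ideal g J (fun k => (Δ k.1).dim_eq) hJe hcov hdis (by
    intro k a ha t ht
    refine hreg_aux z (g k) (by rw [hg]; exact hc k.1) a (m k.1) ?_ t ht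
    rw [hg k, hm, Models.H36.FibreFact.stalkIdeal_prod, ← Finset.mul_prod_erase _ _ (Finset.mem_univ k.1),
      stalkIdeal_pow]
    have h2 : ∏ j ∈ Finset.univ.erase k.1, stalkIdeal ((Δ j).ι.ker ^ m j) (z (g k a)) = 1 := by
      refine Finset.prod_eq_one fun j hj => ?_
      rw [stalkIdeal_pow]
      by_cases hmj : m j = 0
      · rw [hmj, pow_zero]
      · have h3 : z (g k a) ∉ (Δ j).ι.ker.support := by
          rw [hmem]
          rintro ⟨b, hb⟩
          let l : κ := ⟨j, hκ j hmj⟩
          have hl : l ≠ k := fun e => (Finset.mem_erase.1 hj).1 (congrArg Subtype.val e)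
          refine hdis k a ha l hl b (z.isClosedEmbedding.injective ?_)
          rw [hgz l b]
          exact hb
        rw [(notMem_support_iff_stalkIdeal_eq_top _ _).1 h3, ← Ideal.one_eq_top, one_pow]
    rw [h2, mul_one])
  refine ⟨I, hI, ?_, ?_⟩
  · refine isAffine_subscheme I fun q hq => ?_
    have hq' : q ∈ (I.support : Set Z) := hq
    rw [hIs] at hq'
    obtain ⟨k, a, ha, rfl⟩ := Set.mem_iUnion.1 hq'
    have h1 : IsClosed ({a} : Set (Δ k.1).curve.left) := by
      refine Groth.Agent.Models.H55.IntFib.isClosed_of_ne (Δ k.1).dim_eq a ?_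
      rintro rfl
      obtain ⟨c, hc1, hc2⟩ := exists_stalkIdeal_eq_span (hJe k) (genericPoint (Δ k.1).curve.left)
      have h2 := (mem_support_iff_stalkIdeal_ne_top (J k) _).1 ha
      apply h2
      rw [hc2, Ideal.span_singleton_eq_top]
      have hf : IsField ((Δ k.1).curve.left.presheaf.stalk (genericPoint (Δ k.1).curve.left)) := Field.toIsField _
      obtain ⟨d, hd⟩ := hf.mul_inv_cancel (nonZeroDivisors.ne_zero hc1)
      exact IsUnit.of_mul_eq_one _ hd
    have h2 := (g k).isClosedEmbedding.isClosedMap _ h1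
    rwa [Set.image_singleton] at h2
  · have hmain : ∀ k : κ, Nonempty ((Scheme.Modules.pullback (g k)).obj (CohB1.tensorMod L (ClSub.idealMod I)) ≅
        Coh.structureModule (Δ k.1).curve.left) := by
      intro k
      have hIi := Dix.IdealModCartier.isInvertible_idealMod hI
      have hJi' := Dix.IdealModCartier.isInvertible_idealMod (hJe k)
      have h1 : pull (g k) (mk (ClSub.idealMod I) hIi) = mk (ClSub.idealMod (J k)) hJi' := by
        rw [pull_mk, mk_eq_iff]
        have h2 := Dix.IdealModCartier.pullback_idealMod (g k) hI (by rw [hIJ k]; exact hJe k)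
        rw [hIJ k] at h2
        exact h2
      have h3 : pull (g k) (mk (CohB1.tensorMod L (ClSub.idealMod I)) (isInvertible_tensorMod hL hIi)) = 1 := by
        rw [← mk_mul_mk hL hIi, map_mul, h1, pull_mk, mk_mul_mk, mk_eq_one_iff]
        exact hJi k
      rw [pull_mk, mk_eq_one_iff] at h3
      exact h3
    intro Γ g' hg'
    obtain ⟨i, hi⟩ := NegDef.exists_ker_eq hΔ Γ
    obtain ⟨e, he⟩ := Dix.InterSurf.exists_iso_of_ker_eq Γ.ι (Δ i).ι hi
    let k : κ := ⟨i, e.inv ≫ g', by rw [Category.assoc, hg', ← he, Iso.inv_hom_id_assoc]⟩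
    have h1 : e.hom ≫ g k = g' := by
      rw [← cancel_mono z, Category.assoc, hg, he, hg']
    obtain ⟨φ⟩ := hmain k
    exact ⟨(Scheme.Modules.pullbackCongr h1.symm).app _ ≪≫
      ((Scheme.Modules.pullbackComp e.hom (g k)).app _).symm ≪≫ (Scheme.Modules.pullback e.hom).mapIso φ ≪≫
      Fga.UnitRestrict.pullbackUnitIso e.hom⟩

end Main

end K480.VertGG
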